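import Mathlib
import Cfsg.Prelude.Def_EvenType
import Cfsg.Agent.SignalizersComponents.Components
import Cfsg.Agent.SignalizersComponents.PCompCore
import Cfsg.Agent.Schreier.Basic
import Cfsg.Agent.SignalizersComponents.CharP

/-!
# Components of subgroups, in the ambient group (S3544)
-/

set_option autoImplicit false
set_option linter.unusedSectionVars false

namespace Cfsg.Agent.R2.T3544

open Subgroup Cfsg
open Cfsg.Agent.SignalizersComponents.Components

variable {G : Type*} [Group G]

/-! ### Subnormal subgroups of subgroups -/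

/-- `N ≤ A` and `N` is subnormal in `A`. -/
def SubnIn (N A : Subgroup G) : Prop := N ≤ A ∧ (N.subgroupOf A).IsSubnormal

theorem SubnIn.le {N A : Subgroup G} (h : SubnIn N A) : N ≤ A := h.1

theorem SubnIn.refl (A : Subgroup G) : SubnIn A A := by
  refine ⟨le_rfl, ?_⟩
  rw [subgroupOf_self]
  exact IsSubnormal.top

theorem SubnIn.of_normal {N A : Subgroup G} (h : N ≤ A) (hn : A ≤ normalizer (N : Set G)) : SubnIn N A :=
  ⟨h, Normal.isSubnormal (by rw [normal_subgroupOf_iff_le_normalizer h]; exact hn)⟩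

/-- intersecting with a subgroup -/
theorem SubnIn.inf {N A : Subgroup G} (h : SubnIn N A) (B : Subgroup G) : SubnIn (N ⊓ B) (A ⊓ B) := by
  refine ⟨inf_le_inf_right _ h.1, ?_⟩
  have h1 := h.2.comap (Subgroup.inclusion (inf_le_left : A ⊓ B ≤ A))
  have e : (N.subgroupOf A).comap (Subgroup.inclusion (inf_le_left : A ⊓ B ≤ A)) =
      (N ⊓ B).subgroupOf (A ⊓ B) := by
    ext x
    simp only [mem_comap, mem_subgroupOf, mem_inf, coe_inclusion]
    exact ⟨fun h2 => ⟨h2, x.2.2⟩, fun h2 => h2.1⟩
  rwa [e] at h1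

theorem SubnIn.mono {N A B : Subgroup G} (h : SubnIn N A) (hNB : N ≤ B) (hBA : B ≤ A) : SubnIn N B := by
  have h1 := h.inf B
  rwa [inf_eq_left.2 hNB, inf_eq_right.2 hBA] at h1

theorem SubnIn.trans {N M A : Subgroup G} (h : SubnIn N M) (h' : SubnIn M A) : SubnIn N A := by
  refine ⟨h.1.trans h'.1, ?_⟩
  have h1 : (M.subgroupOf A).IsSubnormal := h'.2
  let e : M ≃* M.subgroupOf A := (subgroupOfEquivOfLe h'.1).symm
  have h2 := (h.2.map (f := e.toMonoidHom) e.surjective).trans' h1
  convert h2 using 1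
  ext x
  constructor
  · intro hx
    refine ⟨⟨x, h.1 hx⟩, ⟨⟨x, h.1 hx⟩, hx, rfl⟩, rfl⟩
  · rintro ⟨_, ⟨y, hy, rfl⟩, rfl⟩
    exact hy

theorem SubnIn.conj {N A : Subgroup G} (h : SubnIn N A) (g : G) :
    SubnIn (N.map (MulAut.conj g).toMonoidHom) (A.map (MulAut.conj g).toMonoidHom) := by
  refine ⟨map_mono h.1, ?_⟩
  let e : A ≃* A.map (MulAut.conj g).toMonoidHom :=
    A.equivMapOfInjective (MulAut.conj g).toMonoidHom (MulAut.conj g).injective
  have h2 := h.2.map (f := e.toMonoidHom) e.surjective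
  convert h2 using 1
  ext x
  constructor
  · intro hx
    obtain ⟨y, hy, hyx⟩ := mem_subgroupOf.1 hx
    exact ⟨⟨y, h.1 hy⟩, hy, Subtype.ext hyx⟩
  · rintro ⟨y, hy, rfl⟩
    exact ⟨y, hy, rfl⟩

/-- `|N : N ∩ D|` divides `|A : A ∩ D|` for `N` subnormal in `A` -/
theorem SubnIn.relIndex_dvd [Finite G] {N A : Subgroup G} (h : SubnIn N A) (D : Subgroup G) :
    D.relIndex N ∣ D.relIndex A := by
  have h1 := SignalizersComponents.PCompCore.relIndex_dvd_index_of_subnormal (D.subgroupOf A) h.2
  rwa [relIndex_subgroupOf h.1] at h1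

/-! ### Components -/

theorem isComponentOf_iff {K A : Subgroup G} : IsComponentOf K A ↔ SubnIn K A ∧ IsQuasisimple K := by
  constructor
  · rintro ⟨h1, h2⟩
    exact ⟨⟨h1, h2.1⟩, isQuasisimple_of_mulEquiv (subgroupOfEquivOfLe h1) h2.2⟩
  · rintro ⟨h1, h2⟩
    exact ⟨h1.1, h1.2, isQuasisimple_of_mulEquiv (subgroupOfEquivOfLe h1.1).symm h2⟩

theorem CompOf.subn {K A : Subgroup G} (h : IsComponentOf K A) : SubnIn K A := (isComponentOf_iff.1 h).1

theorem CompOf.conj {K A : Subgroup G} (h : IsComponentOf K A) (g : G) :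
    IsComponentOf (K.map (MulAut.conj g).toMonoidHom) (A.map (MulAut.conj g).toMonoidHom) := by
  rw [isComponentOf_iff] at h ⊢
  refine ⟨h.1.conj g, isQuasisimple_of_mulEquiv ?_ h.2⟩
  exact K.equivMapOfInjective (MulAut.conj g).toMonoidHom (MulAut.conj g).injective

theorem CompOf.mono {K A B : Subgroup G} (h : IsComponentOf K A) (h1 : K ≤ B) (h2 : B ≤ A) :
    IsComponentOf K B := by
  rw [isComponentOf_iff] at h ⊢
  exact ⟨h.1.mono h1 h2, h.2⟩

theorem CompOf.trans {K A B : Subgroup G} (h : IsComponentOf K B) (h1 : SubnIn B A) :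
    IsComponentOf K A := by
  rw [isComponentOf_iff] at h ⊢
  exact ⟨h.1.trans h1, h.2⟩

theorem commutator_subgroupOf_eq_bot {K L A : Subgroup G} (hK : K ≤ A) (hL : L ≤ A) :
    ⁅K.subgroupOf A, L.subgroupOf A⁆ = ⊥ ↔ ⁅K, L⁆ = ⊥ := by
  rw [← map_eq_bot_iff_of_injective _ A.subtype_injective, map_commutator,
    map_subgroupOf_eq_of_le hK, map_subgroupOf_eq_of_le hL]

theorem CompOf.le_or_comm {K N A : Subgroup G} (h : IsComponentOf K A) (hN : SubnIn N A) :
    K ≤ N ∨ ⁅K, N⁆ = ⊥ := by
  rcases component_le_or_commutator_eq_bot h.2 hN.2 with h1 | h1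
  · left
    intro x hx
    exact mem_subgroupOf.1 (h1 (x := ⟨x, h.1 hx⟩) (mem_subgroupOf.2 hx))
  · right
    exact (commutator_subgroupOf_eq_bot h.1 hN.1).1 h1

theorem CompOf.comm_of_ne {K L A : Subgroup G} (h : IsComponentOf K A) (h' : IsComponentOf L A)
    (hne : K ≠ L) : ⁅K, L⁆ = ⊥ := by
  rcases CompOf.le_or_comm h (CompOf.subn h') with h1 | h1
  · rcases CompOf.le_or_comm h' (CompOf.subn h) with h2 | h2
    · exact absurd (le_antisymm h1 h2) hne
    · rwa [commutator_comm]
  · exact h1

theorem CompOf.ne_bot {K A : Subgroup G} (h : IsComponentOf K A) : K ≠ ⊥ := by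
  rintro rfl
  have := quasisimple_nontrivial (isComponentOf_iff.1 h).2
  exact not_nontrivial _ this

/-- If the Fitting subgroup is trivial, components are simple. -/
theorem component_simple {G : Type*} [Group G] [Finite G] (hF : fittingSubgroup G = ⊥)
    {L : Subgroup G} (hL : IsComponent L) : IsSimpleGroup L := by
  have h1 : ((center L).map L.subtype).IsSubnormal := by
    have h2 : (center L).IsSubnormal := Subgroup.Normal.isSubnormal inferInstance
    exact h2.trans' hL.1
  have h2 : Group.IsNilpotent ((center L).map L.subtype : Subgroup G) := by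
    have : Group.IsNilpotent (center L) := by
      let : CommGroup (center L) :=
        { (inferInstance : Group (center L)) with
          mul_comm := fun a b => Subtype.ext (mem_center_iff.1 b.2 a) }
      exact CommGroup.isNilpotent
    exact Group.nilpotent_of_mulEquiv ((center L).equivMapOfInjective L.subtype L.subtype_injective)
  have h3 := SignalizersComponents.CharP.subnormal_nilpotent_le_fitting h1 h2
  rw [hF, le_bot_iff, Subgroup.map_eq_bot_iff_of_injective _ L.subtype_injective] at h3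
  have h4 := hL.2.2
  have e : (L ⧸ center L) ≃* L :=
    (QuotientGroup.quotientMulEquivOfEq h3).trans QuotientGroup.quotientBot
  exact (MulEquiv.isSimpleGroup_congr e).mp h4

/-- components of a group with trivial Fitting subgroup are simple -/
theorem CompOf.simple [Finite G] {K A : Subgroup G} (hF : fittingSubgroup A = ⊥) (h : IsComponentOf K A) :
    IsSimpleGroup K := by
  have h1 := component_simple hF h.2
  exact (MulEquiv.isSimpleGroup_congr (subgroupOfEquivOfLe h.1)).mp h1

theorem CompOf.noncomm {K A : Subgroup G} (h : IsComponentOf K A) : ¬ IsMulCommutative K :=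
  quasisimple_not_isMulCommutative (isComponentOf_iff.1 h).2

theorem CompOf.comm_self {K A : Subgroup G} (h : IsComponentOf K A) : ⁅K, K⁆ = K :=
  haveI := (isComponentOf_iff.1 h).2.1
  Subgroup.commutator_eq_self (H := K)

end Cfsg.Agent.R2.T3544
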