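import Mathlib
import Cfsg.Agent.R2.T3544.Comp

/-!
# A simple subnormal subgroup acting on a component (S3544)
-/

set_option autoImplicit false
set_option linter.unusedSectionVars false

namespace Cfsg.Agent.R2.T3544

open Subgroup Cfsg
open scoped commutatorElement
open Cfsg.Agent.SignalizersComponents.Components

variable {G : Type*} [Group G]

/-- a subgroup meeting `D` trivially and normalising it: its order divides the index of `D` -/
theorem card_dvd_index [Finite G] {E D : Subgroup G} (hn : E ≤ normalizer (D : Set G)) (h : D ⊓ E = ⊥) :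
    Nat.card E ∣ D.index := by
  set N := normalizer (D : Set G) with hN
  have hDN : D ≤ N := le_normalizer
  have hnor : (D.subgroupOf N).Normal := normal_subgroupOf_of_le_normalizer le_rfl
  have h1 := relIndex_dvd_index_of_normal (D.subgroupOf N) (E.subgroupOf N)
  rw [relIndex_subgroupOf hn] at h1
  have h2 : D.relIndex E = Nat.card E := by
    rw [← inf_relIndex_right, h, relIndex_bot_left]
  rw [h2] at h1
  refine h1.trans ?_
  rw [← relIndex_mul_index hDN, relIndex]
  exact Dvd.intro _ rfl

/-- A simple nonabelian group `S` normalising the simple group `T`, not centralising `T` but centralising `D ≤ T`: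
`|S|` divides `|T : D|`. -/
theorem card_dvd_of_normalizes [Finite G] {S T D : Subgroup G} (hSs : IsSimpleGroup S)
    (hSn : ¬ IsMulCommutative S) (hTs : IsSimpleGroup T) (hTn : ¬ IsMulCommutative T)
    (hSch : Schreier.Basic.Sch T) (hST : S ≤ normalizer (T : Set G)) (hne : ⁅S, T⁆ ≠ ⊥)
    (hDT : D ≤ T) (hD : ⁅S, D⁆ = ⊥) : Nat.card S ∣ D.relIndex T := by
  -- the action
  let φ : S →* MulAut T := T.normalizerMonoidHom.comp (inclusion hST)
  have hφ : ∀ (s : S) (t : T), ((φ s t : T) : G) = s * t * (s : G)⁻¹ := fun s t => rfl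
  have hinj : Function.Injective φ := by
    rw [← MonoidHom.ker_eq_bot_iff]
    rcases hSs.eq_bot_or_eq_top_of_normal φ.ker inferInstance with h | h
    · exact h
    · exfalso
      apply hne
      rw [commutator_eq_bot_iff_le_centralizer]
      intro s hs
      rw [mem_centralizer_iff]
      intro t ht
      have h1 : φ ⟨s, hs⟩ = 1 := by
        rw [← MonoidHom.mem_ker, h]
        trivial
      have h2 := hφ ⟨s, hs⟩ ⟨t, ht⟩
      rw [h1] at h2
      have h3 : t = s * t * s⁻¹ := h2
      calc t * s = s * t * s⁻¹ * s := by rw [← h3]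
        _ = s * t := by group
  -- conj on `T` is injective
  have hZ : center T = ⊥ := by
    rcases hTs.eq_bot_or_eq_top_of_normal (center T) inferInstance with h | h
    · exact h
    · exfalso
      apply hTn
      rw [isMulCommutative_iff]
      intro a b
      have : a ∈ center T := by rw [h]; trivial
      exact (mem_center_iff.1 this b).symm
  have hconj : Function.Injective (MulAut.conj : T →* MulAut T) := by
    rw [← MonoidHom.ker_eq_bot_iff, eq_bot_iff]
    intro t ht
    rw [MonoidHom.mem_ker] at ht
    rw [← hZ, mem_center_iff]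
    intro u
    have h1 : t * u * t⁻¹ = u := by
      have := congrArg (fun f : MulAut T => f u) ht
      simpa using this
    calc u * t = t * u * t⁻¹ * t := by rw [h1]
      _ = t * u := by group
  have hSperf : ⁅(⊤ : Subgroup S), (⊤ : Subgroup S)⁆ = ⊤ := by
    rcases hSs.eq_bot_or_eq_top_of_normal ⁅(⊤ : Subgroup S), (⊤ : Subgroup S)⁆ inferInstance with h | h
    · exfalso
      apply hSn
      rw [isMulCommutative_iff]
      intro a b
      have h1 : ⁅a, b⁆ ∈ ⁅(⊤ : Subgroup S), (⊤ : Subgroup S)⁆ := commutator_mem_commutator trivial trivial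
      rw [h, mem_bot, commutatorElement_eq_one_iff_mul_comm] at h1
      exact h1
    · exact h
  have hC : ⁅φ.range, φ.range⁆ = φ.range := by
    rw [MonoidHom.range_eq_map, ← map_commutator, hSperf]
  have hinn := hSch _ hC
  -- the subgroup of `T` inducing the same automorphisms
  let E : Subgroup T := φ.range.comap (MulAut.conj : T →* MulAut T)
  have hEmap : E.map (MulAut.conj : T →* MulAut T) = φ.range := by
    rw [map_comap_eq, inf_eq_right]
    exact hinn
  have hcard : Nat.card E = Nat.card S := by
    rw [← card_map_of_injective hconj, hEmap]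
    exact Nat.card_congr (MonoidHom.ofInjective hinj).toEquiv.symm
  have hcomm : ∀ e ∈ E, ∀ d ∈ D.subgroupOf T, e * d = d * e := by
    intro e he d hd
    obtain ⟨s, hs⟩ := he
    have h1 : ((φ s d : T) : G) = s * d * (s : G)⁻¹ := hφ s d
    have h2 : (s : G) * d = d * s := by
      have h3 : ⁅(s : G), (d : G)⁆ ∈ ⁅S, D⁆ := commutator_mem_commutator s.2 (mem_subgroupOf.1 hd)
      rw [hD, mem_bot, commutatorElement_eq_one_iff_mul_comm] at h3
      exact h3
    rw [h2, mul_inv_cancel_right] at h1
    have h4 : φ s d = d := Subtype.ext h1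
    rw [hs] at h4
    have h5 : e * d * e⁻¹ = d := h4
    calc e * d = e * d * e⁻¹ * e := by group
      _ = d * e := by rw [h5]
  have hED : D.subgroupOf T ⊓ E = ⊥ := by
    rw [eq_bot_iff]
    rintro z ⟨hz1, hz2⟩
    obtain ⟨s, hs⟩ : ∃ s, φ s = MulAut.conj z := hz2
    -- `s` is central in `S`
    have h1 : s ∈ center S := by
      rw [mem_center_iff]
      intro u
      obtain ⟨e, he⟩ : ∃ e : T, MulAut.conj e = φ u := hinn ⟨u, rfl⟩
      have heE : e ∈ E := ⟨u, he.symm⟩
      apply hinj
      rw [map_mul, map_mul, hs, ← he, ← map_mul, ← map_mul, hcomm e heE z hz1]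
    have h2 : center S = ⊥ := by
      rcases hSs.eq_bot_or_eq_top_of_normal (center S) inferInstance with h | h
      · exact h
      · exfalso
        apply hSn
        rw [isMulCommutative_iff]
        intro a b
        have : a ∈ center S := by rw [h]; trivial
        exact (mem_center_iff.1 this b).symm
    rw [h2, mem_bot] at h1
    rw [h1, map_one] at hs
    rw [mem_bot]
    apply hconj
    rw [map_one, ← hs]
  have hn : E ≤ normalizer ((D.subgroupOf T : Subgroup T) : Set T) := by
    refine le_trans ?_ (centralizer_le_normalizer _)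
    intro e he
    rw [mem_centralizer_iff]
    intro d hd
    exact (hcomm e he d hd).symm
  have := card_dvd_index hn hED
  rwa [hcard] at this

/-- `S` moves `T` and centralises `D`: `D = 1`. -/
theorem eq_bot_of_moves {S T D : Subgroup G} (hDT : D ≤ T) (hD : ⁅S, D⁆ = ⊥) {s : G} (hs : s ∈ S)
    (hcomm : ⁅T, T.map (MulAut.conj s).toMonoidHom⁆ = ⊥) (hZ : T ⊓ centralizer (T : Set G) = ⊥) : D = ⊥ := by
  rw [eq_bot_iff]
  intro d hd
  rw [← hZ]
  refine ⟨hDT hd, ?_⟩
  have h1 : s * d * s⁻¹ = d := by
    have h3 : ⁅s, d⁆ ∈ ⁅S, D⁆ := commutator_mem_commutator hs hd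
    rw [hD, mem_bot, commutatorElement_eq_one_iff_mul_comm] at h3
    rw [h3]
    group
  have h2 : d ∈ T.map (MulAut.conj s).toMonoidHom := ⟨d, hDT hd, h1⟩
  rw [commutator_comm, commutator_eq_bot_iff_le_centralizer] at hcomm
  exact hcomm h2

theorem inf_centralizer_eq_bot {T : Subgroup G} (hTs : IsSimpleGroup T) (hTn : ¬ IsMulCommutative T) :
    T ⊓ centralizer (T : Set G) = ⊥ := by
  rcases hTs.eq_bot_or_eq_top_of_normal (center T) inferInstance with h | h
  · rw [eq_bot_iff]
    rintro x ⟨hx1, hx2⟩
    have h1 : (⟨x, hx1⟩ : T) ∈ center T := by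
      rw [mem_center_iff]
      intro y
      exact Subtype.ext (mem_centralizer_iff.1 hx2 y y.2)
    rw [h, mem_bot] at h1
    exact congrArg Subtype.val h1
  · exfalso
    apply hTn
    rw [isMulCommutative_iff]
    intro a b
    have : a ∈ center T := by rw [h]; trivial
    exact (mem_center_iff.1 this b).symm

/-- **INNER LEMMA.** `S` a simple component of `A`, contained in `B`, `T` a simple component of `B`, `[S, T] ≠ 1`.
Then `S ≤ T`, or `|T|` or `|S|` divides `|B : A ∩ B|`. -/
theorem inner [Finite G] {A B S T : Subgroup G} (hS : IsComponentOf S A) (hSB : S ≤ B)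
    (hT : IsComponentOf T B) (hSs : IsSimpleGroup S) (hTs : IsSimpleGroup T) (hSch : Schreier.Basic.Sch T)
    (hne : ⁅S, T⁆ ≠ ⊥) :
    S ≤ T ⊓ A ∨ (¬ S ≤ normalizer (T : Set G) ∧ Nat.card T ∣ A.relIndex B) ∨ Nat.card S ∣ A.relIndex B := by
  have h1 : IsComponentOf S (B ⊓ A) := CompOf.mono hS (le_inf hSB hS.1) inf_le_right
  have h2 : SubnIn (T ⊓ A) (B ⊓ A) := (CompOf.subn hT).inf A
  have h3 : A.relIndex T ∣ A.relIndex B := (CompOf.subn hT).relIndex_dvd A
  rcases CompOf.le_or_comm h1 h2 with h4 | h4
  · exact Or.inl h4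
  · right
    by_cases hn : S ≤ normalizer (T : Set G)
    · right
      have h5 := card_dvd_of_normalizes hSs (CompOf.noncomm hS) hTs (CompOf.noncomm hT) hSch hn hne
        (inf_le_left : T ⊓ A ≤ T) h4
      rw [inf_relIndex_left] at h5
      exact h5.trans h3
    · left
      refine ⟨hn, ?_⟩
      obtain ⟨s, hs, hsn⟩ : ∃ s ∈ S, T.map (MulAut.conj s).toMonoidHom ≠ T := by
        by_contra hc
        push Not at hc
        apply hn
        intro s hs
        rw [mem_normalizer_iff]
        intro x
        constructor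
        · intro hx
          have : s * x * s⁻¹ ∈ T.map (MulAut.conj s).toMonoidHom := ⟨x, hx, rfl⟩
          rwa [hc s hs] at this
        · intro hx
          have : s⁻¹ * (s * x * s⁻¹) * s⁻¹⁻¹ ∈ T.map (MulAut.conj s⁻¹).toMonoidHom := ⟨_, hx, rfl⟩
          rw [hc _ (inv_mem hs)] at this
          have e : s⁻¹ * (s * x * s⁻¹) * s⁻¹⁻¹ = x := by group
          rwa [e] at this
      have hTs' : IsComponentOf (T.map (MulAut.conj s).toMonoidHom) B := by
        have h6 := CompOf.conj hT s
        have h7 : B.map (MulAut.conj s).toMonoidHom = B := by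
          apply le_antisymm
          · rintro _ ⟨y, hy, rfl⟩
            exact B.mul_mem (B.mul_mem (hSB hs) hy) (B.inv_mem (hSB hs))
          · intro y hy
            refine ⟨s⁻¹ * y * s, B.mul_mem (B.mul_mem (B.inv_mem (hSB hs)) hy) (hSB hs), ?_⟩
            show s * (s⁻¹ * y * s) * s⁻¹ = y
            group
        rwa [h7] at h6
      have h8 := CompOf.comm_of_ne hT hTs' (Ne.symm hsn)
      have h9 := eq_bot_of_moves (inf_le_left : T ⊓ A ≤ T) h4 hs h8
        (inf_centralizer_eq_bot hTs (CompOf.noncomm hT))
      have h10 : A.relIndex T = Nat.card T := by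
        rw [← inf_relIndex_right, inf_comm, h9, relIndex_bot_left]
      rwa [h10] at h3

end Cfsg.Agent.R2.T3544
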