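import Cfsg.Agent.R2.T3544.Comp

/-!
# S3544: factorizations with coprime indices and subnormal subgroups (helper7)

`exists_sub_of_subn`: `T` finite simple, `A`, `C` of coprime indices, `C ≠ T`, `1 ≠ K` subnormal in `A`; then `K` has a
proper subgroup whose index divides `|T : C|`.
-/

set_option autoImplicit false

namespace Cfsg.Agent.R2.T3544

open Subgroup

/-- `|A : A ∩ C|` divides `|T : C|` if the indices of `A` and `C` are coprime. -/
theorem relIndex_dvd_of_coprime {T : Type*} [Group T] [Finite T] {A C : Subgroup T}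
    (hcop : A.index.Coprime C.index) : C.relIndex A ∣ C.index := by
  have h1 : (C ⊓ A).relIndex A * A.index = (C ⊓ A).index := relIndex_mul_index inf_le_right
  rw [inf_relIndex_right] at h1
  have h2 : C.index ∣ (C ⊓ A).index := index_dvd_of_le inf_le_left
  rw [← h1] at h2
  have h3 : C.index ∣ C.relIndex A := hcop.symm.dvd_of_dvd_mul_right h2
  have h4 : C.relIndex A ≤ C.index := by
    rw [← relIndex_top_right C]
    exact relIndex_le_of_le_right le_top (by rw [relIndex_top_right]; exact C.index_ne_zero_of_finite)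
  have h5 : C.relIndex A ≠ 0 := by
    rw [relIndex]
    exact index_ne_zero_of_finite
  rw [Nat.le_antisymm h4 (Nat.le_of_dvd (Nat.pos_of_ne_zero h5) h3)]

theorem exists_sub_of_subn_aux {T : Type*} [Group T] [Finite T] [IsSimpleGroup T] {A C K : Subgroup T}
    (hC : C ≠ ⊤) (hcop : A.index.Coprime C.index) (hKA : K ≤ A) (hK : (K.subgroupOf A).IsSubnormal) (hK1 : K ≠ ⊥) :
    ∃ C' : Subgroup K, C' ≠ ⊤ ∧ C'.index ∣ C.index := by
  have key : ∀ t : T, (C.map (MulAut.conj t).toMonoidHom).relIndex K ∣ C.index := by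
    intro t
    have hi : (C.map (MulAut.conj t).toMonoidHom).index = C.index :=
      index_map_of_bijective (MulAut.conj t).bijective C
    have h1 : (C.map (MulAut.conj t).toMonoidHom).relIndex A ∣ C.index := by
      have h := relIndex_dvd_of_coprime (A := A) (C := C.map (MulAut.conj t).toMonoidHom) (by rw [hi]; exact hcop)
      rwa [hi] at h
    have h2 := SignalizersComponents.PCompCore.relIndex_dvd_index_of_subnormal
      ((C.map (MulAut.conj t).toMonoidHom).subgroupOf A) hK
    rw [relIndex_subgroupOf hKA] at h2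
    exact h2.trans h1
  by_cases hall : ∀ t : T, K ≤ C.map (MulAut.conj t).toMonoidHom
  · exfalso
    apply hC
    have h1 : normalClosure (K : Set T) ≤ C := by
      rw [normalClosure, closure_le]
      intro x hx
      obtain ⟨k, hk, hx⟩ := Group.mem_conjugatesOfSet_iff.1 hx
      obtain ⟨t, rfl⟩ := isConj_iff.1 hx
      obtain ⟨c, hc, hck⟩ := hall t⁻¹ hk
      have h2 : t⁻¹ * c * t⁻¹⁻¹ = k := hck
      have h3 : t * k * t⁻¹ = c := by rw [← h2]; group
      rw [h3]
      exact hc
    have h2 : normalClosure (K : Set T) = ⊤ := by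
      rcases (normalClosure_normal (s := (K : Set T))).eq_bot_or_eq_top with h | h
      · exfalso
        apply hK1
        rw [eq_bot_iff, ← h]
        exact subset_normalClosure
      · exact h
    rw [h2] at h1
    exact top_le_iff.1 h1
  · push Not at hall
    obtain ⟨t, ht⟩ := hall
    refine ⟨(C.map (MulAut.conj t).toMonoidHom).subgroupOf K, ?_, key t⟩
    intro h
    exact ht (subgroupOf_eq_top.1 h)

/-- **Lemma (Q)** -/
theorem exists_sub_of_subn {T : Type*} [Group T] [Finite T] [IsSimpleGroup T] {A C K : Subgroup T} (hC : C ≠ ⊤)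
    (hcop : A.index.Coprime C.index) (hK : SubnIn K A) (hK1 : K ≠ ⊥) :
    ∃ C' : Subgroup K, C' ≠ ⊤ ∧ C'.index ∣ C.index :=
  exists_sub_of_subn_aux hC hcop hK.1 hK.2 hK1

end Cfsg.Agent.R2.T3544
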