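import Mathlib

/-!
# The setting of S3544: points, property (P), directions

`PP G Ω`: transitive action, and `N_G(X) ≤ G_x` for each nontrivial `X` normal in `G_x`.
`Dir G r d`: a symmetric `G`-invariant relation with `|G_x : G_xy| = d > 1` for `r x y`
(in the application `r` is an orbital together with its paired orbital).
-/

set_option autoImplicit false

namespace Cfsg.Agent.R2.T3544

open Subgroup MulAction

/-- transitivity and property (P) -/
structure PP (G : Type*) [Group G] (Ω : Type*) [MulAction G Ω] : Prop where
  trans : ∀ x y : Ω, ∃ g : G, g • x = y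
  norm : ∀ (x : Ω) (X : Subgroup G), X ≤ stabilizer G x → X ≠ ⊥ →
    stabilizer G x ≤ normalizer (X : Set G) → normalizer (X : Set G) ≤ stabilizer G x

/-- a direction: a symmetric invariant relation of valency type `d` -/
structure Dir (G : Type*) [Group G] {Ω : Type*} [MulAction G Ω] (r : Ω → Ω → Prop) (d : ℕ) : Prop where
  symm : ∀ {x y : Ω}, r x y → r y x
  smul : ∀ (g : G) {x y : Ω}, r x y → r (g • x) (g • y)
  idx : ∀ {x y : Ω}, r x y → (stabilizer G y).relIndex (stabilizer G x) = d
  ex : ∀ x : Ω, ∃ y, r x y
  one_lt : 1 < d

end Cfsg.Agent.R2.T3544
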