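import Mathlib
import Cfsg.Agent.R2.T3544.Inner
import Cfsg.Agent.R2.T3544.Sys
import Cfsg.Agent.R2.T3544.QLem
import Cfsg.Agent.S0007
import Cfsg.Agent.Lib.GenFitting
import Cfsg.Agent.TwoFusion.FStarControl

/-!
# S3544 when the point stabilizer has trivial Fitting subgroup
-/

set_option autoImplicit false
set_option linter.unusedSectionVars false

namespace Cfsg.Agent.R2.T3544

open Subgroup Cfsg MulAction
open scoped commutatorElement
open Cfsg.Agent.SignalizersComponents.Components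

variable {G : Type*} [Group G] {Ω : Type*} [MulAction G Ω]

/-- a proper subgroup of index dividing `d` -/
def HasIdx (K : Type*) [Group K] (d : ℕ) : Prop := ∃ C : Subgroup K, C ≠ ⊤ ∧ C.index ∣ d

theorem HasIdx.congr {K L : Type*} [Group K] [Group L] (e : K ≃* L) {d : ℕ} (h : HasIdx K d) :
    HasIdx L d := by
  obtain ⟨C, hC, hd⟩ := h
  refine ⟨C.map e.toMonoidHom, ?_, ?_⟩
  · intro h1
    apply hC
    rw [eq_top_iff]
    intro x _
    have : e x ∈ C.map e.toMonoidHom := by rw [h1]; trivial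
    obtain ⟨y, hy, hyx⟩ := this
    rwa [← e.injective hyx]
  · have h := Subgroup.index_comap_of_surjective (H := C.map e.toMonoidHom) (f := e.toMonoidHom) e.surjective
    rw [Subgroup.comap_map_eq_self_of_injective (f := e.toMonoidHom) e.injective] at h
    rwa [← h]

theorem HasIdx.of_card_dvd {K : Type*} [Group K] [Nontrivial K] {d : ℕ} (h : Nat.card K ∣ d) : HasIdx K d :=
  ⟨⊥, bot_ne_top, by rwa [index_bot]⟩

/-- order dividing `d`, coprime to `d'`: no proper subgroup of index dividing `d'` -/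
theorem not_hasIdx_of_card_dvd {K : Type*} [Group K] {d d' : ℕ} (h : Nat.card K ∣ d)
    (hc : d.Coprime d') : ¬ HasIdx K d' := by
  rintro ⟨C, hC, hd⟩
  apply hC
  rw [← index_eq_one]
  exact Nat.eq_one_of_dvd_coprimes hc (C.index_dvd_card.trans h) hd

/-! ### The kernel on a neighbourhood -/

/-- `M_r(x)`: the subgroup of `G_x` fixing every neighbour of `x` -/
def Mk (G : Type*) [Group G] {Ω : Type*} [MulAction G Ω] (r : Ω → Ω → Prop) (x : Ω) : Subgroup G :=
  stabilizer G x ⊓ ⨅ y, ⨅ (_ : r x y), stabilizer G y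

theorem Mk_le (r : Ω → Ω → Prop) (x : Ω) : Mk G r x ≤ stabilizer G x := inf_le_left

theorem Mk_le_nbr {r : Ω → Ω → Prop} {x y : Ω} (h : r x y) : Mk G r x ≤ stabilizer G y :=
  inf_le_right.trans (iInf₂_le y h)

theorem le_Mk {r : Ω → Ω → Prop} {x : Ω} {K : Subgroup G} (h1 : K ≤ stabilizer G x)
    (h2 : ∀ y, r x y → K ≤ stabilizer G y) : K ≤ Mk G r x :=
  le_inf h1 (le_iInf₂ h2)

theorem stab_smul (g : G) (x : Ω) :
    stabilizer G (g • x) = (stabilizer G x).map (MulAut.conj g).toMonoidHom :=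
  stabilizer_smul_eq_stabilizer_map_conj g x

theorem Dir.nbr {r : Ω → Ω → Prop} {d : ℕ} (D : Dir G r d) {x y : Ω} (h : r x y) {g : G}
    (hg : g ∈ stabilizer G x) : r x (g • y) := by
  have := D.smul g h
  rwa [mem_stabilizer_iff.1 hg] at this

theorem Dir.Mk_norm {r : Ω → Ω → Prop} {d : ℕ} (D : Dir G r d) (x : Ω) :
    stabilizer G x ≤ normalizer (Mk G r x : Set G) := by
  have key : ∀ g ∈ stabilizer G x, ∀ m ∈ Mk G r x, g * m * g⁻¹ ∈ Mk G r x := by
    intro g hg m hm
    have h0 : g * m * g⁻¹ ∈ stabilizer G x :=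
      (stabilizer G x).mul_mem ((stabilizer G x).mul_mem hg (Mk_le r x hm)) ((stabilizer G x).inv_mem hg)
    refine mem_inf.2 ⟨h0, ?_⟩
    rw [mem_iInf]
    intro y
    rw [mem_iInf]
    intro hy
    have h1 := D.nbr hy ((stabilizer G x).inv_mem hg)
    have h2 : m ∈ stabilizer G (g⁻¹ • y) := Mk_le_nbr h1 hm
    rw [mem_stabilizer_iff] at h2
    rw [mem_stabilizer_iff, mul_smul, mul_smul, h2, smul_inv_smul]
  intro g hg
  rw [mem_normalizer_iff]
  intro m
  refine ⟨key g hg m, fun h => ?_⟩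
  have := key g⁻¹ ((stabilizer G x).inv_mem hg) _ h
  have e : g⁻¹ * (g * m * g⁻¹) * g⁻¹⁻¹ = m := by group
  rwa [e] at this

theorem Dir.not_le {r : Ω → Ω → Prop} {d : ℕ} (D : Dir G r d) {x y : Ω} (h : r x y) :
    ¬ stabilizer G x ≤ stabilizer G y := by
  intro h1
  have h2 := D.idx h
  rw [relIndex_eq_one.2 h1] at h2
  have := D.one_lt
  omega

/-- coprime directions: `|G_xy : G_xyw| = d_b` -/
theorem Dir.relIndex_inf [Finite G] {ra rb : Ω → Ω → Prop} {da db : ℕ} (A : Dir G ra da)
    (B : Dir G rb db) (hc : da.Coprime db) {x y w : Ω} (hy : ra x y) (hw : rb x w) :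
    (stabilizer G w).relIndex (stabilizer G y ⊓ stabilizer G x) = db := by
  have h1 : ((stabilizer G y).subgroupOf (stabilizer G x)).index = da := A.idx hy
  have h2 : ((stabilizer G w).subgroupOf (stabilizer G x)).index = db := B.idx hw
  have h3 := S0007.relIndex_eq ((stabilizer G w).subgroupOf (stabilizer G x))
    ((stabilizer G y).subgroupOf (stabilizer G x)) (by rw [h1, h2]; exact hc.symm)
  rw [h2] at h3
  rw [← h3, ← relIndex_subgroupOf (inf_le_right : stabilizer G y ⊓ stabilizer G x ≤ stabilizer G x),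
    inf_subgroupOf_right]

/-- a subnormal subgroup of `G_x` without proper subgroup of index dividing `d` lies in `M(x)` -/
theorem Dir.le_Mk_of_subn [Finite G] {r : Ω → Ω → Prop} {d : ℕ} (D : Dir G r d) {x : Ω} {K : Subgroup G}
    (hK : SubnIn K (stabilizer G x)) (h : ¬ HasIdx K d) : K ≤ Mk G r x := by
  refine le_Mk hK.1 fun y hy => ?_
  by_contra hc
  apply h
  refine ⟨(stabilizer G y).subgroupOf K, fun h1 => hc (subgroupOf_eq_top.1 h1), ?_⟩
  have := hK.relIndex_dvd (stabilizer G y)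
  rwa [D.idx hy] at this

/-- the same one step away, in a coprime direction -/
theorem Dir.le_Mk_of_subn' [Finite G] {ra rb : Ω → Ω → Prop} {da db : ℕ} (A : Dir G ra da)
    (B : Dir G rb db) (hc : da.Coprime db) {x y : Ω} (hy : ra x y) {K : Subgroup G}
    (hK : SubnIn K (stabilizer G y)) (hKx : K ≤ stabilizer G x) (h : ¬ HasIdx K db) : K ≤ Mk G rb x := by
  refine le_Mk hKx fun w hw => ?_
  by_contra hc'
  apply h
  refine ⟨(stabilizer G w).subgroupOf K, fun h1 => hc' (subgroupOf_eq_top.1 h1), ?_⟩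
  have h1 := (hK.mono (le_inf hK.1 hKx) inf_le_left).relIndex_dvd (stabilizer G w)
  rwa [A.relIndex_inf B hc hy hw] at h1

/-! ### The product of the components of a given isomorphism type -/

/-- the join of the components of `A` isomorphic to `T` -/
def XC (A : Subgroup G) (T : Type*) [Group T] : Subgroup G :=
  sSup {K | IsComponentOf K A ∧ Nonempty (K ≃* T)}

theorem le_XC {A K : Subgroup G} {T : Type*} [Group T] (h : IsComponentOf K A) (e : K ≃* T) :
    K ≤ XC A T := le_sSup ⟨h, ⟨e⟩⟩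

theorem XC_le_iff {A B : Subgroup G} {T : Type*} [Group T] :
    XC A T ≤ B ↔ ∀ K, IsComponentOf K A → Nonempty (K ≃* T) → K ≤ B := by
  rw [XC, sSup_le_iff]
  exact ⟨fun h K h1 h2 => h K ⟨h1, h2⟩, fun h K hK => h K hK.1 hK.2⟩

theorem XC_le (A : Subgroup G) (T : Type*) [Group T] : XC A T ≤ A := XC_le_iff.2 fun _ h _ => h.1

theorem map_XC_le (A : Subgroup G) (T : Type*) [Group T] (g : G) :
    (XC A T).map (MulAut.conj g).toMonoidHom ≤ XC (A.map (MulAut.conj g).toMonoidHom) T := by
  rw [map_le_iff_le_comap, XC_le_iff]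
  rintro K hK ⟨e⟩
  rw [← map_le_iff_le_comap]
  exact le_XC (CompOf.conj hK g)
    ((K.equivMapOfInjective (MulAut.conj g).toMonoidHom (MulAut.conj g).injective).symm.trans e)

theorem map_map_conj_inv (A : Subgroup G) (g : G) :
    (A.map (MulAut.conj g).toMonoidHom).map (MulAut.conj g⁻¹).toMonoidHom = A := by
  rw [map_map]
  have : (MulAut.conj g⁻¹).toMonoidHom.comp (MulAut.conj g).toMonoidHom = MonoidHom.id G := by
    ext x
    simp [mul_assoc]
  rw [this, map_id]

theorem map_XC (A : Subgroup G) (T : Type*) [Group T] (g : G) :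
    (XC A T).map (MulAut.conj g).toMonoidHom = XC (A.map (MulAut.conj g).toMonoidHom) T := by
  apply le_antisymm (map_XC_le A T g)
  have h1 := map_XC_le (A.map (MulAut.conj g).toMonoidHom) T g⁻¹
  rw [map_map_conj_inv] at h1
  have h2 := map_mono (f := (MulAut.conj g).toMonoidHom) h1
  have h3 := map_map_conj_inv (XC (A.map (MulAut.conj g).toMonoidHom) T) g⁻¹
  rw [inv_inv] at h3
  rwa [h3] at h2

theorem map_conj_eq_self {A : Subgroup G} {g : G} (hg : g ∈ A) :
    A.map (MulAut.conj g).toMonoidHom = A := by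
  apply le_antisymm
  · rintro _ ⟨y, hy, rfl⟩
    exact A.mul_mem (A.mul_mem hg hy) (A.inv_mem hg)
  · intro y hy
    refine ⟨g⁻¹ * y * g, A.mul_mem (A.mul_mem (A.inv_mem hg) hy) hg, ?_⟩
    show g * (g⁻¹ * y * g) * g⁻¹ = y
    group

theorem le_normalizer_of_map_le {A X : Subgroup G}
    (h : ∀ g ∈ A, X.map (MulAut.conj g).toMonoidHom ≤ X) : A ≤ normalizer (X : Set G) := by
  intro g hg
  rw [mem_normalizer_iff]
  intro x
  refine ⟨fun hx => h g hg ⟨x, hx, rfl⟩, fun hx => ?_⟩
  have : g⁻¹ * (g * x * g⁻¹) * g⁻¹⁻¹ ∈ X := h g⁻¹ (inv_mem hg) ⟨_, hx, rfl⟩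
  have e : g⁻¹ * (g * x * g⁻¹) * g⁻¹⁻¹ = x := by group
  rwa [e] at this

theorem XC_norm (A : Subgroup G) (T : Type*) [Group T] : A ≤ normalizer (XC A T : Set G) := by
  refine le_normalizer_of_map_le fun g hg => ?_
  rw [map_XC, map_conj_eq_self hg]

theorem XC_ne_bot {A K : Subgroup G} {T : Type*} [Group T] (h : IsComponentOf K A) (e : K ≃* T) :
    XC A T ≠ ⊥ := by
  intro h1
  have := le_XC h e
  rw [h1, le_bot_iff] at this
  exact CompOf.ne_bot h this

/-- a normal subgroup not contained in... : `N_G(X) ≤ G_x` -/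
theorem PP.norm_XC (P : PP G Ω) {x : Ω} {K : Subgroup G} {T : Type*} [Group T]
    (h : IsComponentOf K (stabilizer G x)) (e : K ≃* T) :
    normalizer (XC (stabilizer G x) T : Set G) ≤ stabilizer G x :=
  P.norm x _ (XC_le _ _) (XC_ne_bot h e) (XC_norm _ _)

/-- the components of type `T` of `G_x` are not all components of `G_y` -/
theorem exists_not_comp [Finite G] (P : PP G Ω) {x y : Ω} (hxy : ¬ stabilizer G y ≤ stabilizer G x)
    {K : Subgroup G} {T : Type*} [Group T] (hK : IsComponentOf K (stabilizer G x)) (e : K ≃* T) :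
    ∃ S, IsComponentOf S (stabilizer G x) ∧ Nonempty (S ≃* T) ∧ ¬ IsComponentOf S (stabilizer G y) := by
  by_contra hc
  push Not at hc
  have h1 : XC (stabilizer G x) T ≤ XC (stabilizer G y) T := by
    rw [XC_le_iff]
    rintro S hS ⟨f⟩
    exact le_XC (hc S hS ⟨f⟩) f
  obtain ⟨g, rfl⟩ := P.trans x y
  have h2 : XC (stabilizer G x) T = XC (stabilizer G (g • x)) T := by
    refine eq_of_le_of_card_ge h1 ?_
    rw [stab_smul, ← map_XC, card_map_of_injective (MulAut.conj g).injective]
  apply hxy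
  refine (XC_norm (stabilizer G (g • x)) T).trans ?_
  rw [← h2]
  exact P.norm_XC hK e

theorem PP.comp_transfer (P : PP G Ω) {x : Ω} (y : Ω) {K : Subgroup G} (hK : IsComponentOf K (stabilizer G x)) :
    ∃ L, IsComponentOf L (stabilizer G y) ∧ Nonempty (L ≃* K) := by
  obtain ⟨g, rfl⟩ := P.trans x y
  refine ⟨K.map (MulAut.conj g).toMonoidHom, ?_, ⟨?_⟩⟩
  · rw [stab_smul]
    exact CompOf.conj hK g
  · exact (K.equivMapOfInjective (MulAut.conj g).toMonoidHom (MulAut.conj g).injective).symm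

/-- if `F(B) = 1`, a nontrivial subgroup of `B` does not centralise all the components of `B` -/
theorem exists_comp_ne [Finite G] {B S : Subgroup G} (hF : fittingSubgroup B = ⊥) (hSB : S ≤ B) (hS : S ≠ ⊥) :
    ∃ T, IsComponentOf T B ∧ ⁅S, T⁆ ≠ ⊥ := by
  by_contra hc
  push Not at hc
  apply hS
  have h1 : S.subgroupOf B ≤ centralizer (generalizedFittingSubgroup B : Set B) := by
    rw [← commutator_eq_bot_iff_le_centralizer, commutator_comm, commutator_eq_bot_iff_le_centralizer,
      Cfsg.Agent.Lib.GenFitting.genFitting_def, hF, sup_bot_eq, layer_le_iff]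
    intro K hK
    rw [← commutator_eq_bot_iff_le_centralizer, commutator_comm]
    have hKB : K.map B.subtype ≤ B := map_subtype_le K
    have h2 : IsComponentOf (K.map B.subtype) B := by
      refine ⟨hKB, ?_⟩
      rwa [subgroupOf, comap_map_eq_self_of_injective B.subtype_injective]
    have h3 := (commutator_subgroupOf_eq_bot hSB hKB).2 (hc _ h2)
    rwa [subgroupOf, subgroupOf, comap_map_eq_self_of_injective B.subtype_injective] at h3
  have h2 := h1.trans Cfsg.Agent.TwoFusion.FStarControl.centralizer_genFitting_le_fitting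
  rw [hF, le_bot_iff, subgroupOf_eq_bot] at h2
  rw [eq_bot_iff]
  intro x hx
  exact h2.le_bot ⟨hx, hSB hx⟩

end Cfsg.Agent.R2.T3544
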