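import Mathlib
import Cfsg.Agent.R2.T3544.FOne
import Cfsg.Agent.H393.Core

/-!
# S3544 when the point stabilizer has trivial Fitting subgroup: the contradiction (proof by helper15)
-/

set_option autoImplicit false
set_option linter.unusedSectionVars false

namespace Cfsg.Agent.R2.T3544

open Subgroup Cfsg MulAction
open scoped commutatorElement
open Cfsg.Agent.SignalizersComponents.Components

variable {G : Type*} [Group G] {Ω : Type*} [MulAction G Ω]

theorem SubnIn.subgroupOf {N D : Subgroup G} (h : SubnIn N D) {S : Subgroup G} (hDS : D ≤ S) :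
    SubnIn (N.subgroupOf S) (D.subgroupOf S) := by
  refine ⟨fun x hx => h.1 hx, ?_⟩
  let e : D ≃* D.subgroupOf S := (subgroupOfEquivOfLe hDS).symm
  have h2 := h.2.map (f := e.toMonoidHom) e.surjective
  convert h2 using 1
  ext x
  constructor
  · intro hx
    exact ⟨⟨x, h.1 hx⟩, hx, rfl⟩
  · rintro ⟨y, hy, rfl⟩
    exact hy

/-- **Lemma (E)** -/
theorem not_hasIdx_of_not_le [Finite G] (P : PP G Ω) {ra rb : Ω → Ω → Prop} {da db : ℕ} (A : Dir G ra da)
    (B : Dir G rb db) (hc : da.Coprime db) (hF : ∀ x : Ω, fittingSubgroup (stabilizer G x) = ⊥)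
    (hSch : ∀ (x : Ω) (K : Subgroup G), IsComponentOf K (stabilizer G x) → Schreier.Basic.Sch K)
    {x₀ : Ω} {K₀ : Subgroup G} (hK₀ : IsComponentOf K₀ (stabilizer G x₀)) (ha : ¬ HasIdx K₀ da)
    (hb : ¬ HasIdx K₀ db) {x : Ω} {S : Subgroup G} (hS : IsComponentOf S (stabilizer G x))
    (hSb : ¬ S ≤ Mk G rb x) : ¬ HasIdx S da := by
  obtain ⟨w, hw, hSw⟩ : ∃ w, rb x w ∧ ¬ S ≤ stabilizer G w := by
    by_contra hcon
    push Not at hcon
    exact hSb (le_Mk hS.1 hcon)
  obtain ⟨Kw, hKw, ⟨ew⟩⟩ := P.comp_transfer w hK₀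
  -- a component of `G_w` of the type of `K₀` not centralising `S`
  obtain ⟨K, hK, ⟨eK⟩, hKS⟩ : ∃ K, IsComponentOf K (stabilizer G w) ∧ Nonempty (K ≃* K₀) ∧ ⁅K, S⁆ ≠ ⊥ := by
    by_contra hcon
    push Not at hcon
    apply hSw
    have h1 : XC (stabilizer G w) K₀ ≤ centralizer (S : Set G) := by
      rw [XC_le_iff]
      intro K hK hKe
      rw [← commutator_eq_bot_iff_le_centralizer]
      exact hcon K hK hKe
    have h2 : S ≤ centralizer (XC (stabilizer G w) K₀ : Set G) := le_centralizer_iff.1 h1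
    exact h2.trans ((centralizer_le_normalizer _).trans (P.norm_XC hKw ew))
  have hKa : ¬ HasIdx K da := fun h => ha (h.congr eK)
  have hKb : ¬ HasIdx K db := fun h => hb (h.congr eK)
  have hKx : K ≤ stabilizer G x := (B.le_Mk_of_subn (CompOf.subn hK) hKb).trans (Mk_le_nbr (B.symm hw))
  have hKs := CompOf.simple (hF w) hK
  have hSs := CompOf.simple (hF x) hS
  have hidx : (stabilizer G w).relIndex (stabilizer G x) = db := B.idx hw
  rcases inner hK hKx hS hKs hSs (hSch x S hS) hKS with h | ⟨-, h⟩ | h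
  · -- `K ≤ S ∩ G_w`
    intro hSa
    obtain ⟨C, hC, hCd⟩ := hSa
    apply hKa
    have h1 : SubnIn K (S ⊓ stabilizer G w) := (CompOf.subn hK).mono h inf_le_right
    have h2 := h1.subgroupOf (inf_le_left : S ⊓ stabilizer G w ≤ S)
    have h3 : ((S ⊓ stabilizer G w).subgroupOf S).index ∣ db := by
      rw [inf_comm, inf_subgroupOf_right]
      have := (CompOf.subn hS).relIndex_dvd (stabilizer G w)
      rwa [hidx] at this
    have h4 : ((S ⊓ stabilizer G w).subgroupOf S).index.Coprime C.index :=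
      Nat.Coprime.of_dvd h3 hCd hc.symm
    have hKS' : K ≤ S := h.trans inf_le_left
    have h5 : K.subgroupOf S ≠ ⊥ := by
      intro h6
      have h7 := map_subgroupOf_eq_of_le hKS'
      rw [h6, Subgroup.map_bot] at h7
      exact CompOf.ne_bot hK h7.symm
    obtain ⟨C', hC', hCd'⟩ := exists_sub_of_subn hC h4 h2 h5
    exact HasIdx.congr (subgroupOfEquivOfLe hKS') ⟨C', hC', hCd'.trans hCd⟩
  · -- `K` moves `S`
    rw [hidx] at h
    exact not_hasIdx_of_card_dvd h hc.symm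
  · exfalso
    rw [hidx] at h
    have := hKs.toNontrivial
    exact hKb (HasIdx.of_card_dvd h)

theorem eq_of_le_of_max [Finite G] {S B : Subgroup G} {m : ℕ} (h : S ≤ B) (hS : Nat.card S = m)
    (hB : Nat.card B ≤ m) : S = B :=
  eq_of_le_of_card_ge h (by rw [hS]; exact hB)

/-- **`F(G_x) = 1` is impossible**: three pairwise coprime directions, two of them odd. -/
theorem false_of_fitting_bot [Finite G] (P : PP G Ω) {r₀ ra rb : Ω → Ω → Prop} {d₀ da db : ℕ}
    (D₀ : Dir G r₀ d₀) (A : Dir G ra da) (B : Dir G rb db) (h0a : d₀.Coprime da) (h0b : d₀.Coprime db)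
    (hab : da.Coprime db) (hoa : Odd da) (hob : Odd db)
    (hF : ∀ x : Ω, fittingSubgroup (stabilizer G x) = ⊥)
    (hSch : ∀ (x : Ω) (K : Subgroup G), IsComponentOf K (stabilizer G x) → Schreier.Basic.Sch K)
    (hNT : ∀ (x : Ω) (K : Subgroup G), IsComponentOf K (stabilizer G x) → H393.NoThree K)
    (hev : ∀ (x : Ω) (K : Subgroup G), IsComponentOf K (stabilizer G x) → 2 ∣ Nat.card K) (x : Ω) : False := by
  have hne : stabilizer G x ≠ ⊥ := by
    intro h
    obtain ⟨y, hy⟩ := A.ex x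
    apply A.not_le hy
    rw [h]
    exact bot_le
  -- a component of maximal order
  obtain ⟨T, hT, hmax⟩ : ∃ T, IsComponentOf T (stabilizer G x) ∧
      ∀ K, IsComponentOf K (stabilizer G x) → Nat.card K ≤ Nat.card T := by
    obtain ⟨T₀, hT₀, -⟩ := exists_comp_ne (hF x) le_rfl hne
    obtain ⟨T, hT, hm⟩ := Set.exists_max_image {K : Subgroup G | IsComponentOf K (stabilizer G x)}
      (fun K => Nat.card K) (Set.toFinite _) ⟨T₀, hT₀⟩
    exact ⟨T, hT, hm⟩
  have hmax' : ∀ (z : Ω) (K : Subgroup G), IsComponentOf K (stabilizer G z) → Nat.card K ≤ Nat.card T := by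
    intro z K hK
    obtain ⟨L, hL, ⟨e⟩⟩ := P.comp_transfer x hK
    rw [← Nat.card_congr e.toEquiv]
    exact hmax L hL
  have hTs := CompOf.simple (hF x) hT
  -- claim 1
  have claim : ∀ (r : Ω → Ω → Prop) (d : ℕ), Dir G r d → Odd d →
      ∃ (z : Ω) (S : Subgroup G), IsComponentOf S (stabilizer G z) ∧ Nonempty (S ≃* T) ∧ ¬ S ≤ Mk G r z := by
    intro r d D hod
    by_contra hcon
    push Not at hcon
    obtain ⟨y, hy⟩ := D.ex x
    obtain ⟨S, hS, ⟨eS⟩, hSn⟩ := exists_not_comp P (D.not_le (D.symm hy)) hT (MulEquiv.refl T)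
    have hSy : S ≤ stabilizer G y := (hcon x S hS ⟨eS⟩).trans (Mk_le_nbr hy)
    obtain ⟨C, hC, hSC⟩ := exists_comp_ne (hF y) hSy (CompOf.ne_bot hS)
    have hidx : (stabilizer G x).relIndex (stabilizer G y) = d := D.idx (D.symm hy)
    have hodd : ¬ 2 ∣ d := fun h => (Nat.not_even_iff_odd.2 hod) (even_iff_two_dvd.2 h)
    rcases inner hS hSy hC (CompOf.simple (hF x) hS) (CompOf.simple (hF y) hC) (hSch y C hC) hSC with
      h | ⟨-, h⟩ | h
    · apply hSn
      rw [eq_of_le_of_max (h.trans inf_le_left) (Nat.card_congr eS.toEquiv) (hmax' y C hC)]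
      exact hC
    · rw [hidx] at h
      exact hodd ((hev y C hC).trans h)
    · rw [hidx] at h
      exact hodd ((hev x S hS).trans h)
  have hidxT : ∀ (r : Ω → Ω → Prop) (d : ℕ), Dir G r d → Odd d → HasIdx T d := by
    intro r d D hod
    obtain ⟨z, S, hS, ⟨e⟩, hSM⟩ := claim r d D hod
    by_contra hcon
    exact hSM (D.le_Mk_of_subn (CompOf.subn hS) fun h => hcon (h.congr e))
  have hTa := hidxT ra da A hoa
  have hTb := hidxT rb db B hob
  have hT0 : ¬ HasIdx T d₀ := by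
    rintro ⟨C₀, hC₀, hd₀⟩
    obtain ⟨Ca, hCa, hda⟩ := hTa
    obtain ⟨Cb, hCb, hdb⟩ := hTb
    exact hNT x T hT C₀ Ca Cb hC₀ hCa hCb (Nat.Coprime.of_dvd hd₀ hda h0a)
      (Nat.Coprime.of_dvd hd₀ hdb h0b) (Nat.Coprime.of_dvd hda hdb hab)
  -- direction 0
  obtain ⟨y, hy⟩ := D₀.ex x
  obtain ⟨S, hS, ⟨eS⟩, hSn⟩ := exists_not_comp P (D₀.not_le (D₀.symm hy)) hT (MulEquiv.refl T)
  have hS0 : ¬ HasIdx S d₀ := fun h => hT0 (h.congr eS)
  have hSy : S ≤ stabilizer G y := (D₀.le_Mk_of_subn (CompOf.subn hS) hS0).trans (Mk_le_nbr hy)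
  obtain ⟨C, hC, hSC⟩ := exists_comp_ne (hF y) hSy (CompOf.ne_bot hS)
  have hidx : (stabilizer G x).relIndex (stabilizer G y) = d₀ := D₀.idx (D₀.symm hy)
  have hSs := CompOf.simple (hF x) hS
  rcases inner hS hSy hC hSs (CompOf.simple (hF y) hC) (hSch y C hC) hSC with h | ⟨-, h⟩ | h
  · apply hSn
    rw [eq_of_le_of_max (h.trans inf_le_left) (Nat.card_congr eS.toEquiv) (hmax' y C hC)]
    exact hC
  · rw [hidx] at h
    obtain ⟨z, S', hS', ⟨e'⟩, hSM⟩ := claim rb db B hob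
    exact not_hasIdx_of_not_le P A B hab hF hSch hC (not_hasIdx_of_card_dvd h h0a)
      (not_hasIdx_of_card_dvd h h0b) hS' hSM (hTa.congr e'.symm)
  · rw [hidx] at h
    have := hSs.toNontrivial
    exact hS0 (HasIdx.of_card_dvd h)

end Cfsg.Agent.R2.T3544
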