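import Cfsg.Agent.R2.T3544.FOne

/-!
# S3544: functors `X x ≤ G_x`
-/

set_option autoImplicit false

namespace Cfsg.Agent.R2.T3544

open Subgroup MulAction

universe u v

/-- an equivariant family of subgroups `X x` of the point stabilizers -/
structure Fun (G : Type*) [Group G] {Ω : Type*} [MulAction G Ω] (X : Ω → Subgroup G) : Prop where
  le : ∀ x, X x ≤ stabilizer G x
  smul : ∀ (g : G) (x : Ω), X (g • x) = (X x).map (MulAut.conj g).toMonoidHom

section

variable {G : Type*} [Group G] {Ω : Type*} [MulAction G Ω] {X Y : Ω → Subgroup G}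

theorem Fun.norm (h : Fun G X) (x : Ω) : stabilizer G x ≤ normalizer (X x : Set G) :=
  le_normalizer_of_map_le fun g hg => by rw [← h.smul, mem_stabilizer_iff.1 hg]

theorem Fun.card_eq (h : Fun G X) (P : PP G Ω) (x y : Ω) : Nat.card (X x) = Nat.card (X y) := by
  obtain ⟨g, rfl⟩ := P.trans x y
  rw [h.smul, card_map_of_injective (MulAut.conj g).injective]

theorem Fun.ne_bot (h : Fun G X) (P : PP G Ω) {x : Ω} (hx : X x ≠ ⊥) (y : Ω) : X y ≠ ⊥ := by
  obtain ⟨g, rfl⟩ := P.trans x y
  rw [h.smul]
  intro h1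
  exact hx ((map_eq_bot_iff_of_injective _ (MulAut.conj g).injective).1 h1)

/-- property (P) for functors -/
theorem Fun.normalizer_le (h : Fun G X) (P : PP G Ω) {x : Ω} (hx : X x ≠ ⊥) :
    normalizer (X x : Set G) ≤ stabilizer G x :=
  P.norm x _ (h.le x) hx (h.norm x)

theorem cent_le_norm (A : Subgroup G) : centralizer (A : Set G) ≤ normalizer (A : Set G) := by
  intro g hg
  rw [mem_centralizer_iff] at hg
  rw [mem_normalizer_iff]
  intro a
  constructor
  · intro ha
    rwa [← hg a ha, mul_inv_cancel_right]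
  · intro ha
    have h1 := hg _ ha
    have h2 : a = g * a * g⁻¹ := by
      have h3 : g * a * g⁻¹ * g = g * (g * a * g⁻¹) := h1
      have h4 : g * a = g * (g * a * g⁻¹) := by rw [← h3]; group
      exact mul_left_cancel h4
    rw [h2]
    exact ha

theorem Fun.centralizer_le (h : Fun G X) (P : PP G Ω) {x : Ω} (hx : X x ≠ ⊥) :
    centralizer (X x : Set G) ≤ stabilizer G x :=
  (cent_le_norm (X x)).trans (h.normalizer_le P hx)

/-- a nontrivial functor has different values at neighbours -/
theorem Fun.not_le [Finite G] (h : Fun G X) (P : PP G Ω) {r : Ω → Ω → Prop} {d : ℕ} (D : Dir G r d) {x y : Ω}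
    (hr : r x y) (hx : X x ≠ ⊥) : ¬ X x ≤ X y := by
  intro h1
  have h2 : X x = X y := eq_of_le_of_card_ge h1 (h.card_eq P x y).ge
  apply D.not_le (D.symm hr)
  have h3 := h.norm y
  rw [← h2] at h3
  exact h3.trans (h.normalizer_le P hx)

theorem Fun.commutator (hX : Fun G X) (hY : Fun G Y) : Fun G (fun x => ⁅X x, Y x⁆) where
  le x := (commutator_mono (hX.le x) (hY.le x)).trans (commutator_le_self _)
  smul g x := by rw [map_commutator, hX.smul, hY.smul]

end

/-- functors from isomorphism-invariant constructions -/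
theorem Fun.of_iso {G : Type u} [Group G] {Ω : Type v} [MulAction G Ω] (F : ∀ (K : Type u) [Group K], Subgroup K)
    (hF : ∀ (K L : Type u) [Group K] [Group L] (e : K ≃* L), (F K).map e.toMonoidHom ≤ F L) :
    Fun G (fun x : Ω => (F (stabilizer G x)).map (stabilizer G x).subtype) := by
  have key : ∀ (g : G) (x : Ω), ((F (stabilizer G x)).map (stabilizer G x).subtype).map (MulAut.conj g).toMonoidHom ≤
      (F (stabilizer G (g • x))).map (stabilizer G (g • x)).subtype := by
    rintro g x _ ⟨_, ⟨k, hk, rfl⟩, rfl⟩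
    have hst := stab_smul (G := G) g x
    let e : stabilizer G x ≃* stabilizer G (g • x) :=
      ((stabilizer G x).equivMapOfInjective (MulAut.conj g).toMonoidHom (MulAut.conj g).injective).trans
        (MulEquiv.subgroupCongr hst.symm)
    refine ⟨e k, hF _ _ e ⟨k, hk, rfl⟩, rfl⟩
  refine ⟨fun x => map_subtype_le _, fun g x => le_antisymm ?_ (key g x)⟩
  have h1 := map_mono (f := (MulAut.conj g).toMonoidHom) (key g⁻¹ (g • x))
  rw [inv_smul_smul] at h1
  refine le_trans (le_of_eq ?_) h1
  have h2 := map_map_conj_inv ((F (stabilizer G (g • x))).map (stabilizer G (g • x)).subtype) g⁻¹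
  rw [inv_inv] at h2
  exact h2.symm

end Cfsg.Agent.R2.T3544
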