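import Mathlib
import Cfsg.Prelude.Def_ClassificationStages

/-!
# S3544, case NL with components: names for `O_{p'}(A)`, `O_p(A)`, `p`-components of subgroups
-/

set_option autoImplicit false

namespace Cfsg.Agent.R2.T3544

open Subgroup Cfsg

variable {G : Type*} [Group G]

/-- `O_{p'}(A)` of a subgroup, in the ambient group -/
def OA (p : ℕ) (A : Subgroup G) : Subgroup G := (pPrimeCore p A).map A.subtype

/-- `O_p(A)` of a subgroup, in the ambient group -/
def OP (p : ℕ) (A : Subgroup G) : Subgroup G := (pCore p A).map A.subtype

/-- `K` is a `p`-component of the subgroup `A` -/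
abbrev UC (p : ℕ) (K A : Subgroup G) : Prop := IsPComponentOf p K A

end Cfsg.Agent.R2.T3544
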