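import Mathlib
import Cfsg.Prelude.Def_Local
import Cfsg.Prelude.Def_ClassificationStages
import Cfsg.Agent.Lib.Cores
import Cfsg.Agent.Lib.LocalCore
import Cfsg.Agent.Lib.PComponents
import Cfsg.Agent.SignalizersComponents.PCompQuot
import Cfsg.Agent.SignalizersComponents.PConstrained
import Cfsg.Agent.R2.T3544.UDef
import Cfsg.Agent.R2.T3544.Comp
import Cfsg.Agent.R2.T3544.Fun

/-!
# S3544: `p`-components of subgroups, in the ambient group
-/

set_option autoImplicit false
set_option linter.unusedSectionVars false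

namespace Cfsg.Agent.R2.T3544

open Subgroup Cfsg
open scoped commutatorElement
open Cfsg.Agent.Lib Cfsg.Agent.Lib.PComponents
open Cfsg.Agent.SignalizersComponents

variable {G : Type*} [Group G]

/-! ### `O_{p'}` and `O^{p'}` -/

theorem OA_le (p : ℕ) (A : Subgroup G) : OA p A ≤ A := map_subtype_le _

theorem OA_norm (p : ℕ) (A : Subgroup G) : A ≤ normalizer (OA p A : Set G) :=
  LocalCore.le_normalizer_map_pPrimeCore p A

theorem OA_coprime [Finite G] (p : ℕ) (A : Subgroup G) : (Nat.card (OA p A)).Coprime p :=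
  LocalCore.card_map_pPrimeCore_coprime p A

theorem OA_subgroupOf (p : ℕ) (A : Subgroup G) : (OA p A).subgroupOf A = pPrimeCore p A := by
  rw [OA, subgroupOf, comap_map_eq_self_of_injective A.subtype_injective]

theorem map_pElem {H : Type*} [Group H] (p : ℕ) (f : G →* H) (hf : Function.Injective f) (Y : Subgroup G) :
    (pElem p Y).map f = pElem p (Y.map f) := by
  rw [pElem, pElem, MonoidHom.map_closure]
  congr 1
  ext x
  constructor
  · rintro ⟨y, ⟨hy, n, hn⟩, rfl⟩
    exact ⟨⟨y, hy, rfl⟩, n, by rw [← map_pow, hn, map_one]⟩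
  · rintro ⟨⟨y, hy, rfl⟩, n, hn⟩
    exact ⟨y, ⟨hy, n, hf (by rw [map_pow, hn, map_one])⟩, rfl⟩

theorem pElem_subgroupOf (p : ℕ) {K A : Subgroup G} (h : K ≤ A) :
    pElem p (K.subgroupOf A) = (pElem p K).subgroupOf A := by
  apply map_injective A.subtype_injective
  rw [map_pElem p A.subtype A.subtype_injective, map_subgroupOf_eq_of_le h,
    map_subgroupOf_eq_of_le ((pElem_le K).trans h)]

theorem pElem_pElem (p : ℕ) (Y : Subgroup G) : pElem p (pElem p Y) = pElem p Y := by
  apply le_antisymm (pElem_le _)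
  refine (closure_le _).mpr ?_
  rintro y ⟨hy, n, hn⟩
  exact mem_pElem (mem_pElem hy hn) hn

/-- a subnormal subgroup of `Y` of index prime to `p` contains `O^{p'}(Y)` -/
theorem SubnIn.pElem_le_of_coprime {K Y : Subgroup G} {p : ℕ} (hK : SubnIn K Y)
    (hidx : (K.relIndex Y).Coprime p) : pElem p Y ≤ K :=
  pElem_le_of_isSubnormal hK.2 hidx

theorem SubnIn.pElem (p : ℕ) (Y : Subgroup G) : SubnIn (pElem p Y) Y :=
  ⟨pElem_le Y, (pElem_normal_subgroupOf Y).isSubnormal⟩

/-- for `K` subnormal in `A`, `O_{p'}(K) = K ∩ O_{p'}(A)` -/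
theorem OA_of_subn [Finite G] {p : ℕ} {K A : Subgroup G} (h : SubnIn K A) : OA p K = K ⊓ OA p A := by
  have h1 := PCompQuot.map_subtype_pPrimeCore_subnormal p h.2
  have h2 := Cores.map_equiv_pPrimeCore (subgroupOfEquivOfLe h.1) p
  have h3 : (pPrimeCore p (K.subgroupOf A)).map ((K.subgroupOf A).subtype) = K.subgroupOf A ⊓ pPrimeCore p A := h1
  have h4 := congrArg (Subgroup.map A.subtype) h3
  rw [Subgroup.map_inf _ _ _ A.subtype_injective, map_subgroupOf_eq_of_le h.1] at h4
  change _ = K ⊓ OA p A at h4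
  rw [← h4, OA, ← h2, map_map, map_map]
  congr 1

/-- a subnormal `p'`-subgroup lies in `O_{p'}` -/
theorem SubnIn.le_OA [Finite G] {p : ℕ} {K A : Subgroup G} (h : SubnIn K A) (hK : (Nat.card K).Coprime p) :
    K ≤ OA p A := by
  have h1 := le_pPrimeCore_of_isSubnormal (p := p) h.2
    (by rwa [Nat.card_congr (subgroupOfEquivOfLe h.1).toEquiv])
  have h2 := Subgroup.map_mono (f := A.subtype) h1
  rwa [map_subgroupOf_eq_of_le h.1] at h2

/-! ### `p`-components -/

section

variable [Finite G] {p : ℕ} [hp : Fact p.Prime] {K L N A B : Subgroup G}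

theorem quasi_congr_of_le (h : K ≤ A) :
    IsQuasisimple (K ⧸ pPrimeCore p K) ↔
      IsQuasisimple ((K.subgroupOf A) ⧸ pPrimeCore p (K.subgroupOf A)) := by
  let e : (K.subgroupOf A) ≃* K := subgroupOfEquivOfLe h
  let f := QuotientGroup.congr (pPrimeCore p (K.subgroupOf A)) (pPrimeCore p K) e (Cores.map_equiv_pPrimeCore e p)
  exact ⟨PCompQuot.quasisimple_congr f.symm, PCompQuot.quasisimple_congr f⟩

/-- constructor from the intrinsic properties -/
theorem UC.of_intrinsic (h1 : SubnIn K A) (h2 : pElem p K = K) (h3 : IsQuasisimple (K ⧸ pPrimeCore p K)) :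
    UC p K A := by
  have h4 : pElem p (K.subgroupOf A) = K.subgroupOf A := by rw [pElem_subgroupOf p h1.1, h2]
  refine ⟨h1.1, h1.2, ⟨?_, ?_⟩, ?_⟩
  · exact h1.2.map (QuotientGroup.mk'_surjective _)
  · obtain ⟨e, _⟩ := PCompQuot.exists_quotient_equiv p h1.2
    exact PCompQuot.quasisimple_congr e ((quasi_congr_of_le h1.1).1 h3)
  · intro H hH hle hmap
    refine le_antisymm hle ?_
    rw [← h4]
    refine le_trans (pElem_mono ?_) (pElem_comap_le hH hmap)
    exact le_comap_map _ _

theorem UC.subn (h : UC p K A) : SubnIn K A := ⟨h.1, h.2.1⟩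

/-- a `p`-component is generated by its `p`-elements -/
theorem UC.gen (h : UC p K A) : pElem p K = K := by
  have h3 := pElem_pcomp h.2
  rw [pElem_subgroupOf p h.1] at h3
  have h4 := congrArg (Subgroup.map A.subtype) h3
  rwa [map_subgroupOf_eq_of_le h.1, map_subgroupOf_eq_of_le ((pElem_le K).trans h.1)] at h4

theorem UC.qs (h : UC p K A) : IsQuasisimple (K ⧸ pPrimeCore p K) :=
  (quasi_congr_of_le h.1).2 (PCompQuot.quasisimple_quotient h.2)

theorem UC.le (h : UC p K A) : K ≤ A := h.subn.1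

theorem UC.mono_sub (h : UC p K A) (h1 : K ≤ B) (h2 : B ≤ A) : UC p K B :=
  UC.of_intrinsic (h.subn.mono h1 h2) h.gen h.qs

theorem UC.trans_subn (h : UC p K B) (h1 : SubnIn B A) : UC p K A :=
  UC.of_intrinsic (h.subn.trans h1) h.gen h.qs

theorem UC.perfect (h : UC p K A) : ⁅K, K⁆ = K := by
  have h1 := pcomp_perfect h.2
  have h2 := congrArg (Subgroup.map A.subtype) h1
  rwa [map_commutator, map_subgroupOf_eq_of_le h.le] at h2

theorem UC.dvd_card (h : UC p K A) : p ∣ Nat.card K := by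
  have h1 := prime_dvd_card_pcomp h.2
  rwa [Nat.card_congr (subgroupOfEquivOfLe h.le).toEquiv] at h1

theorem UC.ne_bot (h : UC p K A) : K ≠ ⊥ := by
  rintro rfl
  have h1 := h.dvd_card
  rw [card_bot] at h1
  exact hp.out.one_lt.ne' (Nat.dvd_one.1 h1)

theorem UC.conj (h : UC p K A) (g : G) :
    UC p (K.map (MulAut.conj g).toMonoidHom) (A.map (MulAut.conj g).toMonoidHom) := by
  refine UC.of_intrinsic (h.subn.conj g) ?_ ?_
  · rw [← map_pElem p _ (MulAut.conj g).injective, h.gen]
  · let e : K ≃* K.map (MulAut.conj g).toMonoidHom :=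
      K.equivMapOfInjective (MulAut.conj g).toMonoidHom (MulAut.conj g).injective
    let f := QuotientGroup.congr (pPrimeCore p K) (pPrimeCore p (K.map (MulAut.conj g).toMonoidHom)) e
      (Cores.map_equiv_pPrimeCore e p)
    exact PCompQuot.quasisimple_congr f h.qs

/-- a `p`-component inside `N O_{p'}(A)`, `N` subnormal in `A`, lies in `N` -/
theorem UC.le_of_sup (h : UC p K A) (hN : SubnIn N A) (hle : K ≤ N ⊔ OA p A) : K ≤ N := by
  have hn : SubnIn (K ⊓ N) K := by
    have h1 := hN.inf K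
    rw [inf_comm N K, inf_eq_right.2 h.le] at h1
    exact h1
  have hc : ((K ⊓ N).relIndex K).Coprime p := by
    rw [inf_relIndex_left]
    have h1 : SubnIn K (N ⊔ OA p A) := h.subn.mono hle (sup_le hN.1 (OA_le p A))
    have h2 := h1.relIndex_dvd N
    refine Nat.Coprime.coprime_dvd_left h2 ?_
    refine Nat.Coprime.coprime_dvd_left ?_ (OA_coprime p A)
    have h3 := relIndex_sup_dvd_card (N.subgroupOf A) (pPrimeCore p A)
    have h4 : (N.subgroupOf A) ⊔ pPrimeCore p A = (N ⊔ OA p A).subgroupOf A := by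
      rw [← OA_subgroupOf, subgroupOf_sup hN.1 (OA_le p A)]
    rw [h4, relIndex_subgroupOf (sup_le hN.1 (OA_le p A))] at h3
    rwa [OA, Nat.card_congr ((pPrimeCore p A).equivMapOfInjective _ A.subtype_injective).symm.toEquiv]
  have h5 := hn.pElem_le_of_coprime hc
  rw [h.gen] at h5
  exact h5.trans inf_le_right

theorem comm_le_OA_iff {H J : Subgroup G} (hH : H ≤ A) (hJ : J ≤ A) :
    ⁅H, J⁆ ≤ OA p A ↔ ⁅H.subgroupOf A, J.subgroupOf A⁆ ≤ pPrimeCore p A := by
  rw [← map_subtype_le_map_subtype, map_commutator, map_subgroupOf_eq_of_le hH, map_subgroupOf_eq_of_le hJ]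
  rfl

theorem UC.le_or_comm (h : UC p K A) (hN : SubnIn N A) : K ≤ N ∨ ⁅K, N⁆ ≤ OA p A := by
  have h1 := h.2
  rcases Components.component_le_or_commutator_eq_bot h1.2.1
    (hN.2.map (QuotientGroup.mk'_surjective (pPrimeCore p A))) with h2 | h2
  · left
    apply h.le_of_sup hN
    have h3 : K.subgroupOf A ≤ N.subgroupOf A ⊔ pPrimeCore p A := by
      rw [← QuotientGroup.ker_mk' (pPrimeCore p A), ← Subgroup.comap_map_eq]
      exact Subgroup.map_le_iff_le_comap.mp h2
    have h4 := Subgroup.map_mono (f := A.subtype) h3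
    rwa [Subgroup.map_sup, map_subgroupOf_eq_of_le h.le, map_subgroupOf_eq_of_le hN.1] at h4
  · right
    rw [comm_le_OA_iff h.le hN.1]
    rwa [← Subgroup.map_commutator, Subgroup.map_eq_bot_iff, QuotientGroup.ker_mk'] at h2

theorem UC.not_le_OA (h : UC p K A) : ¬ K ≤ OA p A := by
  intro h1
  have h2 := (OA_coprime p A)
  have h3 : p ∣ Nat.card (OA p A) := h.dvd_card.trans (card_dvd_of_le h1)
  exact (Nat.Prime.coprime_iff_not_dvd hp.out).1 h2.symm h3

theorem UC.not_comm (h : UC p K A) : ¬ ⁅K, K⁆ ≤ OA p A := by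
  rw [h.perfect]
  exact h.not_le_OA

theorem UC.eq_or_comm (h : UC p K A) (h' : UC p L A) : K = L ∨ ⁅K, L⁆ ≤ OA p A := by
  rcases h.le_or_comm h'.subn with h1 | h1
  · rcases h'.le_or_comm h.subn with h2 | h2
    · exact Or.inl (le_antisymm h1 h2)
    · right
      rwa [commutator_comm]
  · exact Or.inr h1

/-- an element normalising `K` modulo `O_{p'}(A)` normalises `K` -/
theorem UC.norm_of_sup (h : UC p K A) : normalizer ((K ⊔ OA p A : Subgroup G) : Set G) ⊓ A ≤ normalizer (K : Set G) := by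
  rintro g ⟨hg, hgA⟩
  have h1 := normalizer_le_normalizer_pElem (p := p) _ hg
  have h2 : pElem p (K ⊔ OA p A) = K := by
    apply le_antisymm
    · refine SubnIn.pElem_le_of_coprime (h.subn.mono le_sup_left (sup_le h.le (OA_le p A))) ?_
      refine Nat.Coprime.coprime_dvd_left ?_ (OA_coprime p A)
      have h3 := relIndex_sup_dvd_card (K.subgroupOf A) (pPrimeCore p A)
      have h4 : (K.subgroupOf A) ⊔ pPrimeCore p A = (K ⊔ OA p A).subgroupOf A := by
        rw [← OA_subgroupOf, subgroupOf_sup h.le (OA_le p A)]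
      rw [h4, relIndex_subgroupOf (sup_le h.le (OA_le p A))] at h3
      rwa [OA, Nat.card_congr ((pPrimeCore p A).equivMapOfInjective _ A.subtype_injective).symm.toEquiv]
    · calc K = pElem p K := h.gen.symm
        _ ≤ pElem p (K ⊔ OA p A) := pElem_mono le_sup_left
  rwa [h2] at h1

/-- `[K, X] ≤ O_{p'}(A)`: `X` normalises `K` -/
theorem UC.norm_of_comm (h : UC p K A) {X : Subgroup G} (hX : X ≤ A) (hc : ⁅K, X⁆ ≤ OA p A) :
    X ≤ normalizer (K : Set G) := by
  refine le_trans (le_inf ?_ hX) h.norm_of_sup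
  rw [le_normalizer_iff_commutator_le_left]
  rw [commutator_comm]
  have h1 : ⁅X, K ⊔ OA p A⁆ ≤ OA p A := by
    rw [commutator_comm]
    have : OA p A ⊔ K = K ⊔ OA p A := sup_comm _ _
    rw [commutator_le]
    intro g hg x hx
    have hKn : K ≤ normalizer (OA p A : Set G) := h.le.trans (OA_norm p A)
    rw [← this, ← SetLike.mem_coe, coe_mul_of_right_le_normalizer_left _ _ hKn] at hg
    obtain ⟨o, ho, k, hk, rfl⟩ := hg
    have e : ⁅o * k, x⁆ = o * ⁅k, x⁆ * o⁻¹ * (o * (x * o⁻¹ * x⁻¹)) := by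
      simp only [commutatorElement_def]; group
    show ⁅o * k, x⁆ ∈ OA p A
    rw [e]
    refine mul_mem ?_ ?_
    · exact mul_mem (mul_mem ho (hc (commutator_mem_commutator hk hx))) (inv_mem ho)
    · refine mul_mem ho ?_
      exact (mem_normalizer_iff.1 (OA_norm p A (hX hx)) _).1 (inv_mem ho)
  exact h1.trans le_sup_right

theorem UC.OA_le_norm (h : UC p K A) : OA p A ≤ normalizer (K : Set G) := by
  refine h.norm_of_comm (OA_le p A) ?_
  exact le_normalizer_iff_commutator_le_right.1 (h.le.trans (OA_norm p A))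

end

end Cfsg.Agent.R2.T3544
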