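import Mathlib
import Cfsg.Agent.H14.PQ
import Cfsg.Agent.Schreier.KBalance
import Cfsg.Agent.R2.T3544.Comp
import Cfsg.Agent.R2.T3544.UDef
import Cfsg.Agent.R2.T3544.UComp

/-!
# S3544: balance for `p`-components of subgroups of index prime to `p`

`UC.balance`: if `B ≤ A`, `p` does not divide `|A : B|`, the composition factors of `A` have the Schreier property and
`K` is a `p`-component of `B`, then `K ≤ J` for a `p`-component `J` of `A`.
-/

set_option autoImplicit false
set_option linter.unusedSectionVars false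

open scoped commutatorElement

namespace Cfsg.Agent.R2.T3544

open Subgroup Cfsg Cfsg.Agent.Lib Cfsg.Agent.SignalizersComponents Cfsg.Agent.H14.PQ Cfsg.Agent.Schreier
open Cfsg.Agent.Schreier.Basic Cfsg.Agent.Schreier.Balance

namespace UBal

/-! ### The abstract lemma -/

/-- the elements normalising `D` and centralising `U` modulo `D` -/
def commMod {Q : Type*} [Group Q] (U D : Subgroup Q) : Subgroup Q where
  carrier := {x | x ∈ normalizer (D : Set Q) ∧ ∀ u ∈ U, ⁅u, x⁆ ∈ D}
  one_mem' := ⟨one_mem _, fun u _ => by rw [commutatorElement_one_right]; exact D.one_mem⟩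
  mul_mem' := by
    rintro x y ⟨hx1, hx2⟩ ⟨hy1, hy2⟩
    refine ⟨mul_mem hx1 hy1, fun u hu => ?_⟩
    have h1 : ⁅u, x * y⁆ = ⁅u, x⁆ * (x * ⁅u, y⁆ * x⁻¹) := by
      simp only [commutatorElement_def]; group
    rw [h1]
    exact D.mul_mem (hx2 u hu) ((mem_normalizer_iff.1 hx1 _).1 (hy2 u hu))
  inv_mem' := by
    rintro x ⟨hx1, hx2⟩
    refine ⟨inv_mem hx1, fun u hu => ?_⟩
    have h1 : ⁅u, x⁻¹⁆ = x⁻¹ * ⁅u, x⁆⁻¹ * (x⁻¹)⁻¹ := by
      simp only [commutatorElement_def]; group
    rw [h1]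
    exact (mem_normalizer_iff.1 (inv_mem hx1) _).1 (D.inv_mem (hx2 u hu))

theorem mem_commMod {Q : Type*} [Group Q] {U D : Subgroup Q} {x : Q} :
    x ∈ commMod U D ↔ x ∈ normalizer (D : Set Q) ∧ ∀ u ∈ U, ⁅u, x⁆ ∈ D := Iff.rfl

theorem pow_eq_one_of_coprime {Q : Type*} [Group Q] [Finite Q] {p : ℕ} {D : Subgroup Q}
    (hDc : (Nat.card D).Coprime p) {x : Q} (hx : x ∈ D) {n : ℕ} (hn : x ^ p ^ n = 1) : x = 1 := by
  have h1 : orderOf x ∣ p ^ n := orderOf_dvd_of_pow_eq_one hn
  have h2 : orderOf x ∣ Nat.card D := by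
    rw [← Subgroup.orderOf_mk x hx]
    exact orderOf_dvd_natCard _
  have h3 := Nat.dvd_gcd h2 h1
  rw [Nat.Coprime.gcd_eq_one (Nat.Coprime.pow_right n hDc), Nat.dvd_one, orderOf_eq_one_iff] at h3
  exact h3

/-- A perfect group generated by `p`-elements which centralises, modulo a `p'`-group, a subgroup of index prime to `p`
is trivial. -/
theorem eq_bot_of_comm {Q : Type*} [Group Q] [Finite Q] {p : ℕ} {I U S D : Subgroup Q}
    (hU : U ≤ I) (hS : S ≤ I) (hD : D ≤ I) (hSi : (S.relIndex I).Coprime p)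
    (hDc : (Nat.card D).Coprime p) (hUD : U ≤ normalizer (D : Set Q)) (hSD : S ≤ normalizer (D : Set Q))
    (hUS : ∀ u ∈ U, ∀ s ∈ S, ⁅u, s⁆ ∈ D) (hUperf : ⁅U, U⁆ = U) (hUp : PComponents.pElem p U = U) : U = ⊥ := by
  set M : Subgroup Q := S ⊔ D with hM
  have hDnorm : D ≤ normalizer (D : Set Q) := le_normalizer
  have hMT : M ≤ commMod U D := by
    refine sup_le (fun s hs => ⟨hSD hs, fun u hu => hUS u hu s hs⟩) (fun d hd => ⟨hDnorm hd, fun u hu => ?_⟩)
    rw [commutatorElement_def]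
    exact D.mul_mem ((mem_normalizer_iff.1 (hUD hu) _).1 hd) (D.inv_mem hd)
  have hMI : M ≤ I := sup_le hS hD
  have hDM : D ≤ M := le_sup_right
  -- `U` normalises `M`
  have hUM1 : ∀ u ∈ U, ∀ m ∈ M, u * m * u⁻¹ ∈ M := by
    intro u hu m hm
    have h1 : u * m * u⁻¹ = ⁅u, m⁆ * m := by
      rw [commutatorElement_def]; group
    rw [h1]
    exact M.mul_mem (hDM ((mem_commMod.1 (hMT hm)).2 u hu)) hm
  have hUM : U ≤ normalizer (M : Set Q) := by
    intro u hu
    rw [mem_normalizer_iff]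
    intro m
    refine ⟨hUM1 u hu m, fun h => ?_⟩
    have h2 := hUM1 u⁻¹ (U.inv_mem hu) _ h
    have h3 : u⁻¹ * (u * m * u⁻¹) * u⁻¹⁻¹ = m := by group
    rwa [h3] at h2
  -- the `p`-elements of `U` lie in `M`
  have hpM : U ≤ M := by
    rw [← hUp, PComponents.pElem, closure_le]
    rintro u ⟨hu, n, hn⟩
    let A : Subgroup Q := normalizer (M : Set Q) ⊓ I
    have hMA : M ≤ A := le_inf le_normalizer hMI
    have hMn : (M.subgroupOf A).Normal := by
      rw [normal_subgroupOf_iff_le_normalizer hMA]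
      exact inf_le_left
    have h1 : (M.subgroupOf A).index.Coprime p := by
      have h2 : M.relIndex A * A.relIndex I = M.relIndex I := relIndex_mul_relIndex _ _ _ hMA inf_le_right
      have h3 : M.relIndex I ∣ S.relIndex I := relIndex_dvd_of_le_left I (le_sup_left : S ≤ M)
      exact Nat.Coprime.coprime_dvd_left ((Dvd.intro _ h2).trans h3) hSi
    have h4 := PComponents.mem_of_pElem_of_isSubnormal (p := p) hMn.isSubnormal h1
      (y := (⟨u, hUM hu, hU hu⟩ : A)) (n := n) (Subtype.ext hn)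
    exact mem_subgroupOf.1 h4
  have hUD' : U ≤ D := by
    rw [← hUperf, Subgroup.commutator_le]
    intro a ha b hb
    exact (mem_commMod.1 (hMT (hpM hb))).2 a ha
  rw [eq_bot_iff, ← hUp, PComponents.pElem, closure_le]
  rintro u ⟨hu, n, hn⟩
  rw [SetLike.mem_coe, mem_bot]
  exact pow_eq_one_of_coprime hDc (hUD' hu) hn

/-! ### Trivial `p'`-core -/

section Bot

variable {L : Type*} [Group L] [Finite L] {p : ℕ} [hp : Fact p.Prime]

/-- Perfect groups of automorphisms of a quasisimple group are inner, if the simple quotient has the Schreier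
property. -/
theorem le_range_conj {J : Type*} [Group J] (hJ : IsQuasisimple J) (hSch : Sch (J ⧸ center J))
    {U : Subgroup (MulAut J)} (hU : ⁅U, U⁆ = U) : U ≤ (MulAut.conj : J →* MulAut J).range := by
  intro φ hφ
  obtain ⟨a, ha⟩ := hSch _ (map_perfect (quoAut J) hU) ⟨φ, hφ, rfl⟩
  obtain ⟨j, rfl⟩ := QuotientGroup.mk'_surjective _ a
  refine ⟨j, quoAut_injective hJ.1 ?_⟩
  rw [← ha]
  apply MulEquiv.ext
  intro x
  induction x using QuotientGroup.induction_on with
  | H x => rfl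

/-- `K` normalises every component with which its normal complement part commutes. -/
theorem le_normalizer_of_comm (hO : pPrimeCore p L = ⊥) {H K J D : Subgroup L} (hH : H.index.Coprime p)
    (hJ : IsComponent J) (hDc : (Nat.card D).Coprime p) (h : ⁅K, J ⊓ H⁆ ≤ D) :
    K ≤ normalizer (J : Set L) := by
  intro k hk
  by_contra hne
  have hJ' : IsComponent (J.map (MulAut.conj k).toMonoidHom) := Components.isComponent_conj k hJ
  have hJne : J.map (MulAut.conj k).toMonoidHom ≠ J := by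
    intro hcon
    apply hne
    rw [mem_normalizer_iff]
    intro x
    constructor
    · intro hx
      rw [← hcon]
      exact ⟨x, hx, rfl⟩
    · intro hx
      rw [← hcon] at hx
      obtain ⟨y, hy, hyx⟩ := hx
      have h1 : k * y * k⁻¹ = k * x * k⁻¹ := hyx
      have h2 : y = x := by simpa using h1
      rwa [← h2]
  have hcent := Components.component_le_centralizer_of_ne hJ' hJ hJne
  obtain ⟨P⟩ : Nonempty (Sylow p H) := inferInstance
  let S : Subgroup L := (P : Subgroup H).map H.subtype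
  have hSi : ¬ p ∣ S.index := by
    rw [← hp.out.coprime_iff_not_dvd, Nat.coprime_comm]
    have h1 : S.index = S.relIndex H * H.index :=
      (relIndex_mul_index (map_subtype_le _)).symm
    have h2 : S.relIndex H = (P : Subgroup H).index := by
      change (S.subgroupOf H).index = _
      rw [show S.subgroupOf H = (P : Subgroup H) from by
        rw [Subgroup.subgroupOf, comap_map_eq_self_of_injective H.subtype_injective]]
    rw [h1, h2]
    refine Nat.Coprime.mul_left ?_ hH
    rw [Nat.coprime_comm, hp.out.coprime_iff_not_dvd]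
    exact P.not_dvd_index
  refine PCompCore.not_le_centralizer_of_component hO hJ S
    (fun h1 => hSi (h1.trans (PCompCore.relIndex_dvd_index_of_subnormal _ hJ.1))) ?_
  rintro s ⟨⟨⟨s', hs'H⟩, hs', hs''⟩, hsJ⟩
  obtain ⟨n, hn⟩ : ∃ n : ℕ, s ^ p ^ n = 1 := by
    obtain ⟨n, hn⟩ := P.2 ⟨_, hs'⟩
    refine ⟨n, ?_⟩
    have := congrArg (fun z : (P : Subgroup H) => ((z : H) : L)) hn
    rw [← hs'']
    simpa using this
  have hsH : s ∈ H := by rw [← hs'']; exact hs'H
  have h1 : k * s * k⁻¹ ∈ J.map (MulAut.conj k).toMonoidHom := ⟨s, hsJ, rfl⟩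
  have h2 : Commute (k * s * k⁻¹) s⁻¹ := by
    have h3 := mem_centralizer_iff.1 (hcent h1) s⁻¹ (J.inv_mem hsJ)
    exact h3.symm
  have h3 : ⁅k, s⁆ ∈ D := h (commutator_mem_commutator hk ⟨hsJ, hsH⟩)
  have h4 : ⁅k, s⁆ ^ p ^ n = 1 := by
    have h5 : ⁅k, s⁆ = (k * s * k⁻¹) * s⁻¹ := rfl
    rw [h5, h2.mul_pow, inv_pow, hn, inv_one, mul_one, conj_pow, hn, mul_one, mul_inv_cancel]
  have h5 := pow_eq_one_of_coprime hDc h3 h4
  have h6 : k * s * k⁻¹ = s := by
    have h7 : (k * s * k⁻¹) * s⁻¹ = 1 := h5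
    exact mul_inv_eq_one.1 h7
  rw [h6] at h1
  exact hcent h1

/-- A `p`-component of `H` commuting with `J ∩ H` modulo `O_{p'}(H)` centralises `J`. -/
theorem le_centralizer_of_comm (hO : pPrimeCore p L = ⊥) {H K J : Subgroup L} (hH : H.index.Coprime p)
    (hJ : IsComponent J) (hSch : Sch (J ⧸ center J)) (hK : UC p K H) (h : ⁅K, J ⊓ H⁆ ≤ OA p H) :
    K ≤ centralizer (J : Set L) := by
  have hKN : K ≤ normalizer (J : Set L) := le_normalizer_of_comm hO hH hJ (OA_coprime p H) h
  have hKD : K ≤ normalizer (OA p H : Set L) := hK.le.trans (OA_norm p H)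
  let Φ : K →* MulAut J := (normalizerMonoidHom J).comp (inclusion hKN)
  have hΦ : ∀ (k : K) (j : J), ((Φ k j : J) : L) = k * j * (k : L)⁻¹ := fun _ _ => rfl
  have htop : (⊤ : Subgroup K).map K.subtype = K := by
    rw [← MonoidHom.range_eq_map, Subgroup.range_subtype]
  have hperf : ⁅(⊤ : Subgroup K), (⊤ : Subgroup K)⁆ = ⊤ := by
    apply map_injective K.subtype_injective
    rw [map_commutator, htop, hK.perfect]
  have hpe : PComponents.pElem p (⊤ : Subgroup K) = ⊤ := (pElem_top_coe_iff K).2 hK.gen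
  have hUperf : ⁅(⊤ : Subgroup K).map Φ, (⊤ : Subgroup K).map Φ⁆ = (⊤ : Subgroup K).map Φ := map_perfect Φ hperf
  have hUp : PComponents.pElem p ((⊤ : Subgroup K).map Φ) = (⊤ : Subgroup K).map Φ := by
    apply le_antisymm (PComponents.pElem_le _)
    have h1 := map_pElem_le (p := p) Φ (⊤ : Subgroup K)
    rwa [hpe] at h1
  have hconj : ∀ a b : J, ((MulAut.conj a b : J) : L) = a * b * (a : L)⁻¹ := fun _ _ => rfl
  -- normalisation of `D ∩ J`
  have hDJ : ∀ a : L, a ∈ normalizer (OA p H : Set L) → a ∈ normalizer (J : Set L) → ∀ d ∈ OA p H ⊓ J,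
      a * d * a⁻¹ ∈ OA p H ⊓ J := fun a h1 h2 d hd =>
    ⟨(mem_normalizer_iff.1 h1 d).1 hd.1, (mem_normalizer_iff.1 h2 d).1 hd.2⟩
  have hres : ∀ {φ : MulAut J} {a : L}, (∀ j : J, ((φ j : J) : L) = a * j * a⁻¹) → ∀ d : J,
      φ * MulAut.conj d * φ⁻¹ = MulAut.conj (φ d) := by
    intro φ a _ d
    apply MulEquiv.ext
    intro x
    simp [MulAut.conj_apply]
  have hnorm : ∀ {φ : MulAut J} {a : L}, (∀ j : J, ((φ j : J) : L) = a * j * a⁻¹) →
      a ∈ normalizer (OA p H : Set L) → a ∈ normalizer (J : Set L) →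
      ∀ ψ ∈ ((OA p H ⊓ J).subgroupOf J).map (MulAut.conj : J →* MulAut J),
      φ * ψ * φ⁻¹ ∈ ((OA p H ⊓ J).subgroupOf J).map (MulAut.conj : J →* MulAut J) := by
    rintro φ a hφ h1 h2 _ ⟨d, hd, rfl⟩
    rw [hres hφ]
    refine ⟨φ d, ?_, rfl⟩
    have h3 := hDJ a h1 h2 (d : L) (mem_subgroupOf.1 hd)
    rw [← hφ] at h3
    exact mem_subgroupOf.2 h3
  have hle : ∀ {V : Subgroup (MulAut J)}, (∀ φ ∈ V, ∃ a : L, (∀ j : J, ((φ j : J) : L) = a * j * a⁻¹) ∧
      a ∈ normalizer (OA p H : Set L) ∧ a ∈ normalizer (J : Set L)) →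
      V ≤ normalizer ((((OA p H ⊓ J).subgroupOf J).map (MulAut.conj : J →* MulAut J) :
        Subgroup (MulAut J)) : Set (MulAut J)) := by
    intro V hV φ hφ
    rw [mem_normalizer_iff]
    intro ψ
    obtain ⟨a, h1, h2, h3⟩ := hV φ hφ
    refine ⟨hnorm h1 h2 h3 ψ, fun h4 => ?_⟩
    obtain ⟨b, h5, h6, h7⟩ := hV φ⁻¹ (V.inv_mem hφ)
    have h8 := hnorm h5 h6 h7 _ h4
    have h9 : φ⁻¹ * (φ * ψ * φ⁻¹) * φ⁻¹⁻¹ = ψ := by group
    rwa [h9] at h8
  have hbot : (⊤ : Subgroup K).map Φ = ⊥ := by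
    refine eq_bot_of_comm (p := p) (I := (MulAut.conj : J →* MulAut J).range)
      (S := ((J ⊓ H).subgroupOf J).map (MulAut.conj : J →* MulAut J))
      (D := ((OA p H ⊓ J).subgroupOf J).map (MulAut.conj : J →* MulAut J))
      (le_range_conj hJ.2 hSch hUperf) (map_le_range _ _) (map_le_range _ _) ?_ ?_ ?_ ?_ ?_ hUperf hUp
    · have h1 : (((J ⊓ H).subgroupOf J).map (MulAut.conj : J →* MulAut J)).relIndex
          (MulAut.conj : J →* MulAut J).range ∣ H.index := by
        rw [MonoidHom.range_eq_map, relIndex_map_map, top_sup_eq, relIndex_top_right]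
        refine (index_dvd_of_le le_sup_left).trans ?_
        have h2 : ((J ⊓ H).subgroupOf J).index = H.relIndex J := by
          change (J ⊓ H).relIndex J = _
          rw [inf_relIndex_left]
        rw [h2]
        exact PCompCore.relIndex_dvd_index_of_subnormal _ hJ.1
      exact Nat.Coprime.coprime_dvd_left h1 hH
    · refine Nat.Coprime.coprime_dvd_left (card_map_dvd _ _) ?_
      rw [Nat.card_congr (subgroupOfEquivOfLe (inf_le_right : OA p H ⊓ J ≤ J)).toEquiv]
      exact Nat.Coprime.coprime_dvd_left (card_dvd_of_le inf_le_left) (OA_coprime p H)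
    · apply hle
      rintro _ ⟨k, -, rfl⟩
      exact ⟨k, hΦ k, hKD k.2, hKN k.2⟩
    · apply hle
      rintro _ ⟨s, hs, rfl⟩
      exact ⟨s, hconj s, OA_norm p H (mem_subgroupOf.1 hs).2, le_normalizer s.2⟩
    · rintro _ ⟨k, -, rfl⟩ _ ⟨s, hs, rfl⟩
      have h1 : ⁅Φ k, MulAut.conj s⁆ = MulAut.conj (Φ k s * s⁻¹) := by
        rw [commutatorElement_def, hres (hΦ k), ← map_inv, ← map_mul]
      rw [h1]
      refine ⟨_, ?_, rfl⟩
      have hsJ : (s : L) ∈ J ⊓ H := mem_subgroupOf.1 hs
      refine mem_subgroupOf.2 ⟨?_, SetLike.coe_mem _⟩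
      have h2 : ((Φ k s * s⁻¹ : J) : L) = ⁅(k : L), (s : L)⁆ := by
        rw [commutatorElement_def]
        simp [hΦ]
      rw [h2]
      exact h (commutator_mem_commutator k.2 hsJ)
  intro k hk
  rw [mem_centralizer_iff]
  intro j hj
  have h1 : Φ ⟨k, hk⟩ = 1 := by
    have h2 : Φ ⟨k, hk⟩ ∈ (⊤ : Subgroup K).map Φ := ⟨_, mem_top _, rfl⟩
    rw [hbot] at h2
    exact mem_bot.1 h2
  have h2 := hΦ ⟨k, hk⟩ ⟨j, hj⟩
  rw [h1] at h2
  have h3 : j = k * j * k⁻¹ := h2
  calc j * k = (k * j * k⁻¹) * k := by rw [← h3]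
    _ = k * j := by group

/-- Balance if `O_{p'}(L) = 1`. -/
theorem bal0 (hO : pPrimeCore p L = ⊥) (hSch : ∀ E : Subgroup L, IsComponent E → Sch (E ⧸ center E))
    {H K : Subgroup L} (hH : H.index.Coprime p) (hK : UC p K H) : ∃ J : Subgroup L, IsComponent J ∧ K ≤ J := by
  by_contra hcon
  have hcent : ∀ J : Subgroup L, IsComponent J → K ≤ centralizer (J : Set L) := by
    intro J hJ
    have hJH : SubnIn (J ⊓ H) H := by
      have h1 : SubnIn J ⊤ := ⟨le_top, hJ.1.comap _⟩
      have h2 := h1.inf H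
      rwa [top_inf_eq] at h2
    rcases hK.le_or_comm hJH with h | h
    · exact absurd ⟨J, hJ, h.trans inf_le_left⟩ hcon
    · exact le_centralizer_of_comm hO hH hJ (hSch J hJ) hK h
  -- `O_p(L) ≤ H`
  have hRH : pCore p L ≤ H := by
    rw [← relIndex_eq_one]
    have h1 : H.relIndex (pCore p L) ∣ H.index :=
      PCompCore.relIndex_dvd_index_of_subnormal _ (Cores.pCore_normal p).isSubnormal
    obtain ⟨n, hn⟩ := (Cores.pCore_isPGroup (G := L) p).index (H.subgroupOf (pCore p L))
    have h2 : H.relIndex (pCore p L) = p ^ n := hn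
    rcases Nat.eq_zero_or_pos n with h3 | h3
    · rw [h2, h3, pow_zero]
    · exfalso
      have h4 : p ∣ H.index := (dvd_pow_self p h3.ne').trans (h2 ▸ h1)
      exact (hp.out.coprime_iff_not_dvd.1 hH.symm) h4
  have hRn : (pCore p L).Normal := Cores.pCore_normal p
  have hKR : K ≤ centralizer (pCore p L : Set L) := by
    have h1 : SubnIn (pCore p L) H := SubnIn.of_normal hRH (by
      rw [normalizer_eq_top]
      exact le_top)
    rcases hK.le_or_comm h1 with h | h
    · exfalso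
      have h2 : IsPGroup p K := (Cores.pCore_isPGroup (G := L) p).to_le h
      have h3 : Group.IsNilpotent K := h2.isNilpotent
      exact hK.ne_bot (eq_bot_of_perfect_of_solvable hK.perfect inferInstance)
    · rw [← commutator_eq_bot_iff_le_centralizer, eq_bot_iff]
      intro x hx
      have h2 : x ∈ pCore p L := commutator_le_right K (pCore p L) hx
      obtain ⟨n, hn⟩ := Cores.pCore_isPGroup (G := L) p ⟨x, h2⟩
      rw [mem_bot]
      exact pow_eq_one_of_coprime (OA_coprime p H) (h hx) (n := n) (congrArg Subtype.val hn)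
  have hKF : K ≤ centralizer (generalizedFittingSubgroup L : Set L) := by
    rw [GenFitting.genFitting_def, PConstrained.fittingSubgroup_eq_pCore_of_pPrimeCore_eq_bot p hO]
    rw [le_centralizer_iff]
    refine sup_le ?_ (le_centralizer_iff.1 hKR)
    refine sSup_le fun J hJ => ?_
    exact le_centralizer_iff.1 (hcent J hJ)
  have hKF' : K ≤ generalizedFittingSubgroup L := hKF.trans GenFitting.centralizer_genFitting_le
  have hKK : ⁅K, K⁆ = ⊥ := by
    rw [commutator_eq_bot_iff_le_centralizer]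
    exact hKF.trans (centralizer_le hKF')
  rw [hK.perfect] at hKK
  exact hK.ne_bot hKK

end Bot

/-- The Schreier property of the components of `A / O_{p'}(A)`. -/
theorem sch_component {X : Type*} [Group X] {p : ℕ} (hX : KBalance.SchFactors X)
    (E : Subgroup (X ⧸ pPrimeCore p X)) (hE : IsComponent E) : Sch (E ⧸ center E) := by
  let π := QuotientGroup.mk' (pPrimeCore p X)
  let H : Subgroup X := E.comap π
  let f : H →* E := π.subgroupComap E
  have hf : Function.Surjective f := π.subgroupComap_surjective_of_surjective E (QuotientGroup.mk'_surjective _)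
  let e : H ⧸ (Subgroup.center E).comap f ≃* E ⧸ Subgroup.center E := KBalance.quotientComapEquiv f hf _
  have h1 : IsSimpleGroup (H ⧸ (Subgroup.center E).comap f) := KBalance.isSimpleGroup_of_equiv e hE.2.2
  have h2 : ¬ IsMulCommutative (H ⧸ (Subgroup.center E).comap f) :=
    KBalance.not_isMulCommutative_of_equiv e (KBalance.not_isMulCommutative_quotient hE.2)
  exact Sch.of_equiv e (hX H (hE.1.comap π) _ h1 h2)

/-- Balance in a group. -/
theorem bal1 {Y : Type*} [Group Y] [Finite Y] {p : ℕ} [hp : Fact p.Prime] (hY : KBalance.SchFactors Y)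
    {H K : Subgroup Y} (hH : H.index.Coprime p) (hK : UC p K H) : ∃ J : Subgroup Y, IsPComponent p J ∧ K ≤ J := by
  let π := QuotientGroup.mk' (pPrimeCore p Y)
  have hπ : Function.Surjective π := QuotientGroup.mk'_surjective _
  have hO : pPrimeCore p (Y ⧸ pPrimeCore p Y) = ⊥ := PComponents.pPrimeCore_quotient_eq_bot p
  obtain ⟨hKH, hKsn, hKq⟩ := isPComponentOf_iff.1 hK
  have hnt : Nontrivial (K.map π) := by
    rw [nontrivial_iff_ne_bot]
    intro h
    rw [Subgroup.map_eq_bot_iff, QuotientGroup.ker_mk'] at h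
    exact hKq.not_coprime (Nat.Coprime.coprime_dvd_left (card_dvd_of_le h) (Cores.pPrimeCore_coprime p))
  have hKq' : IsPQ p (K.map π) := hKq.of_surjective (f := π.subgroupMap K) (π.subgroupMap_surjective K)
  have hKsn' : ((K.map π).subgroupOf (H.map π)).IsSubnormal := by
    have h1 := hKsn.map (f := π.subgroupMap H) (π.subgroupMap_surjective H)
    convert h1 using 1
    ext x
    constructor
    · intro hx
      obtain ⟨k, hk, hkx⟩ := mem_subgroupOf.1 hx
      exact ⟨⟨k, hKH hk⟩, hk, Subtype.ext hkx⟩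
    · rintro ⟨k, hk, rfl⟩
      exact mem_subgroupOf.2 ⟨k, hk, rfl⟩
  have hH' : (H.map π).index.Coprime p := Nat.Coprime.coprime_dvd_left (index_map_dvd H hπ) hH
  obtain ⟨E, hE, hKE⟩ := bal0 hO (sch_component hY) hH' (isPComponentOf_iff.2 ⟨map_mono hKH, hKsn', hKq'⟩)
  obtain ⟨J, hJ, hJE⟩ := PComponents.exists_pcomp hE
  refine ⟨J, hJ, ?_⟩
  rw [← hK.gen]
  have h1 : K ≤ E.comap π := map_le_iff_le_comap.1 hKE
  exact (PComponents.pElem_mono h1).trans (PComponents.pElem_comap_le hJ.1 hJE)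

end UBal

/-! ### Balance for subgroups -/

section

variable {G : Type*} [Group G] [Finite G] {p : ℕ} [hp : Fact p.Prime]

/-- **Balance** for subgroups of index prime to `p`: a `p`-component of `B` lies in a `p`-component of `A`. -/
theorem UC.balance_gen {A B K : Subgroup G} (hS : KBalance.SchFactors A) (hBA : B ≤ A)
    (hi : ¬ p ∣ B.relIndex A) (hK : UC p K B) : ∃ J, UC p J A ∧ K ≤ J := by
  have hKA : K ≤ A := hK.le.trans hBA
  obtain ⟨hKB, hKsn, hKq⟩ := isPComponentOf_iff.1 hK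
  have h1 : UC p (K.subgroupOf A) (B.subgroupOf A) := by
    refine isPComponentOf_iff.2 ⟨?_, ?_, hKq.of_equiv (subgroupOfEquivOfLe hKA).symm⟩
    · intro x hx
      exact mem_subgroupOf.2 (hKB (mem_subgroupOf.1 hx))
    · let φ : B.subgroupOf A →* B := (A.subtype.comp (B.subgroupOf A).subtype).codRestrict B
        (fun a => mem_subgroupOf.1 a.2)
      exact hKsn.comap φ
  obtain ⟨J, hJ, hKJ⟩ := UBal.bal1 hS (H := B.subgroupOf A)
    (((Nat.Prime.coprime_iff_not_dvd hp.out).2 hi).symm) h1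
  refine ⟨J.map A.subtype, ⟨map_subtype_le _, ?_⟩, ?_⟩
  · rwa [Subgroup.subgroupOf, comap_map_eq_self_of_injective A.subtype_injective]
  · rw [← map_subgroupOf_eq_of_le hKA]
    exact map_mono hKJ

/-- **Balance** for normalisers of `p`-subgroups. -/
theorem UC.balance {H X K : Subgroup G} (hS : KBalance.SchFactors H) (_hXH : X ≤ H) (_hX : IsPGroup p X)
    (hi : ¬ p ∣ (normalizer (X : Set G)).relIndex H) (hK : UC p K (H ⊓ normalizer (X : Set G))) :
    ∃ J, UC p J H ∧ K ≤ J := by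
  refine UC.balance_gen hS inf_le_left ?_ hK
  rwa [inf_relIndex_left]

/-- The `p`-component is unique. -/
theorem UC.eq_of_le {A B K J J' : Subgroup G} (hK : UC p K B) (hJ : UC p J A) (hJ' : UC p J' A)
    (h : K ≤ J) (h' : K ≤ J') : J = J' := by
  rcases hJ.eq_or_comm hJ' with h1 | h1
  · exact h1
  · exfalso
    have h2 : K ≤ OA p A := by
      rw [← hK.perfect]
      exact (commutator_mono h h').trans h1
    have h3 := (Nat.Prime.coprime_iff_not_dvd hp.out).1 (OA_coprime p A).symm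
    exact h3 (hK.dvd_card.trans (card_dvd_of_le h2))

end

end Cfsg.Agent.R2.T3544
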