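import Cfsg.Agent.R2.T3544.UComp
import Cfsg.Agent.SignalizersComponents.ComponentNormalize
import Cfsg.Agent.SignalizersComponents.CharP
import Cfsg.Agent.Lib.GenFitting

/-!
# S3544, case NL with components: `p`-components and small subgroups (box 3)

* `UC.comm_of_norm`: a `p`-component normalising, modulo `O_{p'}(H)`, a `p`- or `p'`-subgroup `D`
  centralises it modulo `O_{p'}(H)`.
* `le_core_of_comm`: a `p'`-subgroup normalised by a Sylow `p`-subgroup and centralised, modulo
  `O_{p'}(H)`, by all `p`-components lies in `O_{p'}(H)`.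
-/

set_option autoImplicit false
set_option linter.unusedSectionVars false

namespace Cfsg.Agent.R2.T3544

open Subgroup Cfsg
open scoped commutatorElement
open Cfsg.Agent.Lib Cfsg.Agent.Lib.PComponents
open Cfsg.Agent.SignalizersComponents

variable {G : Type*} [Group G] [Finite G] {p : ℕ} [hp : Fact p.Prime]

section bar

variable {H : Subgroup G}

/-- the image of `X ⊓ H` in `H / O_{p'}(H)` -/
def bq (p : ℕ) (H X : Subgroup G) : Subgroup (H ⧸ pPrimeCore p H) :=
  (X.subgroupOf H).map (QuotientGroup.mk' (pPrimeCore p H))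

theorem bq_comm_eq_bot_iff {X Y : Subgroup G} (hX : X ≤ H) (hY : Y ≤ H) :
    ⁅bq p H X, bq p H Y⁆ = ⊥ ↔ ⁅X, Y⁆ ≤ OA p H := by
  rw [comm_le_OA_iff hX hY, bq, bq, ← Subgroup.map_commutator, Subgroup.map_eq_bot_iff,
    QuotientGroup.ker_mk']

theorem bq_card_dvd {X : Subgroup G} (hX : X ≤ H) : Nat.card (bq p H X) ∣ Nat.card X := by
  rw [← Nat.card_congr (subgroupOfEquivOfLe hX).toEquiv]
  exact Subgroup.card_map_dvd _ _

theorem bq_le_normalizer {K D : Subgroup G}
    (hle : K ≤ OA p H ⊔ (H ⊓ normalizer (D : Set G))) :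
    bq p H K ≤ normalizer (bq p H D : Set (H ⧸ pPrimeCore p H)) := by
  have h1 : K.subgroupOf H ≤ pPrimeCore p H ⊔ (H ⊓ normalizer (D : Set G)).subgroupOf H := by
    rw [← OA_subgroupOf, ← subgroupOf_sup (OA_le p H) inf_le_left]
    exact Subgroup.comap_mono hle
  have h2 : bq p H K ≤ ((H ⊓ normalizer (D : Set G)).subgroupOf H).map
      (QuotientGroup.mk' (pPrimeCore p H)) := by
    refine (Subgroup.map_mono h1).trans ?_
    rw [Subgroup.map_sup]
    have h3 : (pPrimeCore p H).map (QuotientGroup.mk' (pPrimeCore p H)) = ⊥ := by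
      rw [Subgroup.map_eq_bot_iff, QuotientGroup.ker_mk']
    rw [h3, bot_sup_eq]
  refine h2.trans ?_
  refine le_trans (Subgroup.map_mono ?_) (Subgroup.le_normalizer_map _)
  intro x hx
  rw [mem_normalizer_iff]
  intro y
  simp only [mem_subgroupOf]
  exact (mem_normalizer_iff.1 (show (x : G) ∈ normalizer (D : Set G) from (mem_subgroupOf.1 hx).2) _)

theorem bq_pPrimeCore_eq_bot : pPrimeCore p (H ⧸ pPrimeCore p H) = ⊥ :=
  pPrimeCore_quotient_eq_bot p

end bar

/-- A `p`-component `K` of `H` which normalises, modulo `O_{p'}(H)`, a subgroup `D` which is a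
`p`-group or a `p'`-group, centralises `D` modulo `O_{p'}(H)`. -/
theorem UC.comm_of_norm {H K D : Subgroup G} (hK : UC p K H) (hD : D ≤ H)
    (hD' : IsPGroup p D ∨ (Nat.card D).Coprime p)
    (hle : K ≤ OA p H ⊔ (H ⊓ normalizer (D : Set G))) : ⁅K, D⁆ ≤ OA p H := by
  rw [← bq_comm_eq_bot_iff hK.le hD]
  have hc : IsComponent (bq p H K) := hK.2.2.1
  rcases ComponentNormalize.component_le_or_comm_of_le_normalizer hc (bq_le_normalizer hle) with h | h
  · exfalso
    have hdvd := prime_dvd_card_component bq_pPrimeCore_eq_bot hc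
    rcases hD' with h1 | h1
    · have h2 : IsPGroup p (bq p H D) := by
        have h3 : IsPGroup p (D.subgroupOf H) := h1.of_equiv (subgroupOfEquivOfLe hD).symm
        exact h3.map _
      have h4 : IsPGroup p (bq p H K) := h2.to_le h
      have h5 : Group.IsSolvable (bq p H K) := by
        have := h4.isNilpotent
        infer_instance
      exact ComponentSolvable.quasisimple_not_solvable hc.2 h5
    · have h2 : p ∣ Nat.card D := (hdvd.trans (card_dvd_of_le h)).trans (bq_card_dvd hD)
      exact (Nat.Prime.coprime_iff_not_dvd hp.out).1 h1.symm h2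
  · exact h

/-- A `p'`-subgroup `D` of `H`, normalised by a Sylow `p`-subgroup `R` of `H` and centralised
modulo `O_{p'}(H)` by every `p`-component of `H`, lies in `O_{p'}(H)`. -/
theorem le_core_of_comm {H D R : Subgroup G} (hD : D ≤ H) (hc : (Nat.card D).Coprime p)
    (hR : R ≤ H) (hRp : IsPGroup p R) (hi : ¬ p ∣ R.relIndex H)
    (hRD : R ≤ normalizer (D : Set G)) (h : ∀ K, UC p K H → ⁅K, D⁆ ≤ OA p H) : D ≤ OA p H := by
  set Q := H ⧸ pPrimeCore p H with hQ
  have hQ1 : pPrimeCore p Q = ⊥ := bq_pPrimeCore_eq_bot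
  have hcD : (Nat.card (bq p H D)).Coprime p := Nat.Coprime.coprime_dvd_left (bq_card_dvd hD) hc
  -- the layer
  have h1 : layer Q ≤ centralizer (bq p H D : Set Q) := by
    refine sSup_le fun C hC => ?_
    obtain ⟨K, hK, rfl⟩ := exists_pcomp hC
    have hUC : UC p (K.map H.subtype) H := by
      refine ⟨map_subtype_le _, ?_⟩
      rwa [subgroupOf, comap_map_eq_self_of_injective H.subtype_injective]
    have h2 := h _ hUC
    rw [← bq_comm_eq_bot_iff hUC.le hD] at h2
    have h3 : bq p H (K.map H.subtype) = K.map (QuotientGroup.mk' (pPrimeCore p H)) := by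
      rw [bq, subgroupOf, comap_map_eq_self_of_injective H.subtype_injective]
    rw [h3] at h2
    exact commutator_eq_bot_iff_le_centralizer.1 h2
  -- the p-core
  have h2 : pCore p Q ≤ centralizer (bq p H D : Set Q) := by
    have hRQ : pCore p Q ≤ bq p H R := by
      have h3 : IsPGroup p (bq p H R) := by
        have h4 : IsPGroup p (R.subgroupOf H) := hRp.of_equiv (subgroupOfEquivOfLe hR).symm
        exact h4.map _
      have h5 : ¬ p ∣ (bq p H R).index := by
        intro h6
        apply hi
        have h7 : (bq p H R).index ∣ (R.subgroupOf H).index :=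
          index_map_dvd _ (QuotientGroup.mk'_surjective _)
        exact h6.trans h7
      have h8 : IsPGroup p (pCore p Q) := Cores.pCore_isPGroup p
      -- `R̄` is a Sylow subgroup
      have h10 := Cores.pCore_le_sylow (h3.toSylow h5)
      rwa [IsPGroup.toSylow_coe] at h10
    have h9 : bq p H R ≤ normalizer (bq p H D : Set Q) := by
      apply bq_le_normalizer
      exact (le_inf hR hRD).trans le_sup_right
    rw [← commutator_eq_bot_iff_le_centralizer, eq_bot_iff]
    have hn : (pCore p Q).Normal := Cores.pCore_normal p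
    have h10 : Disjoint (pCore p Q) (bq p H D) := by
      apply disjoint_of_coprime_natCard
      obtain ⟨n, hn⟩ := IsPGroup.iff_card.1 (Cores.pCore_isPGroup (G := Q) p)
      rw [hn]
      exact (Nat.Coprime.pow_right n hcD).symm
    rw [← h10.eq_bot]
    refine le_inf (commutator_le_left _ _) ?_
    exact (commutator_mono hRQ le_rfl).trans (le_normalizer_iff_commutator_le_right.1 h9)
  have h3 : bq p H D ≤ centralizer (generalizedFittingSubgroup Q : Set Q) := by
    rw [le_centralizer_iff, generalizedFittingSubgroup,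
      PConstrained.fittingSubgroup_eq_pCore_of_pPrimeCore_eq_bot p hQ1]
    exact sup_le h1 h2
  have hFn : (generalizedFittingSubgroup Q).Normal := GenFitting.genFitting_normal
  have h4 : centralizer (generalizedFittingSubgroup Q : Set Q) ≤ generalizedFittingSubgroup Q :=
    CharP.le_genFitting_of_le_centralizer (Normal.isSubnormal inferInstance) le_rfl
  have h5 : (bq p H D).IsSubnormal := by
    have h6 : ((bq p H D).subgroupOf (centralizer (generalizedFittingSubgroup Q : Set Q))).Normal := by
      rw [normal_subgroupOf_iff_le_normalizer h3]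
      refine le_trans ?_ (centralizer_le_normalizer _)
      rw [le_centralizer_iff]
      exact h3.trans (h4.trans (by rw [le_centralizer_iff])) 
    exact IsSubnormal.step _ _ h3 (Normal.isSubnormal inferInstance) h6
  have h6 : bq p H D ≤ ⊥ := by
    rw [← hQ1]
    exact le_pPrimeCore_of_isSubnormal h5 hcD
  rw [le_bot_iff, bq, Subgroup.map_eq_bot_iff, QuotientGroup.ker_mk'] at h6
  have h7 := Subgroup.map_mono (f := H.subtype) h6
  rwa [map_subgroupOf_eq_of_le hD] at h7

end Cfsg.Agent.R2.T3544
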