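import Mathlib
import Cfsg.Prelude.Def_Local
import Cfsg.Prelude.Def_ClassificationStages
import Cfsg.Agent.Lib.Cores
import Cfsg.Agent.Lib.LocalCore
import Cfsg.Agent.Lib.PComponents
import Cfsg.Agent.SignalizersComponents.PCompQuot
import Cfsg.Agent.R2.T3544.UDef
import Cfsg.Agent.R2.T3544.Comp
import Cfsg.Agent.R2.T3544.UComp

/-!
# S3544: `p`-components and coprime local subgroups
-/

set_option autoImplicit false
set_option linter.unusedSectionVars false

namespace Cfsg.Agent.R2.T3544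

open Subgroup Cfsg
open scoped commutatorElement
open Cfsg.Agent.Lib Cfsg.Agent.Lib.PComponents
open Cfsg.Agent.SignalizersComponents

variable {G : Type*} [Group G]

theorem OP_le (p : ℕ) (A : Subgroup G) : OP p A ≤ A := map_subtype_le _

theorem low_OP_isPGroup (p : ℕ) [Fact p.Prime] (A : Subgroup G) [Finite G] : IsPGroup p (OP p A) := by
  have h : IsPGroup p (pCore p A) := Cores.pCore_isPGroup p
  exact h.map _

theorem low_OP_subgroupOf (p : ℕ) (A : Subgroup G) : (OP p A).subgroupOf A = pCore p A := by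
  rw [OP, subgroupOf, comap_map_eq_self_of_injective A.subtype_injective]

theorem OP_norm (p : ℕ) (A : Subgroup G) : A ≤ normalizer (OP p A : Set G) := by
  rw [← normal_subgroupOf_iff_le_normalizer (OP_le p A), low_OP_subgroupOf]
  infer_instance

/-- a `p`-group meets a `p'`-group trivially -/
theorem inf_eq_bot_of_pgroup_coprime [Finite G] {p : ℕ} {X O : Subgroup G} (hX : IsPGroup p X)
    (hO : (Nat.card O).Coprime p) : X ⊓ O = ⊥ := by
  rw [← card_eq_one]
  by_cases hp : p.Prime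
  · have : Fact p.Prime := ⟨hp⟩
    obtain ⟨n, hn⟩ := (IsPGroup.iff_card (p := p)).1 (hX.to_le (inf_le_left : X ⊓ O ≤ X))
    have h1 : Nat.card (X ⊓ O : Subgroup G) ∣ Nat.card O := card_dvd_of_le inf_le_right
    have h2 : (Nat.card (X ⊓ O : Subgroup G)).Coprime (p ^ n) :=
      (Nat.Coprime.coprime_dvd_left h1 hO).pow_right n
    rw [← hn] at h2
    exact (Nat.coprime_self _).1 h2
  · rw [card_eq_one, eq_bot_iff]
    intro x hx
    obtain ⟨k, hk⟩ := hX ⟨x, hx.1⟩
    have hk' : x ^ p ^ k = 1 := by simpa using congrArg Subtype.val hk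
    have h1 : orderOf x ∣ p ^ k := orderOf_dvd_of_pow_eq_one hk'
    have h2 : orderOf x ∣ Nat.card O := by
      have := orderOf_dvd_natCard (⟨x, hx.2⟩ : O)
      rwa [Subgroup.orderOf_mk] at this
    have h3 : Nat.Coprime (Nat.card O) (p ^ k) := hO.pow_right k
    have h4 : orderOf x ∣ 1 := by rw [← h3]; exact Nat.dvd_gcd h2 h1
    exact mem_bot.2 (orderOf_eq_one_iff.1 (Nat.dvd_one.1 h4))

theorem relIndex_sup_dvd_card' [Finite G] {X O : Subgroup G} (h : X ≤ normalizer (O : Set G)) :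
    X.relIndex (X ⊔ O) ∣ Nat.card O := by
  have hn : (O.subgroupOf (X ⊔ O)).Normal :=
    (normal_subgroupOf_iff_le_normalizer le_sup_right).2 (sup_le h le_normalizer)
  have h1 := relIndex_sup_dvd_card (X.subgroupOf (X ⊔ O)) (O.subgroupOf (X ⊔ O))
  rw [← subgroupOf_sup le_sup_left le_sup_right, relIndex_subgroupOf (le_refl _),
    Nat.card_congr (subgroupOfEquivOfLe (le_sup_right : O ≤ X ⊔ O)).toEquiv] at h1
  exact h1

theorem relIndex_sup_right_of_norm {Y N : Subgroup G} (h : Y ≤ normalizer (N : Set G)) :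
    N.relIndex (Y ⊔ N) = N.relIndex Y := by
  have hn : (N.subgroupOf (Y ⊔ N)).Normal :=
    (normal_subgroupOf_iff_le_normalizer le_sup_right).2 (sup_le h le_normalizer)
  have h1 := relIndex_sup_right (K := N.subgroupOf (Y ⊔ N)) (H := Y.subgroupOf (Y ⊔ N))
  rw [← subgroupOf_sup le_sup_left le_sup_right, relIndex_subgroupOf (le_refl _),
    relIndex_subgroupOf le_sup_left] at h1
  exact h1

/-- Sylow in `X O`, elementwise: `g` normalises `X O` → some `o⁻¹ g` normalises `X` -/
theorem exists_mul_mem_normalizer [Finite G] {p : ℕ} [hp : Fact p.Prime] {X O : Subgroup G}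
    (hX : IsPGroup p X) (hO : (Nat.card O).Coprime p) (hXO : X ≤ normalizer (O : Set G)) {g : G}
    (hg : X.map (MulAut.conj g).toMonoidHom ≤ X ⊔ O) : ∃ o ∈ O, o⁻¹ * g ∈ normalizer (X : Set G) := by
  have hcard : Nat.card (X.map (MulAut.conj g).toMonoidHom) = Nat.card X :=
    (Nat.card_congr (X.equivMapOfInjective (MulAut.conj g).toMonoidHom (MulAut.conj g).injective).toEquiv).symm
  have hidx : ¬ p ∣ (X.subgroupOf (X ⊔ O)).index := by
    intro h
    have h1 := h.trans (relIndex_sup_dvd_card' hXO)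
    exact (Nat.Prime.coprime_iff_not_dvd hp.out).1 hO.symm h1
  have hidx' : ¬ p ∣ ((X.map (MulAut.conj g).toMonoidHom).subgroupOf (X ⊔ O)).index := by
    have h1 : ((X.map (MulAut.conj g).toMonoidHom).subgroupOf (X ⊔ O)).index = (X.subgroupOf (X ⊔ O)).index := by
      have h2 := card_mul_index ((X.map (MulAut.conj g).toMonoidHom).subgroupOf (X ⊔ O))
      have h3 := card_mul_index (X.subgroupOf (X ⊔ O))
      rw [Nat.card_congr (subgroupOfEquivOfLe hg).toEquiv, hcard] at h2
      rw [Nat.card_congr (subgroupOfEquivOfLe (le_sup_left : X ≤ X ⊔ O)).toEquiv] at h3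
      exact Nat.eq_of_mul_eq_mul_left Nat.card_pos (h2.trans h3.symm)
    rwa [h1]
  have hXp : IsPGroup p (X.subgroupOf (X ⊔ O)) :=
    hX.of_equiv (subgroupOfEquivOfLe (le_sup_left : X ≤ X ⊔ O)).symm
  have hYp : IsPGroup p ((X.map (MulAut.conj g).toMonoidHom).subgroupOf (X ⊔ O)) :=
    (hX.map _).of_equiv (subgroupOfEquivOfLe hg).symm
  let P : Sylow p (X ⊔ O : Subgroup G) := hXp.toSylow hidx
  let Q : Sylow p (X ⊔ O : Subgroup G) := hYp.toSylow hidx'
  obtain ⟨s, hs⟩ := MulAction.exists_smul_eq (X ⊔ O : Subgroup G) P Q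
  have h4 : X.map (MulAut.conj (s : G)).toMonoidHom ≤ X.map (MulAut.conj g).toMonoidHom := by
    rintro _ ⟨x, hx, rfl⟩
    have h5 : (⟨x, le_sup_left (a := X) (b := O) hx⟩ : (X ⊔ O : Subgroup G)) ∈ P := hx
    have h6 : s * ⟨x, le_sup_left (a := X) (b := O) hx⟩ * s⁻¹ ∈ (s • P : Sylow p (X ⊔ O : Subgroup G)) := by
      have := Subgroup.smul_mem_pointwise_smul _ (MulAut.conj s) (P : Subgroup (X ⊔ O : Subgroup G)) h5
      exact this
    rw [hs] at h6
    exact h6
  have h5 : X.map (MulAut.conj (s : G)).toMonoidHom = X.map (MulAut.conj g).toMonoidHom := by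
    refine eq_of_le_of_card_ge h4 ?_
    rw [hcard]
    exact (Nat.card_congr (X.equivMapOfInjective (MulAut.conj (s : G)).toMonoidHom
      (MulAut.conj (s : G)).injective).toEquiv).le
  have hs2 : (s : G) ∈ ((O ⊔ X : Subgroup G) : Set G) := by
    rw [sup_comm]; exact s.2
  rw [coe_mul_of_right_le_normalizer_left _ _ hXO] at hs2
  obtain ⟨o, ho, x, hx, hox⟩ := hs2
  refine ⟨o, ho, ?_⟩
  have hX' : X.map (MulAut.conj x).toMonoidHom = X := by
    have h7 : x ∈ normalizer (X : Set G) := le_normalizer hx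
    refine eq_of_le_of_card_ge ?_ ?_
    · rintro _ ⟨y, hy, rfl⟩
      exact (mem_normalizer_iff.1 h7 y).1 hy
    · exact (Nat.card_congr (X.equivMapOfInjective (MulAut.conj x).toMonoidHom
        (MulAut.conj x).injective).toEquiv).le
  have h8 : X.map (MulAut.conj o).toMonoidHom = X.map (MulAut.conj g).toMonoidHom := by
    rw [← h5, ← hox]
    have : (MulAut.conj (o * x)).toMonoidHom = (MulAut.conj o).toMonoidHom.comp (MulAut.conj x).toMonoidHom := by
      ext y; simp [mul_assoc]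
    rw [this, ← map_map, hX']
  rw [mem_normalizer_iff]
  intro y
  have h9 : g * y * g⁻¹ ∈ X.map (MulAut.conj g).toMonoidHom ↔ y ∈ X := by
    constructor
    · rintro ⟨z, hz, hzy⟩
      have hzy' : g * z * g⁻¹ = g * y * g⁻¹ := hzy
      have : z = y := by simpa using hzy'
      rwa [← this]
    · intro hy
      exact ⟨y, hy, rfl⟩
  have h10 : ∀ w, w ∈ X.map (MulAut.conj o).toMonoidHom ↔ o⁻¹ * w * o ∈ X := by
    intro w
    constructor
    · rintro ⟨z, hz, rfl⟩
      have : o⁻¹ * ((MulAut.conj o).toMonoidHom z) * o = z := by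
        show o⁻¹ * (o * z * o⁻¹) * o = z
        group
      rwa [this]
    · intro hw
      exact ⟨_, hw, by show o * (o⁻¹ * w * o) * o⁻¹ = w; group⟩
  rw [← h9, ← h8, h10]
  have e : o⁻¹ * (g * y * g⁻¹) * o = o⁻¹ * g * y * (o⁻¹ * g)⁻¹ := by group
  rw [e]

/-- coprime Frattini argument: if `[M, X] ≤ O`, `X` a `p`-group, `O` a `p'`-group, then `M ≤ N(X) O` -/
theorem le_sup_of_comm_coprime [Finite G] {p : ℕ} [hp : Fact p.Prime] {X O M : Subgroup G}
    (hX : IsPGroup p X) (hO : (Nat.card O).Coprime p) (hXO : X ≤ normalizer (O : Set G))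
    (hc : ⁅M, X⁆ ≤ O) : M ≤ ((M ⊔ O) ⊓ normalizer (X : Set G)) ⊔ O := by
  intro g hg
  have h1 : X.map (MulAut.conj g).toMonoidHom ≤ X ⊔ O := by
    rintro _ ⟨x, hx, rfl⟩
    have e : (MulAut.conj g).toMonoidHom x = ⁅g, x⁆ * x := by
      show g * x * g⁻¹ = ⁅g, x⁆ * x
      rw [commutatorElement_def]; group
    rw [e]
    exact mul_mem (mem_sup_right (hc (commutator_mem_commutator hg hx))) (mem_sup_left hx)
  obtain ⟨o, ho, hn⟩ := exists_mul_mem_normalizer hX hO hXO h1
  have e : g = o * (o⁻¹ * g) := by group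
  rw [e]
  refine mul_mem (mem_sup_right ho) (mem_sup_left ⟨?_, hn⟩)
  exact mul_mem (mem_sup_right (inv_mem ho)) (mem_sup_left hg)

theorem SubnIn.sup_OA [Finite G] {p : ℕ} {K A : Subgroup G} (h : SubnIn K A) : SubnIn (K ⊔ OA p A) A := by
  refine ⟨sup_le h.1 (OA_le p A), ?_⟩
  have h1 := (h.2.map (QuotientGroup.mk'_surjective (pPrimeCore p A))).comap
    (QuotientGroup.mk' (pPrimeCore p A))
  rwa [Subgroup.comap_map_eq, QuotientGroup.ker_mk', ← OA_subgroupOf,
    ← subgroupOf_sup h.1 (OA_le p A)] at h1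

theorem normal_iff_norm {N A : Subgroup G} (h : N ≤ A) : (N.subgroupOf A).Normal ↔ A ≤ normalizer (N : Set G) :=
  normal_subgroupOf_iff_le_normalizer h

section

variable [Finite G] {p : ℕ} [hp : Fact p.Prime] {K L N A B : Subgroup G}

/-- if `L ≤ K ≤ L O_{p'}(K)` then `L/O_{p'}(L) ≅ K/O_{p'}(K)` -/
theorem exists_quot_equiv (h1 : L ≤ K) (h2 : K ≤ L ⊔ OA p K) :
    Nonempty ((L ⧸ pPrimeCore p L) ≃* (K ⧸ pPrimeCore p K)) := by
  let f : L →* (K ⧸ pPrimeCore p K) := (QuotientGroup.mk' (pPrimeCore p K)).comp (Subgroup.inclusion h1)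
  have hf : Function.Surjective f := by
    intro q
    obtain ⟨k, rfl⟩ := QuotientGroup.mk'_surjective _ q
    have h3 : (k : G) ∈ ((L ⊔ OA p K : Subgroup G) : Set G) := h2 k.2
    rw [coe_mul_of_left_le_normalizer_right _ _ (h1.trans (OA_norm p K))] at h3
    obtain ⟨l, hl, o, ho, hlo⟩ := h3
    refine ⟨⟨l, hl⟩, ?_⟩
    show (QuotientGroup.mk' (pPrimeCore p K)) (Subgroup.inclusion h1 ⟨l, hl⟩) = _
    have ho' : (⟨o, OA_le p K ho⟩ : K) ∈ pPrimeCore p K := by
      rw [← OA_subgroupOf]; exact ho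
    have e : k = Subgroup.inclusion h1 ⟨l, hl⟩ * ⟨o, OA_le p K ho⟩ := Subtype.ext hlo.symm
    have h5 : (QuotientGroup.mk' (pPrimeCore p K)) ⟨o, OA_le p K ho⟩ = 1 :=
      (QuotientGroup.eq_one_iff _).2 ho'
    rw [e, map_mul, h5, mul_one]
  have hker : f.ker = pPrimeCore p L := by
    apply le_antisymm
    · refine Cores.le_pPrimeCore inferInstance ?_
      have h3 : (f.ker.map L.subtype) ≤ OA p K := by
        rintro _ ⟨l, hl, rfl⟩
        have h4 : Subgroup.inclusion h1 l ∈ pPrimeCore p K := by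
          rw [← QuotientGroup.eq_one_iff]
          exact hl
        rw [← OA_subgroupOf] at h4
        exact h4
      have h4 : Nat.card f.ker = Nat.card (f.ker.map L.subtype) :=
        Nat.card_congr (f.ker.equivMapOfInjective _ L.subtype_injective).toEquiv
      rw [h4]
      exact Nat.Coprime.coprime_dvd_left (card_dvd_of_le h3) (OA_coprime p K)
    · have h3 : (pPrimeCore p L).map f ≤ pPrimeCore p (K ⧸ pPrimeCore p K) := by
        refine Cores.le_pPrimeCore ?_ ?_
        · exact (inferInstance : (pPrimeCore p L).Normal).map f hf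
        · exact Nat.Coprime.coprime_dvd_left (card_map_dvd _ _) (Cores.pPrimeCore_coprime p)
      rw [pPrimeCore_quotient_eq_bot, le_bot_iff, Subgroup.map_eq_bot_iff] at h3
      exact h3
  refine ⟨(QuotientGroup.quotientMulEquivOfEq hker.symm).trans
    (QuotientGroup.quotientKerEquivOfSurjective f hf)⟩

theorem UC.pElem_sup (h : UC p K A) : pElem p (K ⊔ OA p A) = K := by
  apply le_antisymm
  · refine SubnIn.pElem_le_of_coprime (h.subn.mono le_sup_left (sup_le h.le (OA_le p A))) ?_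
    exact Nat.Coprime.coprime_dvd_left (relIndex_sup_dvd_card' (h.le.trans (OA_norm p A))) (OA_coprime p A)
  · calc K = pElem p K := h.gen.symm
      _ ≤ pElem p (K ⊔ OA p A) := pElem_mono le_sup_left

/-- `O^{p'}(Y)` has index prime to `p` -/
theorem relIndex_pElem_coprime (Y : Subgroup G) : ((pElem p Y).relIndex Y).Coprime p := by
  rw [Nat.coprime_comm, Nat.Prime.coprime_iff_not_dvd hp.out]
  intro h
  have h1 : ((pElem p Y).subgroupOf Y).Normal := pElem_normal_subgroupOf Y
  have h2 : p ∣ Nat.card (Y ⧸ (pElem p Y).subgroupOf Y) := h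
  obtain ⟨q, hq⟩ := exists_prime_orderOf_dvd_card' p h2
  obtain ⟨y, rfl⟩ := QuotientGroup.mk'_surjective _ q
  -- replace `y` by its `p`-part
  have hy : ∃ (n : ℕ) (m : ℕ), m.Coprime p ∧ (y ^ m) ^ p ^ n = 1 := by
    refine ⟨(orderOf y).factorization p, orderOf y / p ^ (orderOf y).factorization p, ?_, ?_⟩
    · exact (Nat.coprime_ordCompl hp.out (orderOf_pos y).ne').symm
    · rw [← pow_mul, mul_comm, Nat.ordProj_mul_ordCompl_eq_self, pow_orderOf_eq_one]
  obtain ⟨n, m, hm, hy⟩ := hy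
  have h3 : y ^ m ∈ (pElem p Y).subgroupOf Y := by
    have : ((y ^ m : Y) : G) ^ p ^ n = 1 := by
      have := congrArg Subtype.val hy
      simpa using this
    exact mem_pElem (y ^ m).2 this
  have h4 : (QuotientGroup.mk' ((pElem p Y).subgroupOf Y) y) ^ m = 1 := by
    rw [← map_pow]
    exact (QuotientGroup.eq_one_iff _).2 h3
  have h5 : p ∣ m := by
    rw [← hq]
    exact orderOf_dvd_of_pow_eq_one h4
  exact (Nat.Prime.coprime_iff_not_dvd hp.out).1 hm.symm h5

/-- the part of a `p`-component in a subgroup which covers it modulo `O_{p'}(A)` -/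
theorem UC.exists_low_of_cover (h : UC p K A) (hBA : B ≤ A) (hc : K ≤ B ⊔ OA p A) :
    ∃ K₀ : Subgroup G, UC p K₀ B ∧ K₀ ≤ K ∧ K ≤ K₀ ⊔ (K ⊓ OA p A) ∧ K₀ = pElem p ((K ⊔ OA p A) ⊓ B) := by
  set O := OA p A with hO
  set M := K ⊔ O with hM
  set Y := M ⊓ B with hY
  have hOn : A ≤ normalizer (O : Set G) := OA_norm p A
  have hMA : SubnIn M A := h.subn.sup_OA
  have hYB : SubnIn Y B := by
    have h1 := hMA.inf B
    rwa [inf_eq_right.2 hBA] at h1
  have hMY : M ≤ Y ⊔ O := by
    intro g hg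
    have h1 : g ∈ ((B ⊔ O : Subgroup G) : Set G) := (sup_le hc le_sup_right : M ≤ B ⊔ O) hg
    rw [coe_mul_of_left_le_normalizer_right _ _ (hBA.trans hOn)] at h1
    obtain ⟨b, hb, o, ho, rfl⟩ := h1
    refine mul_mem (mem_sup_left ⟨?_, hb⟩) (mem_sup_right ho)
    have : b = (b * o) * o⁻¹ := by group
    rw [this]
    exact mul_mem hg (mem_sup_right (inv_mem ho))
  set K₀ := pElem p Y with hK₀
  have hK₀Y : K₀ ≤ Y := pElem_le Y
  have hK₀K : K₀ ≤ K := by
    rw [← h.pElem_sup]
    exact pElem_mono inf_le_left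
  -- `K ≤ K₀ O`
  have hYn : Y ≤ normalizer (K₀ : Set G) := le_normalizer.trans (normalizer_le_normalizer_pElem Y)
  have hYA : Y ≤ A := inf_le_right.trans hBA
  have hMn : M ≤ normalizer ((K₀ ⊔ O : Subgroup G) : Set G) := by
    refine hMY.trans (sup_le ?_ (le_sup_right.trans le_normalizer))
    intro g hg
    have h1 := hYn hg
    have h2 := hOn (hYA hg)
    rw [mem_normalizer_iff_map_conj_eq] at h1 h2 ⊢
    rw [Subgroup.map_sup, h1, h2]
  have hKK : K ≤ K₀ ⊔ O := by
    have h1 : SubnIn (K₀ ⊔ O) M :=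
      SubnIn.of_normal (sup_le (hK₀K.trans le_sup_left) le_sup_right) hMn
    have h2 : ((K₀ ⊔ O).relIndex M).Coprime p := by
      have h3 : (K₀ ⊔ O).relIndex M ∣ K₀.relIndex Y := by
        have h4 : (K₀ ⊔ O).relIndex M = (K₀ ⊔ O).relIndex (Y ⊔ (K₀ ⊔ O)) := by
          congr 1
          apply le_antisymm
          · exact hMY.trans (sup_le le_sup_left (le_sup_right.trans le_sup_right))
          · exact sup_le inf_le_left (sup_le (hK₀Y.trans inf_le_left) le_sup_right)
        rw [h4]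
        rw [relIndex_sup_right_of_norm ((inf_le_left : Y ≤ M).trans hMn)]
        exact relIndex_dvd_of_le_left _ le_sup_left
      exact Nat.Coprime.coprime_dvd_left h3 (relIndex_pElem_coprime Y)
    have h3 := h1.pElem_le_of_coprime h2
    rwa [h.pElem_sup] at h3
  have hdec : K ≤ K₀ ⊔ (K ⊓ O) := by
    intro g hg
    have h1 : g ∈ ((K₀ ⊔ O : Subgroup G) : Set G) := hKK hg
    rw [coe_mul_of_left_le_normalizer_right _ _ ((hK₀Y.trans hYA).trans hOn)] at h1
    obtain ⟨b, hb, o, ho, rfl⟩ := h1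
    refine mul_mem (mem_sup_left hb) (mem_sup_right ⟨?_, ho⟩)
    have : o = b⁻¹ * (b * o) := by group
    rw [this]
    exact K.mul_mem (K.inv_mem (hK₀K hb)) hg
  refine ⟨K₀, UC.of_intrinsic ((SubnIn.pElem p Y).trans hYB) (pElem_pElem p Y) ?_, hK₀K, hdec, rfl⟩
  have h1 : K ≤ K₀ ⊔ OA p K := by rw [OA_of_subn h.subn]; exact hdec
  obtain ⟨e⟩ := exists_quot_equiv hK₀K h1
  exact PCompQuot.quasisimple_congr e.symm h.qs

/-- (a3): the part of a `p`-component in the normaliser of a `p`-subgroup centralising it modulo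
`O_{p'}` -/
theorem UC.exists_low (h : UC p K A) {X : Subgroup G} (hX : X ≤ A) (hXp : IsPGroup p X)
    (hc : ⁅K, X⁆ ≤ OA p A) :
    ∃ K₀ : Subgroup G, UC p K₀ (A ⊓ normalizer (X : Set G)) ∧ K₀ ≤ K ∧ K ≤ K₀ ⊔ (K ⊓ OA p A) ∧
      ⁅K₀, X⁆ = ⊥ := by
  have h1 : K ≤ (A ⊓ normalizer (X : Set G)) ⊔ OA p A := by
    refine (le_sup_of_comm_coprime hXp (OA_coprime p A) (hX.trans (OA_norm p A)) hc).trans ?_
    refine sup_le_sup_right (inf_le_inf_right _ (sup_le h.le (OA_le p A))) _
  obtain ⟨K₀, h2, h3, h4, -⟩ := h.exists_low_of_cover inf_le_left h1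
  refine ⟨K₀, h2, h3, h4, ?_⟩
  rw [eq_bot_iff, ← inf_eq_bot_of_pgroup_coprime hXp (OA_coprime p A)]
  refine le_inf ?_ ((commutator_mono h3 le_rfl).trans hc)
  exact le_normalizer_iff_commutator_le_right.1 (h2.le.trans inf_le_right)

/-- a `p`-component does not lie in a `p`-group -/
theorem UC.not_le_pgroup (h : UC p K A) {X : Subgroup G} (hX : IsPGroup p X) : ¬ K ≤ X := by
  intro hKX
  have h1 : IsPGroup p K := hX.to_le hKX
  have h2 : Group.IsNilpotent K := h1.isNilpotent
  have h3 : Group.IsSolvable K := inferInstance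
  have h4 : Group.IsPerfect K := by
    constructor
    have h5 := h.perfect
    rw [_root_.commutator_def]
    apply map_injective K.subtype_injective
    rw [map_commutator]
    simp only [← MonoidHom.range_eq_map, range_subtype]
    exact h5
  have h6 : Subsingleton K := by
    by_contra hns
    rw [not_subsingleton_iff_nontrivial] at hns
    have h7 := Group.IsSolvable.commutator_lt_top_of_nontrivial (G := K)
    rw [h4.commutator_eq_top] at h7
    exact lt_irrefl _ h7
  exact h.ne_bot ((K.eq_bot_of_subsingleton))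

theorem UC.comm_pgroup (h : UC p K A) {X : Subgroup G} (hX : SubnIn X A) (hXp : IsPGroup p X) :
    ⁅K, X⁆ ≤ OA p A :=
  (h.le_or_comm hX).resolve_left (h.not_le_pgroup hXp)

theorem UC.comm_pgroup_eq_bot (h : UC p K A) {X : Subgroup G} (hX : X ≤ A)
    (hXn : A ≤ normalizer (X : Set G)) (hXp : IsPGroup p X) : ⁅K, X⁆ = ⊥ := by
  rw [eq_bot_iff, ← inf_eq_bot_of_pgroup_coprime hXp (OA_coprime p A)]
  exact le_inf (le_normalizer_iff_commutator_le_right.1 (h.le.trans hXn))
    (h.comm_pgroup (SubnIn.of_normal hX hXn) hXp)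

theorem UC.comm_OP (h : UC p K A) : ⁅K, OP p A⁆ = ⊥ :=
  h.comm_pgroup_eq_bot (OP_le p A) (OP_norm p A) (low_OP_isPGroup p A)

end

end Cfsg.Agent.R2.T3544
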