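import Mathlib
import Cfsg.Prelude.Def_Local
import Cfsg.Prelude.Def_ClassificationStages
import Cfsg.Agent.Lib.Cores
import Cfsg.Agent.Lib.LocalCore
import Cfsg.Agent.Lib.PComponents
import Cfsg.Agent.SignalizersComponents.PCompQuot
import Cfsg.Agent.R2.T3544.UDef
import Cfsg.Agent.R2.T3544.Comp
import Cfsg.Agent.R2.T3544.UComp
import Cfsg.Agent.R2.T3544.ULow

/-!
# S3544: the order of the simple quotient of a `p`-component
-/

set_option autoImplicit false
set_option linter.unusedSectionVars false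

namespace Cfsg.Agent.R2.T3544

open Subgroup Cfsg
open scoped commutatorElement
open Cfsg.Agent.Lib Cfsg.Agent.Lib.PComponents
open Cfsg.Agent.SignalizersComponents
open Cfsg.Agent.SignalizersComponents.Components

variable {G : Type*} [Group G]

/-- order of the simple quotient of a `p`-component -/
noncomputable def ty (p : ℕ) (K : Subgroup G) : ℕ :=
  Nat.card ((K ⧸ pPrimeCore p K) ⧸ Subgroup.center (K ⧸ pPrimeCore p K))

theorem card_quot_center_congr {H L : Type*} [Group H] [Group L] (e : H ≃* L) :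
    Nat.card (H ⧸ center H) = Nat.card (L ⧸ center L) := by
  have hc : (center H).map e.toMonoidHom = center L := by
    ext x
    simp only [Subgroup.mem_map, Subgroup.mem_center_iff]
    constructor
    · rintro ⟨y, hy, rfl⟩ g
      have := hy (e.symm g)
      have h3 := congrArg e this
      simpa using h3
    · intro hx
      refine ⟨e.symm x, fun g => ?_, by simp⟩
      have := hx (e g)
      have h3 := congrArg e.symm this
      simpa using h3
  exact Nat.card_congr (QuotientGroup.congr (center H) (center L) e hc).toEquiv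

section

variable [Finite G] {p : ℕ} [hp : Fact p.Prime] {K L J A B H : Subgroup G}

theorem ty_pos (p : ℕ) (K : Subgroup G) : 0 < ty p K := Nat.card_pos

/-- `L ≤ K ≤ L O_{p'}(K)` -/
theorem ty_eq_of_cover (h1 : L ≤ K) (h2 : K ≤ L ⊔ OA p K) : ty p L = ty p K := by
  obtain ⟨e⟩ := exists_quot_equiv h1 h2
  exact card_quot_center_congr e

/-- `K₀` from `UC.exists_low` -/
theorem UC.ty_low (h : UC p K A) (h1 : L ≤ K) (h2 : K ≤ L ⊔ (K ⊓ OA p A)) : ty p L = ty p K := by
  rw [← OA_of_subn h.subn] at h2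
  exact ty_eq_of_cover h1 h2

theorem ty_conj (p : ℕ) [Fact p.Prime] (K : Subgroup G) (g : G) :
    ty p (K.map (MulAut.conj g).toMonoidHom) = ty p K := by
  let e : K ≃* K.map (MulAut.conj g).toMonoidHom :=
    K.equivMapOfInjective (MulAut.conj g).toMonoidHom (MulAut.conj g).injective
  let f := QuotientGroup.congr (pPrimeCore p K) (pPrimeCore p (K.map (MulAut.conj g).toMonoidHom)) e
    (Cores.map_equiv_pPrimeCore e p)
  exact (card_quot_center_congr f).symm

theorem UC.perfect' (h : UC p K A) : Group.IsPerfect K := by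
  constructor
  have h5 := h.perfect
  rw [_root_.commutator_def]
  apply map_injective K.subtype_injective
  rw [map_commutator]
  simp only [← MonoidHom.range_eq_map, range_subtype]
  exact h5

/-- the normal subgroups of a `p`-component: proper ones are central modulo `O_{p'}` -/
theorem UC.normal_cases (h : UC p K A) (N : Subgroup K) (hN : N.Normal) :
    N.map (QuotientGroup.mk' (pPrimeCore p K)) ≤ center (K ⧸ pPrimeCore p K) ∨ N = ⊤ := by
  rcases quasisimple_normal h.qs (N.map (QuotientGroup.mk' (pPrimeCore p K)))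
    (hN.map _ (QuotientGroup.mk'_surjective _)) with h1 | h1
  rotate_left
  · exact Or.inl h1
  · right
    have h2 : N ⊔ pPrimeCore p K = ⊤ := by
      rw [← QuotientGroup.ker_mk' (pPrimeCore p K), ← Subgroup.comap_map_eq, h1, comap_top]
    have h3 : N.index.Coprime p := by
      have h4 : N.relIndex (N ⊔ pPrimeCore p K) ∣ Nat.card (pPrimeCore p K) := relIndex_sup_dvd_card _ _
      rw [h2, relIndex_top_right] at h4
      exact Nat.Coprime.coprime_dvd_left h4 (Cores.pPrimeCore_coprime p)
    have h4 : pElem p (⊤ : Subgroup K) ≤ N := by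
      refine pElem_le_of_isSubnormal ?_ ?_
      · exact hN.isSubnormal.comap _
      · rwa [relIndex_top_right]
    have h5 : pElem p (⊤ : Subgroup K) = ⊤ := by
      apply map_injective K.subtype_injective
      rw [map_pElem p _ K.subtype_injective]
      simp only [← MonoidHom.range_eq_map, range_subtype]
      exact h.gen
    rw [h5] at h4
    exact top_le_iff.1 h4

/-- the map of `K ≤ J` to the simple quotient of `J` -/
noncomputable def toSimple (p : ℕ) (h : K ≤ J) :
    K →* (J ⧸ pPrimeCore p J) ⧸ Subgroup.center (J ⧸ pPrimeCore p J) :=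
  ((QuotientGroup.mk' (Subgroup.center (J ⧸ pPrimeCore p J))).comp
    (QuotientGroup.mk' (pPrimeCore p J))).comp (Subgroup.inclusion h)

theorem eq_top_of_perfect_sup_center {X : Type*} [Group X] (hX : Group.IsPerfect X) {N : Subgroup X}
    (h : N ⊔ center X = ⊤) : N = ⊤ := by
  have h1 : ⁅(⊤ : Subgroup X), (⊤ : Subgroup X)⁆ ≤ N := by
    rw [commutator_le]
    intro a _ b _
    have ha : a ∈ N ⊔ center X := by rw [h]; trivial
    have hb : b ∈ N ⊔ center X := by rw [h]; trivial
    obtain ⟨n, hn, z, hz, rfl⟩ := mem_sup_of_normal_right.1 ha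
    obtain ⟨m, hm, w, hw, rfl⟩ := mem_sup_of_normal_right.1 hb
    have hz' := Subgroup.mem_center_iff.1 hz
    have hw' := Subgroup.mem_center_iff.1 hw
    have e : ⁅n * z, m * w⁆ = ⁅n, m⁆ := by
      rw [commutatorElement_def, commutatorElement_def, mul_inv_rev, mul_inv_rev]
      calc n * z * (m * w) * (z⁻¹ * n⁻¹) * (w⁻¹ * m⁻¹)
          = n * (z * (m * w)) * z⁻¹ * n⁻¹ * w⁻¹ * m⁻¹ := by group
        _ = n * ((m * w) * z) * z⁻¹ * n⁻¹ * w⁻¹ * m⁻¹ := by rw [← hz' (m * w)]
        _ = n * m * w * (n⁻¹ * w⁻¹) * m⁻¹ := by group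
        _ = n * m * w * (w⁻¹ * n⁻¹) * m⁻¹ := by
            rw [Subgroup.mem_center_iff.1 (inv_mem hw) n⁻¹]
        _ = n * m * n⁻¹ * m⁻¹ := by group
    rw [e]
    exact N.mul_mem (N.mul_mem (N.mul_mem hn hm) (N.inv_mem hn)) (N.inv_mem hm)
  rw [← _root_.commutator_def, hX.commutator_eq_top] at h1
  exact top_le_iff.1 h1

/-- the kernel of `K → S_J` is contained in the largest proper normal subgroup of `K` -/
theorem UC.ker_toSimple_le (hK : UC p K A) (h : K ≤ J) :
    (toSimple p h).ker ≤ (toSimple p (le_refl K)).ker := by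
  rcases hK.normal_cases (toSimple p h).ker inferInstance with h1 | h1
  · intro k hk
    have h2 : QuotientGroup.mk' (pPrimeCore p K) k ∈ center (K ⧸ pPrimeCore p K) := h1 ⟨k, hk, rfl⟩
    rw [MonoidHom.mem_ker]
    exact (QuotientGroup.eq_one_iff _).2 h2
  · exfalso
    -- the image of `K` in `J/O_{p'}(J)` is central and perfect
    have hKp := hK.perfect'
    have h2 : ∀ k : K, QuotientGroup.mk' (pPrimeCore p J) (Subgroup.inclusion h k) ∈
        center (J ⧸ pPrimeCore p J) := by
      intro k
      have h3 : k ∈ (toSimple p h).ker := by rw [h1]; trivial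
      exact (QuotientGroup.eq_one_iff _).1 h3
    let g : K →* (J ⧸ pPrimeCore p J) := (QuotientGroup.mk' (pPrimeCore p J)).comp (Subgroup.inclusion h)
    have h4 : commutator K ≤ g.ker := by
      rw [_root_.commutator_def, commutator_le]
      intro a _ b _
      rw [MonoidHom.mem_ker, map_commutatorElement, commutatorElement_eq_one_iff_mul_comm]
      exact (Subgroup.mem_center_iff.1 (h2 b) (g a))
    rw [hKp.commutator_eq_top] at h4
    have h5 : K ≤ OA p J := by
      intro k hk
      have h6 : (⟨k, hk⟩ : K) ∈ g.ker := h4 trivial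
      have h7 : Subgroup.inclusion h ⟨k, hk⟩ ∈ pPrimeCore p J := (QuotientGroup.eq_one_iff _).1 h6
      rw [← OA_subgroupOf] at h7
      exact h7
    have h6 : p ∣ Nat.card (OA p J) := hK.dvd_card.trans (card_dvd_of_le h5)
    exact (Nat.Prime.coprime_iff_not_dvd hp.out).1 (OA_coprime p J).symm h6

theorem index_ker_toSimple_self (p : ℕ) (K : Subgroup G) : (toSimple p (le_refl K)).ker.index = ty p K := by
  have h1 : Function.Surjective (toSimple p (le_refl K)) := by
    intro q
    obtain ⟨q', rfl⟩ := QuotientGroup.mk'_surjective _ q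
    obtain ⟨k, rfl⟩ := QuotientGroup.mk'_surjective _ q'
    exact ⟨k, rfl⟩
  rw [index_ker, MonoidHom.range_eq_top.2 h1, card_top]
  rfl

/-- the type is monotone -/
theorem UC.ty_dvd (hK : UC p K A) (h : K ≤ J) : ty p K ∣ ty p J := by
  have h1 := index_dvd_of_le (hK.ker_toSimple_le h)
  rw [index_ker_toSimple_self, index_ker] at h1
  exact h1.trans (card_subgroup_dvd_card _)

theorem UC.ty_le (hK : UC p K A) (h : K ≤ J) : ty p K ≤ ty p J :=
  Nat.le_of_dvd (ty_pos p J) (hK.ty_dvd h)

/-- equality of types: `K` covers `J` modulo `O_{p'}(J)` -/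
theorem UC.le_sup_of_ty (hK : UC p K A) (hJ : UC p J H) (h : K ≤ J) (hty : ty p J ≤ ty p K) :
    J ≤ K ⊔ OA p J := by
  have h1 := index_dvd_of_le (hK.ker_toSimple_le h)
  rw [index_ker_toSimple_self, index_ker] at h1
  have h2 : (toSimple p h).range = ⊤ := by
    apply eq_top_of_le_card
    exact hty.trans (Nat.le_of_dvd Nat.card_pos h1)
  -- image of `K` in `J/O_{p'}(J)`
  let g : K →* (J ⧸ pPrimeCore p J) := (QuotientGroup.mk' (pPrimeCore p J)).comp (Subgroup.inclusion h)
  have h3 : g.range ⊔ center (J ⧸ pPrimeCore p J) = ⊤ := by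
    rw [eq_top_iff]
    intro q _
    have h4 : QuotientGroup.mk' (center (J ⧸ pPrimeCore p J)) q ∈ (toSimple p h).range := by
      rw [h2]; trivial
    obtain ⟨k, hk⟩ := h4
    have h5 : QuotientGroup.mk' (center (J ⧸ pPrimeCore p J)) (g k) =
      QuotientGroup.mk' (center (J ⧸ pPrimeCore p J)) q := hk
    have h6 : (g k)⁻¹ * q ∈ center (J ⧸ pPrimeCore p J) := QuotientGroup.eq.1 h5
    have e : q = g k * ((g k)⁻¹ * q) := by group
    rw [e]
    exact mul_mem (mem_sup_left ⟨k, rfl⟩) (mem_sup_right h6)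
  have h4 := eq_top_of_perfect_sup_center (quasisimple_isPerfect hJ.qs) h3
  intro j hj
  have h5 : QuotientGroup.mk' (pPrimeCore p J) ⟨j, hj⟩ ∈ g.range := by rw [h4]; trivial
  obtain ⟨k, hk⟩ := h5
  have hk' : QuotientGroup.mk' (pPrimeCore p J) (Subgroup.inclusion h k) =
    QuotientGroup.mk' (pPrimeCore p J) ⟨j, hj⟩ := hk
  have h6 : (Subgroup.inclusion h k)⁻¹ * ⟨j, hj⟩ ∈ pPrimeCore p J := QuotientGroup.eq.1 hk'
  rw [← OA_subgroupOf] at h6
  have h7 : (k : G)⁻¹ * j ∈ OA p J := h6
  have e : j = k * ((k : G)⁻¹ * j) := by group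
  rw [e]
  exact mul_mem (mem_sup_left k.2) (mem_sup_right h7)

theorem UC.le_sup_of_ty' (hK : UC p K A) (hJ : UC p J H) (h : K ≤ J) (hty : ty p J ≤ ty p K) :
    J ≤ K ⊔ OA p H := by
  refine (hK.le_sup_of_ty hJ h hty).trans (sup_le_sup_left ?_ _)
  rw [OA_of_subn hJ.subn]
  exact inf_le_right

theorem UC.ty_eq (hK : UC p K A) (h : K ≤ J) (hty : ty p J ≤ ty p K) :
    ty p K = ty p J :=
  le_antisymm (hK.ty_le h) hty

/-- `S_K` is a (nonabelian) simple group -/
theorem UC.ty_one_lt (hK : UC p K A) : 1 < ty p K := by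
  have h1 := hK.qs.2
  have h2 : Nontrivial ((K ⧸ pPrimeCore p K) ⧸ Subgroup.center (K ⧸ pPrimeCore p K)) := h1.toNontrivial
  exact Finite.one_lt_card

end

end Cfsg.Agent.R2.T3544
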