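import Cfsg.Agent.R2.T3544.NLVdef
import Cfsg.Agent.R2.T3544.UTy
import Cfsg.Agent.R2.T3544.UBal
import Cfsg.Agent.R2.T3544.UCore

/-!
# S3544, case NL with components: construction of the operator groups

A `p`-component `K` of `G_x` is moved by `z` if `¬ ⁅K, X z⁆ ≤ O x`. Let `τ` be the largest type of
a moved component. `VV x`: the join of the `p`-components of `G_x` of type at least `τ`.
`UU x z`: the join of the `p`-components of `G_x ∩ G_z` of type at least `τ` lying in a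
`p`-component of `G_x` not moved by `z`.
-/

set_option autoImplicit false
set_option linter.unusedSectionVars false

namespace Cfsg.Agent.R2.T3544

open Subgroup Cfsg MulAction
open scoped commutatorElement
open Cfsg.Agent.Lib Cfsg.Agent.Lib.PComponents

/-! ### joins of families of subgroups -/

section

variable {G : Type*} [Group G]

theorem sSup_map_le {S T : Set (Subgroup G)} (g : G)
    (h : ∀ K ∈ S, K.map (MulAut.conj g).toMonoidHom ∈ T) : (sSup S).map (MulAut.conj g).toMonoidHom ≤ sSup T := by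
  rw [map_le_iff_le_comap]
  refine sSup_le fun K hK => ?_
  rw [← map_le_iff_le_comap]
  exact le_sSup (h K hK)

theorem sSup_perfect {S : Set (Subgroup G)} (h : ∀ K ∈ S, ⁅K, K⁆ = K) : ⁅sSup S, sSup S⁆ = sSup S :=
  le_antisymm (commutator_le_self _)
    (sSup_le fun K hK => (h K hK).ge.trans (commutator_mono (le_sSup hK) (le_sSup hK)))

theorem sSup_comm_le {S : Set (Subgroup G)} {J N : Subgroup G} (hS : ∀ K ∈ S, K ≤ normalizer (N : Set G))
    (h : ∀ K ∈ S, ⁅K, J⁆ ≤ N) : ⁅sSup S, J⁆ ≤ N := by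
  have h1 : sSup S ≤ CF ⊤ N J := sSup_le fun K hK => le_CF le_top (hS K hK) (h K hK)
  exact (commutator_mono h1 le_rfl).trans (CF_comm _ _ _)

end

namespace NLS

variable {G : Type*} [Group G] [Finite G] {Ω : Type*} [MulAction G Ω] {p : ℕ} [Fact p.Prime]
  {ra rb : Ω → Ω → Prop} {da db : ℕ}

/-- a component moved by `y ~_a x` lies in `W_a(x)` -/
theorem moved_le_W (h : NLS G p ra rb da db) {x y : Ω} (hy : ra x y) {K : Subgroup G}
    (hK : UC p K (stabilizer G x)) (hm : ¬ ⁅K, Xf G p y⁆ ≤ Of G p x) : K ≤ Wf ra (Xf G p) x := by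
  rcases hK.le_or_comm (SubnIn.of_normal (h.W_le x) (h.FW.norm x)) with h1 | h1
  · exact h1
  · exact absurd ((commutator_mono le_rfl (le_Wf hy)).trans h1) hm

theorem moved_le (h : NLS G p ra rb da db) {x y w : Ω} (hy : ra x y) (hw : rb x w) {K : Subgroup G}
    (hK : UC p K (stabilizer G x)) (hm : ¬ ⁅K, Xf G p y⁆ ≤ Of G p x) : K ≤ stabilizer G w :=
  (h.moved_le_W hy hK hm).trans ((h.W_le_Mk x).trans (Mk_le_nbr hw))

/-- a component moved in direction `a` is not moved in direction `b` -/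
theorem not_moved (h : NLS G p ra rb da db) {x y w : Ω} (hy : ra x y) (hw : rb x w) {K : Subgroup G}
    (hK : UC p K (stabilizer G x)) (hm : ¬ ⁅K, Xf G p y⁆ ≤ Of G p x) : ⁅K, Xf G p w⁆ ≤ Of G p x := by
  have h1 := h.moved_le hy hw hK hm
  exact hK.comm_of_norm (h.symm.X_le hw) (Or.inl (Xf_pgroup w))
    (le_sup_of_le_right (le_inf hK.le (h1.trans (Xf_fun.norm w))))

/-- the low component -/
theorem low (h : NLS G p ra rb da db) {x z : Ω} (hz : ra x z) {K : Subgroup G}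
    (hK : UC p K (stabilizer G x)) (hc : ⁅K, Xf G p z⁆ ≤ Of G p x) :
    ∃ K₀, UC p K₀ (stabilizer G x ⊓ stabilizer G z) ∧ K₀ ≤ K ∧ K ≤ K₀ ⊔ (K ⊓ Of G p x) ∧ ty p K₀ = ty p K := by
  obtain ⟨K₀, h1, h2, h3, -⟩ := hK.exists_low (h.X_le hz) (Xf_pgroup z) hc
  rw [h.norm_eq] at h1
  exact ⟨K₀, h1, h2, h3, hK.ty_low h2 h3⟩

/-- balance -/
theorem bal (h : NLS G p ra rb da db) {x z : Ω} (hz : ra x z) {K : Subgroup G}
    (hK : UC p K (stabilizer G x ⊓ stabilizer G z)) : ∃ J, UC p J (stabilizer G z) ∧ K ≤ J := by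
  have hzx := h.A.symm hz
  refine UC.balance (X := Xf G p x) (h.sch z) (h.X_le hzx) (Xf_pgroup x) ?_ ?_
  · rw [h.norm_eq, h.A.idx hzx]
    exact h.pa
  · rw [h.norm_eq, inf_comm]
    exact hK

/-- the component above `K` in `G_z` is not moved by `x` -/
theorem up (h : NLS G p ra rb da db) {τ : ℕ}
    (hτ : ∀ {x z : Ω}, ra x z → ∀ K, UC p K (stabilizer G x) → ¬ ⁅K, Xf G p z⁆ ≤ Of G p x → ty p K ≤ τ)
    {x z : Ω} (hz : ra x z) {K : Subgroup G} (hK : UC p K (stabilizer G x ⊓ stabilizer G z)) (hty : τ ≤ ty p K) :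
    ∃ J, UC p J (stabilizer G z) ∧ K ≤ J ∧ ⁅J, Xf G p x⁆ ≤ Of G p z := by
  obtain ⟨J, hJ, hle⟩ := h.bal hz hK
  have hzx := h.A.symm hz
  refine ⟨J, hJ, hle, ?_⟩
  by_contra hm
  have h1 := hτ hzx J hJ hm
  have h2 := hK.le_sup_of_ty' hJ hle (h1.trans hty)
  apply hm
  refine hJ.comm_of_norm (h.X_le hzx) (Or.inl (Xf_pgroup x)) (h2.trans ?_)
  rw [sup_comm]
  exact sup_le_sup_left (le_inf (hK.le.trans inf_le_right) (hK.le.trans (inf_le_left.trans (Xf_fun.norm x)))) _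

end NLS

/-! ### the groups -/

section

variable (G : Type*) [Group G] {Ω : Type*} [MulAction G Ω] (p τ : ℕ)

/-- the family of `V(x)` -/
def VSet (x : Ω) : Set (Subgroup G) := {K | UC p K (stabilizer G x) ∧ τ ≤ ty p K}

/-- `V(x)` -/
def VV (x : Ω) : Subgroup G := sSup (VSet G p τ x)

/-- the family of `V_xz` -/
def USet (x z : Ω) : Set (Subgroup G) :=
  {K | UC p K (stabilizer G x ⊓ stabilizer G z) ∧ τ ≤ ty p K ∧
    ∃ J, UC p J (stabilizer G x) ∧ K ≤ J ∧ ⁅J, Xf G p z⁆ ≤ Of G p x}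

/-- `V_xz` -/
def UU (x z : Ω) : Subgroup G := sSup (USet G p τ x z)

/-- the family of the components of type `τ` moved in direction `r` -/
def RSet (r : Ω → Ω → Prop) (x : Ω) : Set (Subgroup G) :=
  {K | UC p K (stabilizer G x) ∧ τ ≤ ty p K ∧ ∃ w, r x w ∧ ¬ ⁅K, Xf G p w⁆ ≤ Of G p x}

/-- their join -/
def RR (r : Ω → Ω → Prop) (x : Ω) : Subgroup G := sSup (RSet G p τ r x)

end

section

variable {G : Type*} [Group G] [Finite G] {Ω : Type*} [MulAction G Ω] {p : ℕ} [Fact p.Prime]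
  {ra rb : Ω → Ω → Prop} {da db : ℕ} {τ : ℕ}

theorem UC.smul {x : Ω} {K : Subgroup G} (hK : UC p K (stabilizer G x)) (g : G) :
    UC p (K.map (MulAut.conj g).toMonoidHom) (stabilizer G (g • x)) := by
  have h1 := hK.conj g
  rwa [← stab_smul] at h1

theorem UC.smul₂ {x z : Ω} {K : Subgroup G} (hK : UC p K (stabilizer G x ⊓ stabilizer G z)) (g : G) :
    UC p (K.map (MulAut.conj g).toMonoidHom) (stabilizer G (g • x) ⊓ stabilizer G (g • z)) := by
  have h1 := hK.conj g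
  rwa [Subgroup.map_inf _ _ _ (MulAut.conj g).injective, ← stab_smul, ← stab_smul] at h1

theorem comm_smul {x z : Ω} {K : Subgroup G} (g : G) :
    ⁅K.map (MulAut.conj g).toMonoidHom, Xf G p (g • z)⁆ ≤ Of G p (g • x) ↔ ⁅K, Xf G p z⁆ ≤ Of G p x := by
  rw [Xf_fun.smul, Of_fun.smul, ← map_commutator]
  exact Resid.map_conj_le_iff g

theorem VSet_smul {x : Ω} {K : Subgroup G} (hK : K ∈ VSet G p τ x) (g : G) :
    K.map (MulAut.conj g).toMonoidHom ∈ VSet G p τ (g • x) := by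
  refine ⟨hK.1.smul g, ?_⟩
  rw [ty_conj]
  exact hK.2

theorem USet_smul {x z : Ω} {K : Subgroup G} (hK : K ∈ USet G p τ x z) (g : G) :
    K.map (MulAut.conj g).toMonoidHom ∈ USet G p τ (g • x) (g • z) := by
  obtain ⟨h1, h2, J, h3, h4, h5⟩ := hK
  refine ⟨h1.smul₂ g, ?_, J.map (MulAut.conj g).toMonoidHom, h3.smul g, map_mono h4, (comm_smul g).2 h5⟩
  rw [ty_conj]
  exact h2

theorem RSet_smul {r : Ω → Ω → Prop} {d : ℕ} (D : Dir G r d) {x : Ω} {K : Subgroup G} (hK : K ∈ RSet G p τ r x)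
    (g : G) : K.map (MulAut.conj g).toMonoidHom ∈ RSet G p τ r (g • x) := by
  obtain ⟨h1, h2, w, h3, h4⟩ := hK
  refine ⟨h1.smul g, ?_, g • w, D.smul g h3, fun h5 => h4 ((comm_smul g).1 h5)⟩
  rw [ty_conj]
  exact h2

theorem VV_le (x : Ω) : VV G p τ x ≤ stabilizer G x := sSup_le fun _ hK => hK.1.le

theorem VV_fun : Fun G (VV G p τ : Ω → Subgroup G) :=
  Fun.of_map_le VV_le fun g _ => sSup_map_le g fun _ hK => VSet_smul hK g

theorem RR_fun {r : Ω → Ω → Prop} {d : ℕ} (D : Dir G r d) : Fun G (RR G p τ r) :=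
  Fun.of_map_le (fun _ => sSup_le fun _ hK => hK.1.le) fun g _ => sSup_map_le g fun _ hK => RSet_smul D hK g

theorem UU_le_inf (x z : Ω) : UU G p τ x z ≤ stabilizer G x ⊓ stabilizer G z := sSup_le fun _ hK => hK.1.le

theorem UU_norm (x z : Ω) : stabilizer G x ⊓ stabilizer G z ≤ normalizer (UU G p τ x z : Set G) := by
  refine le_normalizer_of_map_le fun g hg => ?_
  have h1 : g • x = x := hg.1
  have h2 : g • z = z := hg.2
  refine sSup_map_le g fun K hK => ?_
  have h3 := USet_smul hK g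
  rwa [h1, h2] at h3

theorem UU_le (x z : Ω) : UU G p τ x z ≤ VV G p τ x := by
  refine sSup_le fun K hK => ?_
  obtain ⟨h1, h2, J, h3, h4, -⟩ := hK
  exact h4.trans (le_sSup ⟨h3, h2.trans (h1.ty_le h4)⟩)

theorem VV_perf (x : Ω) : ⁅VV G p τ x, VV G p τ x⁆ = VV G p τ x := sSup_perfect fun _ hK => hK.1.perfect

theorem UU_perf (x z : Ω) : ⁅UU G p τ x z, UU G p τ x z⁆ = UU G p τ x z := sSup_perfect fun _ hK => hK.1.perfect

namespace NLS

/-- `V_xz = V_zx` (one inclusion) -/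
theorem USet_symm (h : NLS G p ra rb da db)
    (hτ : ∀ {x z : Ω}, ra x z → ∀ K, UC p K (stabilizer G x) → ¬ ⁅K, Xf G p z⁆ ≤ Of G p x → ty p K ≤ τ)
    {x z : Ω} (hz : ra x z) {K : Subgroup G} (hK : K ∈ USet G p τ x z) : K ∈ USet G p τ z x := by
  obtain ⟨J, h1, h2, h3⟩ := h.up hτ hz hK.1 hK.2.1
  refine ⟨?_, hK.2.1, J, h1, h2, h3⟩
  rw [inf_comm]
  exact hK.1

theorem UU_symm (h : NLS G p ra rb da db)
    (hτ : ∀ {x z : Ω}, ra x z → ∀ K, UC p K (stabilizer G x) → ¬ ⁅K, Xf G p z⁆ ≤ Of G p x → ty p K ≤ τ)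
    {x z : Ω} (hz : ra x z) : UU G p τ x z = UU G p τ z x :=
  congrArg sSup (Set.Subset.antisymm (fun _ hK => h.USet_symm hτ hz hK)
    fun _ hK => h.USet_symm hτ (h.A.symm hz) hK)

/-- `V_xz` centralises `X(x)` -/
theorem UU_cent (h : NLS G p ra rb da db) {x z : Ω} (hz : ra x z) :
    UU G p τ x z ≤ centralizer (Xf G p x : Set G) := by
  refine sSup_le fun K hK => ?_
  rw [← commutator_eq_bot_iff_le_centralizer]
  exact hK.1.comm_pgroup_eq_bot (le_inf (Xf_fun.le x) (h.X_le (h.A.symm hz)))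
    (inf_le_left.trans (Xf_fun.norm x)) (Xf_pgroup x)

/-- `V_xz` centralises the components of `G_z` moved by `x`, modulo `O(z)` -/
theorem UU_comp (h : NLS G p ra rb da db)
    (hτ : ∀ {x z : Ω}, ra x z → ∀ K, UC p K (stabilizer G x) → ¬ ⁅K, Xf G p z⁆ ≤ Of G p x → ty p K ≤ τ)
    {x z : Ω} (hz : ra x z) (J : Subgroup G) (hJ : UC p J (stabilizer G z)) (hm : ¬ ⁅J, Xf G p x⁆ ≤ Of G p z) :
    ⁅UU G p τ x z, J⁆ ≤ Of G p z := by
  refine sSup_comm_le (fun K hK => (hK.1.le.trans inf_le_right).trans (Of_fun.norm z)) fun K hK => ?_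
  obtain ⟨J₀, h1, h2, h3⟩ := h.up hτ hz hK.1 hK.2.1
  rcases h1.eq_or_comm hJ with h4 | h4
  · rw [h4] at h3
    exact absurd h3 hm
  · exact (commutator_mono h2 le_rfl).trans h4

/-- no loss -/
theorem VV_le_sup (h : NLS G p ra rb da db) {x y : Ω} (hy : ra x y) :
    VV G p τ x ≤ (VV G p τ x ⊓ centralizer (Nf rb (Xf G p) (Of G p) x : Set G)) ⊔ UU G p τ x y := by
  refine sSup_le fun K hK => ?_
  have hKV : K ≤ VV G p τ x := le_sSup hK
  have hUC := hK.1
  by_cases hm : ⁅K, Xf G p y⁆ ≤ Of G p x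
  · obtain ⟨K₀, h1, h2, h3, h4⟩ := h.low hy hUC hm
    have hK₀ : K₀ ≤ UU G p τ x y := le_sSup ⟨h1, h4 ▸ hK.2, K, hUC, h2, hm⟩
    have hXK : Xf G p y ≤ normalizer (K : Set G) := hUC.norm_of_comm (h.X_le hy) hm
    -- `K ∩ O(x)`
    have hD : K ⊓ Of G p x ≤ (K ⊓ centralizer (Nf rb (Xf G p) (Of G p) x : Set G)) ⊔ (K ⊓ stabilizer G y) := by
      have hn : Xf G p y ≤ normalizer ((K ⊓ Of G p x : Subgroup G) : Set G) := nrm_inf hXK (h.norm_O hy)
      have hc : (Nat.card (Xf G p y)).Coprime (Nat.card (K ⊓ Of G p x : Subgroup G)) :=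
        (XO_cop y x).coprime_dvd_right (card_dvd_of_le inf_le_right)
      have h5 := CopLem.sup_eq hn hc (CopLem.solv_of_isPGroup (Xf_pgroup y))
      refine h5.ge.trans (sup_le_sup (le_inf ?_ ?_) (le_inf ?_ ?_))
      · exact (comm_le_l hn).trans inf_le_left
      · refine (commutator_mono inf_le_right le_rfl).trans ((le_Nf hy).trans ?_)
        rw [← commutator_eq_bot_iff_le_centralizer, commutator_comm]
        exact h.N_comm x
      · exact inf_le_left.trans inf_le_left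
      · exact inf_le_right.trans (h.cent_le y)
    set C := K ⊓ centralizer (Nf rb (Xf G p) (Of G p) x : Set G) with hC
    have hK₀y : K₀ ≤ K ⊓ stabilizer G y := le_inf h2 (h1.le.trans inf_le_right)
    have hcov : K ≤ C ⊔ (K ⊓ stabilizer G y) :=
      h3.trans (sup_le (le_sup_of_le_right hK₀y) hD)
    -- `K₀` contains `O^{p'}(K ∩ G_y)`
    have hKn : K ≤ normalizer (Of G p x : Set G) := hUC.le.trans (Of_fun.norm x)
    have hKD : K ≤ normalizer ((K ⊓ Of G p x : Subgroup G) : Set G) := nrm_inf le_normalizer hKn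
    have hcop : (K₀.relIndex (K ⊓ stabilizer G y)).Coprime p := by
      have e1 : K ⊓ stabilizer G y = K₀ ⊔ ((K ⊓ Of G p x) ⊓ (K ⊓ stabilizer G y)) := by
        rw [← dede' (h2.trans hKD) hK₀y]
        exact (inf_eq_right.2 (inf_le_left.trans h3)).symm
      have hn : K₀ ≤ normalizer (((K ⊓ Of G p x) ⊓ (K ⊓ stabilizer G y) : Subgroup G) : Set G) :=
        nrm_inf (h2.trans hKD) (hK₀y.trans le_normalizer)
      have h6 := relIndex_sup_dvd_card' hn
      rw [← e1] at h6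
      exact ((Of_cop x).coprime_dvd_left (card_dvd_of_le (inf_le_left.trans inf_le_right))).coprime_dvd_left h6
    have hsub : SubnIn K₀ (K ⊓ stabilizer G y) := (h1.mono_sub hK₀y (inf_le_inf_right _ hUC.le)).subn
    have hpe : pElem p (K ⊓ stabilizer G y) ≤ K₀ := hsub.pElem_le_of_coprime hcop
    have hpe' : pElem p (K ⊓ stabilizer G y) = K₀ := by
      refine le_antisymm hpe ?_
      conv_lhs => rw [← h1.gen]
      exact pElem_mono hK₀y
    have hnK₀ : K ⊓ stabilizer G y ≤ normalizer (K₀ : Set G) := by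
      rw [← hpe']
      exact le_normalizer.trans (normalizer_le_normalizer_pElem _)
    -- `K = C K₀`
    have hCn : K ≤ normalizer (C : Set G) :=
      nrm_inf le_normalizer (nrm_centralizer (hUC.le.trans (h.symm.FN.norm x)))
    have hM : K ≤ normalizer ((C ⊔ K₀ : Subgroup G) : Set G) := by
      refine hcov.trans (sup_le (le_sup_left.trans le_normalizer) ?_)
      exact nrm_sup (inf_le_left.trans hCn) hnK₀
    have hMK : C ⊔ K₀ ≤ K := sup_le inf_le_left h2
    have hidx : ((C ⊔ K₀).relIndex K).Coprime p := by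
      have e2 : (K ⊓ stabilizer G y) ⊔ (C ⊔ K₀) = K :=
        le_antisymm (sup_le inf_le_left hMK) (hcov.trans (sup_le (le_sup_left.trans le_sup_right) le_sup_left))
      have h7 : (C ⊔ K₀).relIndex K = (C ⊔ K₀).relIndex (K ⊓ stabilizer G y) := by
        conv_lhs => rw [← e2]
        exact relIndex_sup_nl (inf_le_left.trans hM)
      rw [h7]
      exact hcop.coprime_dvd_left (relIndex_dvd_of_le_left _ le_sup_right)
    have hfin : K ≤ C ⊔ K₀ := by
      have h8 := (SubnIn.of_normal hMK hM).pElem_le_of_coprime hidx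
      rwa [hUC.gen] at h8
    exact hfin.trans (sup_le_sup (inf_le_inf_right _ hKV) hK₀)
  · have h1 := h.moved_le_W hy hUC hm
    refine le_sup_of_le_left (le_inf hKV (h1.trans ?_))
    rw [← commutator_eq_bot_iff_le_centralizer]
    exact h.W_comm x

theorem loss (h : NLS G p ra rb da db) {x y : Ω} (hy : ra x y) (g : G) (hg : g ∈ VV G p τ x) :
    ∃ c ∈ VV G p τ x ⊓ centralizer (Nf rb (Xf G p) (Of G p) x : Set G), ∃ v ∈ UU G p τ x y, g = c * v := by
  refine exists_mul_of_mem_sup ?_ (h.VV_le_sup hy hg)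
  exact (UU_le x y).trans (nrm_inf le_normalizer (nrm_centralizer ((VV_le x).trans (h.symm.FN.norm x))))

/-- **(c), (d)**: the operator groups -/
theorem vsys (h : NLS G p ra rb da db)
    (hτ : ∀ {x z : Ω}, ra x z ∨ rb x z → ∀ K, UC p K (stabilizer G x) → ¬ ⁅K, Xf G p z⁆ ≤ Of G p x → ty p K ≤ τ) :
    VSys G p ra rb (VV G p τ) (UU G p τ) where
  FV := VV_fun
  perf := VV_perf
  le _ := UU_le _ _
  symm hz := by
    rcases hz with hz | hz
    · exact h.UU_symm (fun h' => hτ (Or.inl h')) hz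
    · exact h.symm.UU_symm (fun h' => hτ (Or.inr h')) hz
  norm _ := UU_norm _ _
  uperf _ := UU_perf _ _
  cent hz := by
    rcases hz with hz | hz
    · exact h.UU_cent hz
    · exact h.symm.UU_cent hz
  comp hz J hJ hm := by
    rcases hz with hz | hz
    · exact h.UU_comp (fun h' => hτ (Or.inl h')) hz J hJ hm
    · exact h.symm.UU_comp (fun h' => hτ (Or.inr h')) hz J hJ hm
  lossA hy g hg := h.loss hy g hg
  lossB hy g hg := h.symm.loss hy g hg

/-- the moved components of type `τ` in direction `b` lie in `V_xy`, `y ~_a x` -/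
theorem RR_le_UU (h : NLS G p ra rb da db) {x y : Ω} (hy : ra x y) : RR G p τ rb x ≤ UU G p τ x y := by
  refine sSup_le fun K hK => le_sSup ?_
  obtain ⟨h1, h2, w, h3, h4⟩ := hK
  have h5 := h.symm.moved_le h3 hy h1 h4
  exact ⟨h1.mono_sub (le_inf h1.le h5) inf_le_left, h2, K, h1, le_rfl, h.symm.not_moved h3 hy h1 h4⟩

/-- **output of (c), (d)** -/
theorem exists_VSys (h : NLS G p ra rb da db)
    (hex : ∃ x z : Ω, (ra x z ∨ rb x z) ∧ ∃ K, UC p K (stabilizer G x) ∧ ¬ ⁅K, Xf G p z⁆ ≤ Of G p x) :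
    ∃ (V : Ω → Subgroup G) (U : Ω → Ω → Subgroup G) (R : Ω → Subgroup G), VSys G p ra rb V U ∧ Fun G R ∧
      (∀ x, R x ≠ ⊥) ∧ ((∀ {x y : Ω}, ra x y → R x ≤ U x y) ∨ (∀ {x y : Ω}, rb x y → R x ≤ U x y)) := by
  classical
  let S : Set (Subgroup G) := {K | ∃ x z : Ω, (ra x z ∨ rb x z) ∧ UC p K (stabilizer G x) ∧
    ¬ ⁅K, Xf G p z⁆ ≤ Of G p x}
  have hSf : S.Finite := Set.toFinite S
  have hSn : S.Nonempty := by
    obtain ⟨x, z, h1, K, h2, h3⟩ := hex
    exact ⟨K, x, z, h1, h2, h3⟩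
  obtain ⟨K, ⟨x, z, h1, h2, h3⟩, hmax⟩ := Set.exists_max_image S (ty p) hSf hSn
  have hτ : ∀ {x z : Ω}, ra x z ∨ rb x z → ∀ K', UC p K' (stabilizer G x) → ¬ ⁅K', Xf G p z⁆ ≤ Of G p x →
      ty p K' ≤ ty p K := fun {x z} h4 K' h5 h6 => hmax K' ⟨x, z, h4, h5, h6⟩
  rcases h1 with h1 | h1
  · refine ⟨VV G p (ty p K), UU G p (ty p K), RR G p (ty p K) ra, h.vsys hτ, RR_fun h.A, ?_, Or.inr ?_⟩
    · refine (RR_fun h.A).ne_bot h.P (x := x) fun h4 => h2.ne_bot ?_
      rw [← le_bot_iff, ← h4]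
      exact le_sSup ⟨h2, le_rfl, z, h1, h3⟩
    · exact fun {x y} hy => h.symm.RR_le_UU hy
  · refine ⟨VV G p (ty p K), UU G p (ty p K), RR G p (ty p K) rb, h.vsys hτ, RR_fun h.B, ?_, Or.inl ?_⟩
    · refine (RR_fun h.B).ne_bot h.P (x := x) fun h4 => h2.ne_bot ?_
      rw [← le_bot_iff, ← h4]
      exact le_sSup ⟨h2, le_rfl, z, h1, h3⟩
    · exact fun {x y} hy => h.RR_le_UU hy

end NLS

end

end Cfsg.Agent.R2.T3544
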