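import Cfsg.Agent.R2.T3544.LemE3

/-!
# S3544: Lemma E, end
-/

set_option autoImplicit false
set_option linter.unusedSectionVars false

namespace Cfsg.Agent.R2.T3544

open Subgroup
open scoped commutatorElement

variable {G : Type*} [Group G] [Finite G]

section Main

variable {Y O X V P N1 A A' N2 : Subgroup G} {d1 d2 : ℕ} {L H M' M K' K : Subgroup G}

/-- X moves a factor -/
theorem e7b (h : ESet Y O X V P N1 A A' N2 d1 d2) (k : KK Y X V P N1 H M' M K' K) (hLH : Chf A' L H)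
    (hact : Act d2 L H) (hDL : H ⊓ CF A' K' K ≤ L) (hS : CF A' L H ≤ CF V K' K)
    (hV : V ≤ A' ⊔ CF V K' K) (hna : ¬ ⁅K, K⁆ ≤ K')
    {N : Subgroup G} (hN : Chf M M' N) (hX : ¬ X ≤ normalizer (N : Set G)) : False := by
  have hMn := k.nMM'
  have hA'K' : A' ≤ normalizer (K' : Set G) := h.A'V.trans k.nK'
  have hA'K : A' ≤ normalizer (K : Set G) := h.A'V.trans k.nK
  obtain ⟨x, hxX, hx1⟩ : ∃ x ∈ X, N.map (MulAut.conj x).toMonoidHom ≠ N := by
    by_contra hcon
    push Not at hcon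
    exact hX (nrm_iff.2 hcon)
  have hNx := k.c.conj hN (h.XY hxX)
  have hMO : M ≤ O := k.hMN.trans h.N1O
  have hOM : O ≤ normalizer (M : Set G) := h.OY.trans k.c.nM
  have hAN : (A ⊓ M) ⊓ N ≤ M' := by
    have hle' : (A ⊓ M) ⊓ N ≤ N ⊓ N.map (MulAut.conj x).toMonoidHom := by
      rintro a ⟨⟨ha, ha2⟩, ha1⟩
      exact ⟨ha1, ⟨a, ha1, h.conjA hxX ha⟩⟩
    rcases hN.min (N ⊓ N.map (MulAut.conj x).toMonoidHom) (nrm_inf hN.nH hNx.nH) (le_inf hN.lt.le hNx.lt.le)
      inf_le_left with e | e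
    · exact hle'.trans e.le
    · exfalso
      apply hx1
      have h5 : N ≤ N.map (MulAut.conj x).toMonoidHom := inf_eq_left.1 e
      refine (eq_of_le_of_card_ge h5 ?_).symm
      rw [card_map_of_injective (MulAut.conj x).injective]
  have hd : M'.relIndex N ∣ d1 := by
    refine (relIndex_dvd_of_le_left (L := N) hAN).trans ?_
    rw [inf_relIndex_right]
    refine (relIndex_dvd_nr (O := M) inf_le_right hN.le hN.nH).trans ?_
    rw [inf_relIndex_right]
    exact h.idx' hMO hOM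
  have hcop : (M'.relIndex M).Coprime d2 := by
    refine coprime_iSup (K := fun g : Y => N.map (MulAut.conj (g : G)).toMonoidHom) hMn k.c.lt.le
      (fun g => (k.c.conj hN g.2).lt.le) (fun g => (k.c.conj hN g.2).le) (fun g => (k.c.conj hN g.2).nH) (fun g => ?_)
      (k.c.iSup hN)
    have e1 := card_rel (k.c.conj hN g.2).lt.le
    have e2 := card_rel hN.lt.le
    have e3 : Nat.card (N.map (MulAut.conj (g : G)).toMonoidHom) = Nat.card N :=
      card_map_of_injective (MulAut.conj (g : G)).injective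
    have e4 : 0 < Nat.card M' := Nat.card_pos
    have e5 : M'.relIndex (N.map (MulAut.conj (g : G)).toMonoidHom) = M'.relIndex N := by
      apply Nat.eq_of_mul_eq_mul_left e4
      rw [e1, e2, e3]
    rw [e5]
    exact h.cop.coprime_dvd_left hd
  have hcopK : (K'.relIndex K).Coprime d2 := by
    have e1 : K'.relIndex K ∣ M'.relIndex M := by
      rw [← relIndex_mul_relIndex M' K' M k.h1 (k.lt.le.trans k.h2),
        ← relIndex_mul_relIndex K' K M k.lt.le k.h2]
      exact ⟨M'.relIndex K' * K.relIndex M, by ring⟩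
    exact hcop.coprime_dvd_left e1
  -- now `|H/L|` divides `|K/K'|`
  set KV := CF V K' K with hKV
  have hKVn : V ≤ normalizer (KV : Set G) := nrm_CF le_normalizer k.nK' k.nK
  have hKVV : KV ≤ V := CF_le _ _ _
  set Kt := K ⊓ V with hKt
  have hKtn : V ≤ normalizer (Kt : Set G) := nrm_inf k.nK le_normalizer
  have hKle : K ≤ Kt ⊔ K' := by
    refine (k.eq h hLH.le).trans (sup_le_sup_right (le_inf (comm_le_l k.nK) (comm_le_r ?_)) _)
    exact (k.h2.trans k.c.le).trans h.nV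
  have hKtK' : Kt ≤ normalizer (K' : Set G) := inf_le_right.trans k.nK'
  set J := A' ⊓ (Kt ⊔ KV) with hJ
  have hJn : A' ≤ normalizer (J : Set G) :=
    nrm_inf le_normalizer (nrm_sup (h.A'V.trans hKtn) (h.A'V.trans hKVn))
  have hJA : J ≤ A' := inf_le_left
  have hAK : A' ⊔ KV = V := le_antisymm (sup_le h.A'V hKVV) hV
  have hJK : J ⊔ KV = Kt ⊔ KV := by
    have h6 := dede (H := A') (D := KV) (M := Kt ⊔ KV) (h.A'V.trans hKVn) le_sup_right
    rw [hAK, inf_eq_right.2 (sup_le inf_le_right hKVV)] at h6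
    exact h6.symm
  have hCF : CF A' K' K = A' ⊓ KV := CF_inf h.A'V
  rcases hLH.alt hJn with e | e
  · apply hna
    have h7 : J ≤ CF A' L H := by
      refine le_CF hJA (hJA.trans hLH.nL) ?_
      rw [← e]
      exact le_inf (comm_le_r (hJA.trans hLH.nH)) ((comm_le_l (hLH.le.trans hJn)).trans le_sup_right)
    have h8 : Kt ≤ KV := by
      have : Kt ≤ J ⊔ KV := by rw [hJK]; exact le_sup_left
      exact this.trans (sup_le (h7.trans hS) le_rfl)
    refine (commutator_mono hKle le_rfl).trans ?_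
    refine H231.sup_commutator_le hKtK' le_normalizer ?_ (comm_le_l k.nKK')
    exact (commutator_mono h8 le_rfl).trans (CF_comm _ _ _)
  · have h9 := (hLH.iso_down hJn e).relIndex
    have h10 : (L ⊓ J).relIndex (H ⊓ J) ∣ (CF A' K' K).relIndex (H ⊓ J) := by
      have : CF A' K' K ⊓ (H ⊓ J) ≤ L ⊓ J := by
        refine le_inf ?_ (inf_le_right.trans inf_le_right)
        exact (le_inf (inf_le_right.trans inf_le_left) inf_le_left).trans hDL
      have h11 := relIndex_dvd_of_le_left (L := H ⊓ J) this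
      rwa [inf_relIndex_right] at h11
    have h12 : (CF A' K' K).relIndex (H ⊓ J) ∣ (CF A' K' K).relIndex J :=
      relIndex_dvd_nl inf_le_right (hJA.trans (nrm_CF le_normalizer hA'K' hA'K))
    have h13 : (CF A' K' K).relIndex J = KV.relIndex J := by
      rw [hCF, ← inf_relIndex_right, ← inf_relIndex_right KV J]
      congr 1
      rw [inf_comm A', inf_assoc, inf_eq_right.2 hJA]
    have h14 : KV.relIndex J = KV.relIndex Kt := by
      rw [← relIndex_sup_nl ((hJA.trans h.A'V).trans hKVn), hJK, relIndex_sup_nl (inf_le_right.trans hKVn)]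
    have h15 : KV.relIndex Kt ∣ K'.relIndex Kt := by
      have h16 : K' ⊓ Kt ≤ KV := by
        refine le_CF (inf_le_right.trans inf_le_right) (inf_le_left.trans le_normalizer) ?_
        exact (commutator_mono inf_le_left le_rfl).trans (comm_le_l k.nKK')
      have h17 := relIndex_dvd_of_le_left (L := Kt) h16
      rwa [inf_relIndex_right] at h17
    have h18 : K'.relIndex Kt = K'.relIndex K := by
      rw [← relIndex_sup_nl hKtK']
      congr 1
      exact le_antisymm (sup_le inf_le_left k.lt.le) hKle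
    apply hact
    have h19 : L.relIndex H ∣ K'.relIndex K := by
      rw [h9]
      exact h10.trans (h12.trans (by rw [h13, h14]; exact h15.trans h18.dvd))
    exact hcopK.coprime_dvd_left h19

/-- `K/K'` as a chief factor of `V` inside `⁅N1, V⁆` -/
theorem KK.chf (h : ESet Y O X V P N1 A A' N2 d1 d2) (k : KK Y X V P N1 H M' M K' K) (hH : H ≤ A') :
    Chf V (K' ⊓ ⁅N1, V⁆) (K ⊓ ⁅N1, V⁆) ∧ (K' ⊓ ⁅N1, V⁆).relIndex (K ⊓ ⁅N1, V⁆) = K'.relIndex K ∧
      CF V (K' ⊓ ⁅N1, V⁆) (K ⊓ ⁅N1, V⁆) = CF V K' K ∧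
      (⁅K ⊓ ⁅N1, V⁆, K ⊓ ⁅N1, V⁆⁆ ≤ K' ⊓ ⁅N1, V⁆ ↔ ⁅K, K⁆ ≤ K') := by
  set Q := ⁅N1, V⁆ with hQ
  have hQV : Q ≤ V := comm_le_r (h.N1Y.trans h.nV)
  have hQn : V ≤ normalizer (Q : Set G) := nrm_comm (h.VY.trans h.nN1) le_normalizer
  have hKQ : K ≤ (K ⊓ Q) ⊔ K' := by
    refine (k.eq h hH).trans (sup_le_sup_right (le_inf (comm_le_l k.nK) ?_) _)
    exact commutator_mono (k.h2.trans k.hMN) le_rfl
  have hKQ' : (K ⊓ Q) ⊔ K' = K := le_antisymm (sup_le inf_le_left k.lt.le) hKQ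
  have hKQn : K ⊓ Q ≤ normalizer (K' : Set G) := (inf_le_right.trans hQV).trans k.nK'
  have hlt : K' ⊓ Q < K ⊓ Q := by
    refine lt_of_le_of_ne (inf_le_inf_right _ k.lt.le) fun e => k.lt.ne ?_
    rw [← hKQ', ← e]
    exact (sup_eq_right.2 inf_le_left).symm
  refine ⟨⟨hlt, inf_le_right.trans hQV, nrm_inf k.nK' hQn, nrm_inf k.nK hQn, fun J hJ hJ1 hJ2 => ?_⟩, ?_, ?_, ?_⟩
  · have hd := dede (H := J) (D := K') (M := Q)
    have hJQ : J ≤ Q := hJ2.trans inf_le_right
    have h1 := dede' (L := J) (D := K') (M := Q) ((hJQ.trans hQV).trans k.nK') hJQ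
    rw [sup_eq_left.2 hJ1] at h1
    rcases k.min (J ⊔ K') (nrm_sup hJ k.nK') le_sup_right (sup_le (hJ2.trans inf_le_left) k.lt.le) with e | e
    · left; rw [← h1, e]
    · right; rw [← h1, e]
  · have h1 : (K' ⊓ Q).relIndex (K ⊓ Q) = K'.relIndex (K ⊓ Q) := by
      rw [← inf_relIndex_right K' (K ⊓ Q), ← inf_assoc, inf_eq_left.2 k.lt.le]
    rw [h1, ← relIndex_sup_nl hKQn, hKQ']
  · apply le_antisymm
    · refine le_CF (CF_le _ _ _) ((CF_le _ _ _).trans k.nK') ?_
      refine (commutator_mono le_rfl hKQ).trans ?_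
      refine H231.commutator_sup_le hKQn le_normalizer ((CF_comm _ _ _).trans inf_le_left) ?_
      exact comm_le_r ((CF_le _ _ _).trans k.nK')
    · refine le_CF (CF_le _ _ _) ((CF_le _ _ _).trans (nrm_inf k.nK' hQn)) ?_
      refine le_inf ((commutator_mono le_rfl inf_le_left).trans (CF_comm _ _ _)) ?_
      exact (commutator_mono le_rfl inf_le_right).trans (comm_le_r ((CF_le _ _ _).trans hQn))
  · constructor
    · intro h1
      have h2 : ⁅K ⊓ Q, K ⊓ Q⁆ ≤ K' := h1.trans inf_le_left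
      have h3 : ⁅K ⊓ Q, K⁆ ≤ K' := by
        refine (commutator_mono le_rfl hKQ).trans ?_
        exact H231.commutator_sup_le hKQn le_normalizer h2 (comm_le_r hKQn)
      refine (commutator_mono hKQ le_rfl).trans ?_
      exact H231.sup_commutator_le hKQn le_normalizer h3 (comm_le_l k.nKK')
    · intro h1
      refine le_inf ((commutator_mono inf_le_left inf_le_left).trans h1) ?_
      exact (comm_le_r (le_normalizer)).trans inf_le_right

/-- **Lemma E** -/
theorem lemE (h : ESet Y O X V P N1 A A' N2 d1 d2) {L H : Subgroup G}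
    (hC : N2 ⊓ centralizer (P : Set G) ≤ L) (hLH : Chf A' L H) (hH : H ≤ N2) (hact : Act d2 L H) :
    ∃ M' M1, Chf V M' M1 ∧ M1 ≤ ⁅N1, V⁆ ∧ Act d1 M' M1 ∧ ¬ ⁅M1, V⁆ ≤ M' ∧ wt A' L H < wt V M' M1 := by
  obtain ⟨L', H', hLH', hC', hH', hw, hi, dich⟩ := exists_version hLH hC hH
  have hact' : Act d2 L' H' := by rw [Act, hi]; exact hact
  rw [← hw]
  clear hw hi hact hLH hC hH
  obtain ⟨M', M, K', K, k⟩ := exists_KK h hC' hLH' hH' hact' dich
  obtain ⟨c1, c2, c3, c4⟩ := k.chf h hLH'.le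
  have hnV : ¬ ⁅K ⊓ ⁅N1, V⁆, V⁆ ≤ K' ⊓ ⁅N1, V⁆ := by
    intro e
    have e1 : V ≤ CF V (K' ⊓ ⁅N1, V⁆) (K ⊓ ⁅N1, V⁆) := le_CF le_rfl c1.nL (by rwa [commutator_comm])
    rw [c3] at e1
    apply k.act
    exact (commutator_mono ((hLH'.le.trans h.A'V).trans e1) inf_le_right).trans (CF_comm _ _ _)
  refine ⟨K' ⊓ ⁅N1, V⁆, K ⊓ ⁅N1, V⁆, c1, inf_le_right, ?_, hnV, ?_⟩
  · rw [Act, c2]
    exact e6 h k
  have hDL := e5a h k hLH' dich
  have hA'K' : A' ≤ normalizer (K' : Set G) := h.A'V.trans k.nK'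
  have hA'K : A' ≤ normalizer (K : Set G) := h.A'V.trans k.nK
  have hSn : A' ≤ normalizer (CF A' K' K : Set G) := nrm_CF le_normalizer hA'K' hA'K
  have hS : CF A' K' K ≤ CF A' L' H' := by
    refine le_CF (CF_le _ _ _) ((CF_le _ _ _).trans hLH'.nL) ?_
    refine le_trans (le_inf ?_ ?_) hDL
    · exact comm_le_r ((CF_le _ _ _).trans hLH'.nH)
    · exact comm_le_l (hLH'.le.trans hSn)
  have hKVn : V ≤ normalizer (CF V K' K : Set G) := nrm_CF le_normalizer k.nK' k.nK
  have e1 : (CF A' L' H').relIndex A' ≤ (CF A' K' K).relIndex A' :=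
    Nat.le_of_dvd (relIndex_pos _ _) (relIndex_dvd_of_le_left (L := A') hS)
  have e2 : (CF A' K' K).relIndex A' = (CF V K' K).relIndex A' := by
    rw [CF_inf h.A'V, inf_relIndex_left]
  have e3 : (CF V K' K).relIndex A' ≤ (CF V K' K).relIndex V :=
    Nat.le_of_dvd (relIndex_pos _ _) (relIndex_dvd_nl h.A'V hKVn)
  have e4 := le_wt V (K' ⊓ ⁅N1, V⁆) (K ⊓ ⁅N1, V⁆)
  rw [c3] at e4
  by_cases hab : ⁅H', H'⁆ ≤ L'
  · rw [wt_of_comm hab]
    have h5 : CF A' K' K < CF A' L' H' := by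
      refine lt_of_le_of_ne hS fun e => ?_
      have h6 : H' ≤ CF A' L' H' := le_CF hLH'.le (hLH'.le.trans hLH'.nL) hab
      rw [← e] at h6
      exact hLH'.lt.not_ge ((le_inf le_rfl h6).trans hDL)
    have h7 := relIndex_lt_of_lt h5 (CF_le A' L' H')
    omega
  · rw [wt_of_not_comm hab]
    by_cases h8 : (CF A' L' H').relIndex A' < (CF V K' K).relIndex V
    · omega
    · by_cases hY : ⁅K, K⁆ ≤ K'
      · rw [wt_of_comm (c4.2 hY), c3]
        omega
      · exfalso
        have h9 : (CF V K' K).relIndex A' = (CF V K' K).relIndex V := by omega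
        have hV : V ≤ A' ⊔ CF V K' K := by
          have h1 := relIndex_mul_relIndex (CF V K' K) (A' ⊔ CF V K' K) V le_sup_right (sup_le h.A'V (CF_le _ _ _))
          rw [relIndex_sup_nl (h.A'V.trans hKVn), h9] at h1
          have h2 := relIndex_pos (CF V K' K) V
          have h3 : (A' ⊔ CF V K' K).relIndex V = 1 := by
            have : (CF V K' K).relIndex V * (A' ⊔ CF V K' K).relIndex V = (CF V K' K).relIndex V * 1 := by
              rw [h1, mul_one]
            exact Nat.eq_of_mul_eq_mul_left h2 this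
          exact relIndex_eq_one.1 h3
        have hS' : CF A' L' H' ≤ CF V K' K := by
          have h10 : (CF A' K' K).relIndex A' = (CF A' L' H').relIndex A' := by omega
          have h11 := relIndex_mul_relIndex _ _ A' hS (CF_le A' L' H')
          rw [h10] at h11
          have h12 := relIndex_pos (CF A' L' H') A'
          have h13 : (CF A' K' K).relIndex (CF A' L' H') = 1 := by
            have : (CF A' K' K).relIndex (CF A' L' H') * (CF A' L' H').relIndex A' =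
                1 * (CF A' L' H').relIndex A' := by
              rw [h11, one_mul]
            exact Nat.eq_of_mul_eq_mul_right h12 this
          refine (relIndex_eq_one.1 h13).trans ?_
          rw [CF_inf h.A'V]
          exact inf_le_right
        by_cases hX : ∀ N, Chf M M' N → X ≤ normalizer (N : Set G)
        · exact e7a h k hLH'.le hV hY hX
        · push Not at hX
          obtain ⟨N, hN, hX⟩ := hX
          exact e7b h k hLH' hact' hDL hS' hV hY hN hX

/-- three subgroups for a perfect group acting on a chain -/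
theorem perfect_chain {A' P B M' : Subgroup G} (hA' : ⁅A', A'⁆ = A') (hAM : A' ≤ normalizer (M' : Set G))
    (hPM : P ≤ normalizer (M' : Set G)) (h1 : ⁅A', P⁆ ≤ B) (h2 : ⁅A', B⁆ ≤ M') : ⁅A', P⁆ ≤ M' := by
  have h3 := H231.three_subgroups (P := M') (A := A') (B := A') (C := P) hAM hAM hPM ?_ ?_
  · rwa [hA'] at h3
  · exact (commutator_mono h1 le_rfl).trans (by rwa [commutator_comm])
  · rw [commutator_comm P]
    exact (commutator_mono h1 le_rfl).trans (by rwa [commutator_comm])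

/-- **Lemma E0** -/
theorem lemE0 (h : ESet Y O X V P N1 A A' N2 d1 d2) (hA' : ⁅A', A'⁆ = A')
    (hc : ∀ M' M1 : Subgroup G, Chf V M' M1 → M1 ≤ ⁅N1, V⁆ → Act d1 M' M1 → ⁅M1, V⁆ ≤ M') : ⁅A', P⁆ = ⊥ := by
  by_contra hne
  obtain ⟨M, ⟨hM1, hM2, hM3⟩, hM4⟩ := Set.Finite.exists_minimal
    (s := {M : Subgroup G | Y ≤ normalizer (M : Set G) ∧ M ≤ N1 ∧ ⁅A', P⁆ ≤ M}) (Set.toFinite _)
    ⟨N1, h.nN1, le_rfl, (comm_le_r h.A'P).trans h.PN1⟩
  have hMb : M ≠ ⊥ := by
    rintro rfl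
    exact hne (le_bot_iff.1 hM3)
  obtain ⟨M', c⟩ := exists_YC (hM2.trans h.N1Y) hM1 hMb
  have hHP : ¬ ⁅A', P⁆ ≤ M' := fun e => c.lt.not_ge (hM4 ⟨c.nM', c.lt.le.trans hM2, e⟩ c.lt.le)
  have hMn : M ≤ normalizer (M' : Set G) := c.le.trans c.nM'
  have hPM' : P ≤ normalizer (M' : Set G) := (h.PO.trans h.OY).trans c.nM'
  have hA'M' : A' ≤ normalizer (M' : Set G) := h.A'Y.trans c.nM'
  have hHPM : ⁅A', P⁆ ≤ P ⊓ M := le_inf (comm_le_r h.A'P) hM3
  have hX : ¬ ⁅P ⊓ M, X⁆ ≤ M' := by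
    intro e
    apply hHP
    have h3 := H231.three_subgroups (P := M') (A := P) (B := X) (C := A') hPM' (h.XY.trans c.nM') hA'M' ?_ ?_
    · rw [h.PX] at h3
      rwa [commutator_comm]
    · rw [h.XA', commutator_bot_left]
      exact bot_le
    · exact (commutator_mono hHPM le_rfl).trans e
  have hf : ¬ ⁅A', P ⊓ M⁆ ≤ M' := fun e => hHP (perfect_chain hA' hA'M' hPM' hHPM e)
  have hMV : M ≤ V ⊔ M' := by
    have hV : Y ≤ normalizer ((⁅M, V⁆ ⊔ M' : Subgroup G) : Set G) := nrm_sup (nrm_comm c.nM h.nV) c.nM'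
    rcases c.min (⁅M, V⁆ ⊔ M') hV le_sup_right (sup_le (comm_le_l (h.VY.trans c.nM)) c.lt.le) with e | e
    · exfalso
      apply hf
      have e1 : ⁅M, V⁆ ≤ M' := by rw [← e]; exact le_sup_left
      refine le_trans ?_ e1
      rw [commutator_comm]
      exact commutator_mono inf_le_right h.A'V
    · rw [← e]
      exact sup_le_sup_right (comm_le_r (c.le.trans h.nV)) _
  obtain ⟨K, ⟨hK1, hK2, hK3, hK4⟩, hK5⟩ := Set.Finite.exists_minimal
    (s := {K : Subgroup G | V ≤ normalizer (K : Set G) ∧ M' ≤ K ∧ K ≤ M ∧ ¬ ⁅A', P ⊓ K⁆ ≤ M'}) (Set.toFinite _)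
    ⟨M, h.VY.trans c.nM, c.lt.le, le_rfl, hf⟩
  have hKM' : M' < K := by
    refine lt_of_le_of_ne hK2 fun e => hK4 ?_
    rw [← e]
    exact (commutator_mono le_rfl inf_le_right).trans (comm_le_r hA'M')
  obtain ⟨K', ⟨hK'1, hK'2, hK'3⟩, hK'4⟩ := Set.Finite.exists_maximal
    (s := {J : Subgroup G | V ≤ normalizer (J : Set G) ∧ M' ≤ J ∧ J < K}) (Set.toFinite _)
    ⟨M', h.VY.trans c.nM', le_rfl, hKM'⟩
  have hHK' : ⁅A', P ⊓ K'⁆ ≤ M' := by
    by_contra e
    exact hK'3.not_ge (hK5 ⟨hK'1, hK'2, hK'3.le.trans hK3, e⟩ hK'3.le)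
  have k : KK Y X V P N1 A' M' M K' K := by
    refine ⟨c, hM2, hX, hMV, hK'2, hK'3, hK3, hK'1, hK1, fun J hJ hJ1 hJ2 => ?_, fun e => hK4 ?_⟩
    · rcases eq_or_lt_of_le hJ2 with e | e
      · exact Or.inr e
      · exact Or.inl (le_antisymm (hK'4 ⟨hJ, hK'2.trans hJ1, e⟩ hJ1) hJ1)
    · have hA'K : A' ≤ normalizer ((P ⊓ K : Subgroup G) : Set G) := nrm_inf h.A'P (h.A'V.trans hK1)
      refine perfect_chain hA' hA'M' (inf_le_left.trans hPM') (B := P ⊓ K') ?_ hHK'
      exact le_inf ((comm_le_r hA'K).trans inf_le_left) e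
  obtain ⟨c1, c2, c3, c4⟩ := k.chf h le_rfl
  apply k.act
  have e0 := hc _ _ c1 inf_le_right (by rw [Act, c2]; exact e6 h k)
  have e1 : V ≤ CF V (K' ⊓ ⁅N1, V⁆) (K ⊓ ⁅N1, V⁆) := le_CF le_rfl c1.nL (by rwa [commutator_comm])
  rw [c3] at e1
  exact (commutator_mono (h.A'V.trans e1) inf_le_right).trans (CF_comm _ _ _)

end Main

end Cfsg.Agent.R2.T3544
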