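import Cfsg.Agent.R2.T3544.NLctx

/-!
# S3544, case NL with components: the operator groups `V x` and `U x z` (interface)
-/

set_option autoImplicit false
set_option linter.unusedSectionVars false

namespace Cfsg.Agent.R2.T3544

open Subgroup Cfsg MulAction
open scoped commutatorElement

/-- the operator groups: `V x ≤ G_x`, `U x z = U z x ≤ V x ∩ V z` for neighbours -/
structure VSys (G : Type*) [Group G] {Ω : Type*} [MulAction G Ω] (p : ℕ) (ra rb : Ω → Ω → Prop)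
    (V : Ω → Subgroup G) (U : Ω → Ω → Subgroup G) : Prop where
  FV : Fun G V
  perf : ∀ x, ⁅V x, V x⁆ = V x
  le : ∀ {x z : Ω}, ra x z ∨ rb x z → U x z ≤ V x
  symm : ∀ {x z : Ω}, ra x z ∨ rb x z → U x z = U z x
  norm : ∀ {x z : Ω}, ra x z ∨ rb x z → stabilizer G x ⊓ stabilizer G z ≤ normalizer (U x z : Set G)
  uperf : ∀ {x z : Ω}, ra x z ∨ rb x z → ⁅U x z, U x z⁆ = U x z
  cent : ∀ {x z : Ω}, ra x z ∨ rb x z → U x z ≤ centralizer (Xf G p x : Set G)
  comp : ∀ {x z : Ω}, ra x z ∨ rb x z → ∀ J, UC p J (stabilizer G z) → ¬ ⁅J, Xf G p x⁆ ≤ Of G p z →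
    ⁅U x z, J⁆ ≤ Of G p z
  lossA : ∀ {x y : Ω}, ra x y → ∀ g ∈ V x,
    ∃ c ∈ V x ⊓ centralizer (Nf rb (Xf G p) (Of G p) x : Set G), ∃ v ∈ U x y, g = c * v
  lossB : ∀ {x y : Ω}, rb x y → ∀ g ∈ V x,
    ∃ c ∈ V x ⊓ centralizer (Nf ra (Xf G p) (Of G p) x : Set G), ∃ v ∈ U x y, g = c * v

namespace VSys

variable {G : Type*} [Group G] {Ω : Type*} [MulAction G Ω] {p : ℕ} {ra rb : Ω → Ω → Prop}
  {V : Ω → Subgroup G} {U : Ω → Ω → Subgroup G}

/-- exchange the two directions -/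
theorem swap (S : VSys G p ra rb V U) : VSys G p rb ra V U where
  FV := S.FV
  perf := S.perf
  le h := S.le h.symm
  symm h := S.symm h.symm
  norm h := S.norm h.symm
  uperf h := S.uperf h.symm
  cent h := S.cent h.symm
  comp h := S.comp h.symm
  lossA h := S.lossB h
  lossB h := S.lossA h

end VSys

end Cfsg.Agent.R2.T3544
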