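import Cfsg.Agent.R2.T3544.Chief

/-!
# S3544: chief factors, weights and activity are invariant under automorphisms
-/

set_option autoImplicit false

namespace Cfsg.Agent.R2.T3544

open Subgroup
open scoped commutatorElement

variable {G : Type*} [Group G]

theorem mem_normalizer_map_iff (e : G ≃* G) {L : Subgroup G} {y : G} :
    y ∈ normalizer (L.map e.toMonoidHom : Set G) ↔ e.symm y ∈ normalizer (L : Set G) := by
  rw [mem_normalizer_iff, mem_normalizer_iff]
  constructor
  · intro h l
    have h1 := h (e l)
    rw [mem_map_equiv, mem_map_equiv] at h1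
    simpa using h1
  · intro h l
    rw [mem_map_equiv, mem_map_equiv]
    simpa using h (e.symm l)

theorem le_normalizer_map_iff (e : G ≃* G) {O L : Subgroup G} :
    O.map e.toMonoidHom ≤ normalizer (L.map e.toMonoidHom : Set G) ↔ O ≤ normalizer (L : Set G) := by
  constructor
  · intro h g hg
    have h1 := h (mem_map_of_mem e.toMonoidHom hg)
    rw [mem_normalizer_map_iff] at h1
    simpa using h1
  · rintro h _ ⟨g, hg, rfl⟩
    rw [mem_normalizer_map_iff]
    simpa using h hg

theorem CF_map_equiv (e : G ≃* G) (O L H : Subgroup G) :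
    CF (O.map e.toMonoidHom) (L.map e.toMonoidHom) (H.map e.toMonoidHom) = (CF O L H).map e.toMonoidHom := by
  ext y
  rw [mem_map_equiv, mem_CF, mem_CF, mem_map_equiv, mem_normalizer_map_iff]
  refine and_congr_right fun _ => and_congr_right fun _ => ?_
  constructor
  · intro h x hx
    have h1 := h (e x) (mem_map_of_mem e.toMonoidHom hx)
    rw [mem_map_equiv, map_commutatorElement] at h1
    simpa using h1
  · rintro h _ ⟨x, hx, rfl⟩
    rw [mem_map_equiv, map_commutatorElement]
    simpa using h x hx

theorem map_symm_map (e : G ≃* G) (K : Subgroup G) :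
    (K.map e.symm.toMonoidHom).map e.toMonoidHom = K := by
  ext y
  rw [mem_map_equiv, mem_map_equiv]
  simp

theorem Chf.map_equiv (e : G ≃* G) {O L H : Subgroup G} (h : Chf O L H) :
    Chf (O.map e.toMonoidHom) (L.map e.toMonoidHom) (H.map e.toMonoidHom) where
  lt := by
    refine lt_of_le_of_ne (map_mono h.lt.le) fun h1 => h.lt.ne ?_
    exact map_injective (f := e.toMonoidHom) e.injective h1
  le := map_mono h.le
  nL := (le_normalizer_map_iff e).2 h.nL
  nH := (le_normalizer_map_iff e).2 h.nH
  min M h1 h2 h3 := by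
    have e1 := map_symm_map e M
    rw [← e1] at h1 h2 h3 ⊢
    rw [le_normalizer_map_iff] at h1
    rw [map_le_map_iff_of_injective e.injective] at h2 h3
    rcases h.min _ h1 h2 h3 with h4 | h4
    · left; rw [h4]
    · right; rw [h4]

theorem wt_map_equiv (e : G ≃* G) (O L H : Subgroup G) :
    wt (O.map e.toMonoidHom) (L.map e.toMonoidHom) (H.map e.toMonoidHom) = wt O L H := by
  have h1 : ⁅H.map e.toMonoidHom, H.map e.toMonoidHom⁆ ≤ L.map e.toMonoidHom ↔ ⁅H, H⁆ ≤ L := by
    rw [← map_commutator, map_le_map_iff_of_injective e.injective]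
  have h2 : (CF (O.map e.toMonoidHom) (L.map e.toMonoidHom) (H.map e.toMonoidHom)).relIndex (O.map e.toMonoidHom) =
      (CF O L H).relIndex O := by
    rw [CF_map_equiv]
    exact relIndex_map_map_of_injective _ _ e.injective
  unfold wt
  rw [h2]
  by_cases h : ⁅H, H⁆ ≤ L
  · rw [if_pos h, if_pos (h1.2 h)]
  · rw [if_neg h, if_neg fun h' => h (h1.1 h')]

theorem Act.map_equiv (e : G ≃* G) {d : ℕ} {L H : Subgroup G} (h : Act d L H) :
    Act d (L.map e.toMonoidHom) (H.map e.toMonoidHom) := by
  unfold Act at h ⊢
  rwa [relIndex_map_map_of_injective _ _ (f := e.toMonoidHom) e.injective]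

end Cfsg.Agent.R2.T3544
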