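import Cfsg.Agent.R2.T3544.SolNL
import Cfsg.Agent.R2.T3544.ChfConj

/-!
# S3544, case NL with arbitrary `O(x)`: the final assembly (proof by helper1, helper10)

Coprime functors `X` (soluble), `O` (arbitrary), both nontrivial, `O(x) ∩ G_y ≤ O(y)` for
neighbours: impossible.
-/

set_option autoImplicit false
set_option linter.unusedSectionVars false

namespace Cfsg.Agent.R2.T3544

open Subgroup Cfsg MulAction
open scoped commutatorElement

/-- the hypotheses: coprime functors `X`, `O` with `X` soluble and `O(x) ∩ G_y ≤ O(y)` for neighbours -/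
structure XU (G : Type*) [Group G] {Ω : Type*} [MulAction G Ω] (r : Ω → Ω → Prop) (X O : Ω → Subgroup G) : Prop where
  FX : Fun G X
  FO : Fun G O
  X1 : ∀ x, X x ≠ ⊥
  O1 : ∀ x, O x ≠ ⊥
  cop : ∀ x y, (Nat.card (X x)).Coprime (Nat.card (O y))
  sol : ∀ x, Group.IsSolvable (X x)
  nb : ∀ {x y}, r x y → X y ≤ stabilizer G x
  sh : ∀ {x y}, r x y → O x ⊓ stabilizer G y ≤ O y

section

variable {G : Type*} [Group G] [Finite G] {Ω : Type*} [MulAction G Ω]

variable {ra rb : Ω → Ω → Prop} {da db : ℕ} {X O : Ω → Subgroup G}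

theorem XU.norm {r : Ω → Ω → Prop} (h : XU G r X O) {x y : Ω} (hy : r x y) : X y ≤ normalizer (O x : Set G) :=
  (h.nb hy).trans (h.FO.norm x)

theorem XU.inf_bot {r : Ω → Ω → Prop} (h : XU G r X O) (x y : Ω) : O x ⊓ X y = ⊥ := by
  rw [inf_comm]
  exact (disjoint_of_coprime_natCard (h.cop y x)).eq_bot

/-- `O(x) ∩ G_y` centralises `X(y)` -/
theorem XU.comm {r : Ω → Ω → Prop} (h : XU G r X O) {x y : Ω} (hy : r x y) :
    ⁅O x ⊓ stabilizer G y, X y⁆ = ⊥ := by
  rw [eq_bot_iff, ← h.inf_bot x y]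
  refine le_inf ?_ ?_
  · exact (commutator_mono inf_le_left le_rfl).trans
      (le_normalizer_iff_commutator_le_left.1 (h.norm hy))
  · exact (commutator_mono inf_le_right le_rfl).trans
      (le_normalizer_iff_commutator_le_right.1 (h.FX.norm y))

theorem XU.cent_le {r : Ω → Ω → Prop} (P : PP G Ω) (h : XU G r X O) (y : Ω) :
    centralizer (X y : Set G) ≤ stabilizer G y := h.FX.centralizer_le P (h.X1 y)

/-- `C_{O(x)}(X(y)) = O(x) ∩ G_y` -/
theorem XU.inf_cent {r : Ω → Ω → Prop} (P : PP G Ω) (h : XU G r X O) {x y : Ω} (hy : r x y) :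
    O x ⊓ centralizer (X y : Set G) = O x ⊓ stabilizer G y := by
  refine le_antisymm (inf_le_inf_left _ (h.cent_le P y)) (le_inf inf_le_left ?_)
  exact commutator_eq_bot_iff_le_centralizer.1 (h.comm hy)

theorem XU.inf_cent' {r : Ω → Ω → Prop} {d : ℕ} (P : PP G Ω) (D : Dir G r d) (h : XU G r X O) {x y : Ω}
    (hy : r x y) : O x ⊓ centralizer (X y : Set G) = O x ⊓ O y := by
  rw [h.inf_cent P hy]
  exact le_antisymm (le_inf inf_le_left (h.sh hy)) (inf_le_inf_left _ (h.FO.le y))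

/-- the factorization of `O(x)` -/
theorem XU.sup {r : Ω → Ω → Prop} (h : XU G r X O) {x y : Ω} (hy : r x y) :
    ⁅O x, X y⁆ ⊔ (O x ⊓ centralizer (X y : Set G)) = O x :=
  S0026.result (X y) (O x) (h.norm hy) (h.cop y x) (Or.inl (h.sol y))

theorem XU.fac {r : Ω → Ω → Prop} {d : ℕ} (P : PP G Ω) (D : Dir G r d) (h : XU G r X O) {x y : Ω} (hy : r x y)
    {g : G} (hg : g ∈ O x) : ∃ n ∈ Nf r X O x, ∃ o ∈ O x ⊓ O y, g = n * o := by
  have h2 : O x ⊓ centralizer (X y : Set G) ≤ normalizer ((⁅O x, X y⁆ : Subgroup G) : Set G) :=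
    inf_le_left.trans (normalizer_commutator_ge_left (O x) (X y))
  rw [← h.sup hy] at hg
  obtain ⟨n, hn, o, ho, rfl⟩ := exists_mul_of_mem_sup h2 hg
  rw [h.inf_cent' P D hy] at ho
  exact ⟨n, le_Nf hy hn, o, ho, rfl⟩

theorem XU.Nf_le_O {r : Ω → Ω → Prop} (h : XU G r X O) (x : Ω) : Nf r X O x ≤ O x :=
  Nf_le fun _ hy => le_normalizer_iff_commutator_le_left.1 (h.norm hy)

theorem XU.FN {r : Ω → Ω → Prop} {d : ℕ} (D : Dir G r d) (h : XU G r X O) : Fun G (Nf r X O) :=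
  Fun.of_map_le (fun x => (h.Nf_le_O x).trans (h.FO.le x))
    (Nf_map_le h.FX h.FO fun g {_ _} hxy => D.smul g hxy)

/-- `[O(y), X(x)] ≠ 1` -/
theorem XU.comm_ne_bot {r : Ω → Ω → Prop} {d : ℕ} (P : PP G Ω) (D : Dir G r d) (h : XU G r X O) {x y : Ω}
    (hy : r x y) : ⁅O x, X y⁆ ≠ ⊥ := by
  intro h1
  refine h.FO.not_le P D hy (h.O1 x) ?_
  have h2 := h.sup hy
  rw [h1, bot_sup_eq, h.inf_cent' P D hy] at h2
  rw [← h2]
  exact inf_le_right

/-- `N_a(x) ≤ M_b(x)` -/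
theorem XU.Nf_le_Mk (B : Dir G rb db) (ha : XU G ra X O) (hma : ∀ {x y : Ω}, ra x y → X y ≤ Mk G rb x) (x : Ω) :
    Nf ra X O x ≤ Mk G rb x :=
  Nf_le fun _ hy => (commutator_mono le_rfl (hma hy)).trans
    (le_normalizer_iff_commutator_le_right.1 ((ha.FO.le x).trans (B.Mk_norm x)))

/-- `[N_b(x), N_a(x)] = 1` -/
theorem XU.Nf_comm (A : Dir G ra da) (B : Dir G rb db) (ha : XU G ra X O) (hb : XU G rb X O)
    (hma : ∀ {x y : Ω}, ra x y → X y ≤ Mk G rb x) (x : Ω) : ⁅Nf rb X O x, Nf ra X O x⁆ = ⊥ := by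
  rw [commutator_eq_bot_iff_le_centralizer]
  refine Nf_le fun w hw => ?_
  rw [← commutator_eq_bot_iff_le_centralizer]
  have h1 : ⁅Nf ra X O x, X w⁆ = ⊥ := by
    rw [eq_bot_iff, ← hb.comm hw]
    exact commutator_mono (le_inf (ha.Nf_le_O x) ((ha.Nf_le_Mk B hma x).trans (Mk_le_nbr hw))) le_rfl
  apply commutator_commutator_eq_bot_of_rotate
  · rw [commutator_comm (X w), h1, commutator_bot_left]
  · rw [eq_bot_iff, ← h1]
    refine commutator_mono ?_ le_rfl
    exact le_normalizer_iff_commutator_le_left.1 ((ha.FO.le x).trans ((ha.FN A).norm x))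

/-- the index of `C_{O(y)}(X(x))` in `O(y)` divides `d` -/
theorem XU.idx {r : Ω → Ω → Prop} {d : ℕ} (P : PP G Ω) (D : Dir G r d) (h : XU G r X O) {x y : Ω} (hy : r x y) :
    (O x ⊓ centralizer (X y : Set G)).relIndex (O x) ∣ d := by
  rw [h.inf_cent P hy, inf_comm, inf_relIndex_right, ← D.idx hy]
  exact (SubnIn.of_normal (h.FO.le x) (h.FO.norm x)).relIndex_dvd (stabilizer G y)

end

/-! ### The statements used -/

/-- Lemma D -/
def LemDStmt (G : Type*) [Group G] : Prop :=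
  ∀ {O X N2 L H : Subgroup G} {d1 d2 : ℕ}, X ≤ normalizer (O : Set G) → (Nat.card X).Coprime (Nat.card O) →
    Group.IsSolvable X → (O ⊓ centralizer (X : Set G)).relIndex O ∣ d1 → d1.Coprime d2 →
    N2 ≤ O ⊓ centralizer (X : Set G) → O ⊓ centralizer (X : Set G) ≤ normalizer (N2 : Set G) →
    Chf (O ⊓ centralizer (X : Set G)) L H → N2 ⊓ centralizer ((⁅O, X⁆ : Subgroup G) : Set G) ≤ L → H ≤ N2 →
    Act d2 L H → ∃ M' M1, Chf O M' M1 ∧ M1 ≤ ⁅O, X⁆ ∧ Act d1 M' M1 ∧ wt (O ⊓ centralizer (X : Set G)) L H < wt O M' M1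

/-- C1: the residual -/
def ResidStmt (G : Type*) [Group G] : Prop :=
  ∀ {O N2 : Subgroup G} (d r : ℕ), O ≤ normalizer (N2 : Set G) → N2 ≤ O →
    ∃ R : Subgroup G, R ≤ N2 ∧ O ≤ normalizer (R : Set G) ∧
      (∀ L H, Chf O L H → R ≤ L → H ≤ N2 → Act d L H → wt O L H ≠ r) ∧
      ∀ R' : Subgroup G, R' ≤ N2 → O ≤ normalizer (R' : Set G) →
        (∀ L H, Chf O L H → R' ≤ L → H ≤ N2 → Act d L H → wt O L H ≠ r) → R ≤ R'

/-- C2: change of the acting group -/
def CoverStmt (G : Type*) [Group G] : Prop :=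
  ∀ {O A N2 : Subgroup G}, A ≤ O → N2 ≤ A → (∀ g ∈ O, ∃ n ∈ O ⊓ centralizer (N2 : Set G), ∃ a ∈ A, g = n * a) →
    ∀ {L H : Subgroup G}, L ≤ N2 → H ≤ N2 → Chf O L H → Chf A L H ∧ wt A L H = wt O L H

/-- (Top): there is an active chief factor -/
def TopStmt (G : Type*) [Group G] : Prop :=
  ∀ {O X : Subgroup G} {d : ℕ}, X ≤ normalizer (O : Set G) → (Nat.card X).Coprime (Nat.card O) →
    Group.IsSolvable X → (O ⊓ centralizer (X : Set G)).relIndex O ∣ d → ⁅O, X⁆ ≠ ⊥ →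
    ∃ L H, Chf O L H ∧ H ≤ ⁅O, X⁆ ∧ Act d L H

section

variable {G : Type*} [Group G] [Finite G] {Ω : Type*} [MulAction G Ω]

variable {ra rb : Ω → Ω → Prop} {da db : ℕ} {X O : Ω → Subgroup G}

/-- `N_b(x) ≤ O(x) ∩ O(y)` for `y ~_a x` -/
theorem XU.Nf_le_inf (P : PP G Ω) (A : Dir G ra da) (ha : XU G ra X O) (hb : XU G rb X O)
    (hmb : ∀ {x y : Ω}, rb x y → X y ≤ Mk G ra x) {x y : Ω} (hy : ra x y) : Nf rb X O x ≤ O x ⊓ O y :=
  le_inf (hb.Nf_le_O x) ((le_inf (hb.Nf_le_O x) ((hb.Nf_le_Mk A hmb x).trans (Mk_le_nbr hy))).trans (ha.sh hy))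

/-- the main step: a chief factor of `N_b(x)` not centralised by `[O(y), X(x)]` has smaller weight than one in `N_a(y)` -/
theorem XU.step (LD : LemDStmt G) (CV : CoverStmt G) (P : PP G Ω) (A : Dir G ra da) (B : Dir G rb db)
    (hc : da.Coprime db) (ha : XU G ra X O) (hb : XU G rb X O)
    (hma : ∀ {x y : Ω}, ra x y → X y ≤ Mk G rb x) (hmb : ∀ {x y : Ω}, rb x y → X y ≤ Mk G ra x)
    {x y : Ω} (hy : ra x y) {L H : Subgroup G} (hC : Chf (O x) L H)
    (hL : Nf rb X O x ⊓ centralizer ((⁅O y, X x⁆ : Subgroup G) : Set G) ≤ L) (hH : H ≤ Nf rb X O x)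
    (hact : Act db L H) :
    ∃ M' M1, Chf (O y) M' M1 ∧ M1 ≤ Nf ra X O y ∧ Act da M' M1 ∧ wt (O x) L H < wt (O y) M' M1 := by
  have hyx := A.symm hy
  have hAe : O y ⊓ centralizer (X x : Set G) = O x ⊓ O y := by rw [ha.inf_cent' P A hyx, inf_comm]
  have hN2 := XU.Nf_le_inf P A ha hb hmb hy
  have hcov : ∀ g ∈ O x, ∃ n ∈ O x ⊓ centralizer (Nf rb X O x : Set G), ∃ a ∈ O x ⊓ O y, g = n * a := by
    intro g hg
    obtain ⟨n, hn, o, ho, e⟩ := ha.fac P A hy hg
    refine ⟨n, ⟨ha.Nf_le_O x hn, ?_⟩, o, ho, e⟩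
    have h1 := XU.Nf_comm A B ha hb hma x
    rw [commutator_comm] at h1
    exact commutator_eq_bot_iff_le_centralizer.1 h1 hn
  obtain ⟨h1, h2⟩ := CV inf_le_left hN2 hcov (hC.lt.le.trans hH) hH hC
  rw [← hAe] at h1 h2 hN2
  have hnorm : O y ⊓ centralizer (X x : Set G) ≤ normalizer (Nf rb X O x : Set G) := by
    rw [hAe]
    exact inf_le_left.trans ((hb.FO.le x).trans ((hb.FN B).norm x))
  obtain ⟨M', M1, k1, k2, k3, k4⟩ := LD (ha.norm hyx) (ha.cop x y) (ha.sol x) (ha.idx P A hyx) hc hN2 hnorm h1 hL hH hact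
  exact ⟨M', M1, k1, k2.trans (le_Nf hyx), k3, h2 ▸ k4⟩

/-- the contradiction when the largest weight is attained in `N_b(x)` -/
theorem XU.false_of_max (LD : LemDStmt G) (CV : CoverStmt G) (RS : ResidStmt G) (P : PP G Ω) (A : Dir G ra da)
    (B : Dir G rb db) (hc : da.Coprime db) (ha : XU G ra X O) (hb : XU G rb X O)
    (hma : ∀ {x y : Ω}, ra x y → X y ≤ Mk G rb x) (hmb : ∀ {x y : Ω}, rb x y → X y ≤ Mk G ra x)
    {r : ℕ} {x : Ω} {L₀ H₀ : Subgroup G} (h₀ : Chf (O x) L₀ H₀) (h₀N : H₀ ≤ Nf rb X O x) (h₀a : Act db L₀ H₀)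
    (h₀w : wt (O x) L₀ H₀ = r)
    (hmax : ∀ (y : Ω) (L H : Subgroup G), Chf (O y) L H → H ≤ Nf ra X O y → Act da L H → wt (O y) L H ≤ r) :
    False := by
  have hOn : O x ≤ normalizer (Nf rb X O x : Set G) := (hb.FO.le x).trans ((hb.FN B).norm x)
  obtain ⟨R, hR1, hR2, hR3, hR4⟩ := RS db r hOn (hb.Nf_le_O x)
  have hRne : R ≠ ⊥ := by
    rintro rfl
    exact hR3 L₀ H₀ h₀ bot_le h₀N h₀a h₀w
  have hRx : R ≤ stabilizer G x := hR1.trans ((hb.Nf_le_O x).trans (hb.FO.le x))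
  have hRn : stabilizer G x ≤ normalizer (R : Set G) := by
    have key : ∀ g ∈ stabilizer G x, R ≤ R.map (MulAut.conj g).toMonoidHom := by
      intro g hg
      have eO : (O x).map (MulAut.conj g).toMonoidHom = O x := by
        rw [← hb.FO.smul, mem_stabilizer_iff.1 hg]
      have eN : (Nf rb X O x).map (MulAut.conj g).toMonoidHom = Nf rb X O x := by
        rw [← (hb.FN B).smul, mem_stabilizer_iff.1 hg]
      refine hR4 _ ?_ ?_ ?_
      · rw [← eN]
        exact map_mono hR1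
      · rw [← eO]
        exact (le_normalizer_map_iff (MulAut.conj g)).2 hR2
      · intro L H hC hRL hH hact hw
        have eO' : (O x).map (MulAut.conj g).symm.toMonoidHom = O x := by
          conv_lhs => rw [← eO]
          rw [map_map]
          have : (MulAut.conj g).symm.toMonoidHom.comp (MulAut.conj g).toMonoidHom = MonoidHom.id G := by
            ext t; simp
          rw [this, map_id]
        have eN' : (Nf rb X O x).map (MulAut.conj g).symm.toMonoidHom = Nf rb X O x := by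
          conv_lhs => rw [← eN]
          rw [map_map]
          have : (MulAut.conj g).symm.toMonoidHom.comp (MulAut.conj g).toMonoidHom = MonoidHom.id G := by
            ext t; simp
          rw [this, map_id]
        have eR' : (R.map (MulAut.conj g).toMonoidHom).map (MulAut.conj g).symm.toMonoidHom = R := by
          rw [map_map]
          have : (MulAut.conj g).symm.toMonoidHom.comp (MulAut.conj g).toMonoidHom = MonoidHom.id G := by
            ext t; simp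
          rw [this, map_id]
        have h1 := hC.map_equiv (MulAut.conj g).symm
        have h2 := wt_map_equiv (MulAut.conj g).symm (O x) L H
        rw [eO'] at h1 h2
        refine hR3 _ _ h1 ?_ ?_ (hact.map_equiv (MulAut.conj g).symm) (h2.trans hw)
        · rw [← eR']
          exact map_mono hRL
        · rw [← eN']
          exact map_mono hH
    refine le_normalizer_of_map_le fun g hg => ?_
    have h1 := map_mono (f := (MulAut.conj g).toMonoidHom) (key g⁻¹ ((stabilizer G x).inv_mem hg))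
    have h2 := map_map_conj_inv R g⁻¹
    rw [inv_inv] at h2
    rwa [h2] at h1
  obtain ⟨y, hy⟩ := A.ex x
  have hyx := A.symm hy
  have hRC : R ≤ Nf rb X O x ⊓ centralizer ((⁅O y, X x⁆ : Subgroup G) : Set G) := by
    refine hR4 _ inf_le_left ?_ ?_
    · intro g hg
      obtain ⟨n, hn, o, ho, rfl⟩ := ha.fac P A hy hg
      refine mul_mem ?_ ?_
      · have h1 := XU.Nf_comm A B ha hb hma x
        rw [commutator_comm] at h1
        have h2 := commutator_eq_bot_iff_le_centralizer.1 h1 hn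
        exact cent_le_norm _ (centralizer_le (fun t ht => (mem_inf.1 ht).1) h2)
      · have h1 : o ∈ normalizer (Nf rb X O x : Set G) := hOn ho.1
        have h2 : o ∈ normalizer ((⁅O y, X x⁆ : Subgroup G) : Set G) := normalizer_commutator_ge_left _ _ ho.2
        rw [mem_normalizer_iff] at h1 h2 ⊢
        intro t
        have key : ∀ {o t : G}, (∀ s, s ∈ ⁅O y, X x⁆ ↔ o * s * o⁻¹ ∈ ⁅O y, X x⁆) →
            t ∈ centralizer ((⁅O y, X x⁆ : Subgroup G) : Set G) →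
            o * t * o⁻¹ ∈ centralizer ((⁅O y, X x⁆ : Subgroup G) : Set G) := by
          intro o t h ht
          rw [mem_centralizer_iff] at ht ⊢
          intro s hs
          have h3 : o⁻¹ * s * o ∈ ⁅O y, X x⁆ := by
            rw [h]
            have e : o * (o⁻¹ * s * o) * o⁻¹ = s := by group
            rw [e]
            exact hs
          have h4 := ht _ h3
          calc s * (o * t * o⁻¹) = o * ((o⁻¹ * s * o) * t) * o⁻¹ := by group
            _ = o * (t * (o⁻¹ * s * o)) * o⁻¹ := by rw [h4]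
            _ = o * t * o⁻¹ * s := by group
        constructor
        · rintro ⟨ht1, ht2⟩
          exact ⟨(h1 t).1 ht1, key h2 ht2⟩
        · rintro ⟨ht1, ht2⟩
          refine ⟨(h1 t).2 ht1, ?_⟩
          have h3 : ∀ s, s ∈ ⁅O y, X x⁆ ↔ o⁻¹ * s * o⁻¹⁻¹ ∈ ⁅O y, X x⁆ := by
            intro s
            rw [h2 (o⁻¹ * s * o⁻¹⁻¹)]
            have e : o * (o⁻¹ * s * o⁻¹⁻¹) * o⁻¹ = s := by group
            rw [e]
          have h4 := key h3 ht2
          have e : o⁻¹ * (o * t * o⁻¹) * o⁻¹⁻¹ = t := by group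
          rwa [e] at h4
    · intro L H hC hCL hH hact hw
      obtain ⟨M', M1, k1, k2, k3, k4⟩ := XU.step LD CV P A B hc ha hb hma hmb hy hC hCL hH hact
      have := hmax y M' M1 k1 k2 k3
      omega
  -- `O(y) ≤ G_x`
  have hcen : ⁅O y, X x⁆ ≤ stabilizer G x := by
    have h1 : ⁅O y, X x⁆ ≤ centralizer (R : Set G) := le_centralizer_iff.1 (hRC.trans inf_le_right)
    exact h1.trans ((cent_le_norm R).trans (P.norm x R hRx hRne hRn))
  have hOy : O y ≤ stabilizer G x := by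
    rw [← ha.sup hyx]
    exact sup_le hcen (inf_le_right.trans (ha.cent_le P x))
  exact ha.FO.not_le P A hyx (ha.O1 y) ((le_inf le_rfl hOy).trans (ha.sh hyx))

theorem wt_le (O L H : Subgroup G) : wt O L H ≤ 2 * Nat.card G + 1 := by
  unfold wt
  have h1 : (CF O L H).relIndex O ≤ Nat.card G :=
    (Nat.le_of_dvd Nat.card_pos (relIndex_dvd_card _ _)).trans (card_le_card_group O)
  split_ifs <;> omega

theorem false_of_XU [Nonempty Ω] (LD : LemDStmt G) (CV : CoverStmt G) (RS : ResidStmt G) (TS : TopStmt G)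
    (P : PP G Ω) (A : Dir G ra da) (B : Dir G rb db) (hc : da.Coprime db) (ha : XU G ra X O) (hb : XU G rb X O)
    (hma : ∀ {x y : Ω}, ra x y → X y ≤ Mk G rb x) (hmb : ∀ {x y : Ω}, rb x y → X y ≤ Mk G ra x) : False := by
  classical
  let S : Set ℕ := {n | (∃ (x : Ω) (L H : Subgroup G), Chf (O x) L H ∧ H ≤ Nf ra X O x ∧ Act da L H ∧ wt (O x) L H = n) ∨
    ∃ (x : Ω) (L H : Subgroup G), Chf (O x) L H ∧ H ≤ Nf rb X O x ∧ Act db L H ∧ wt (O x) L H = n}
  have hne : S.Nonempty := by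
    have x : Ω := Classical.arbitrary Ω
    obtain ⟨y, hy⟩ := A.ex x
    obtain ⟨L, H, h1, h2, h3⟩ := TS (ha.norm hy) (ha.cop y x) (ha.sol y) (ha.idx P A hy) (ha.comm_ne_bot P A hy)
    exact ⟨_, Or.inl ⟨x, L, H, h1, h2.trans (le_Nf hy), h3, rfl⟩⟩
  have hbd : BddAbove S := by
    refine ⟨2 * Nat.card G + 1, ?_⟩
    rintro n (⟨x, L, H, -, -, -, rfl⟩ | ⟨x, L, H, -, -, -, rfl⟩) <;> exact wt_le _ _ _
  have hmem := Nat.sSup_mem hne hbd
  have hle : ∀ n ∈ S, n ≤ sSup S := fun n hn => le_csSup hbd hn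
  rcases hmem with ⟨x, L, H, h1, h2, h3, h4⟩ | ⟨x, L, H, h1, h2, h3, h4⟩
  · exact XU.false_of_max LD CV RS P B A hc.symm hb ha hmb hma h1 h2 h3 h4 fun y L' H' k1 k2 k3 =>
      hle _ (Or.inr ⟨y, L', H', k1, k2, k3, rfl⟩)
  · exact XU.false_of_max LD CV RS P A B hc ha hb hma hmb h1 h2 h3 h4 fun y L' H' k1 k2 k3 =>
      hle _ (Or.inl ⟨y, L', H', k1, k2, k3, rfl⟩)

/-- coprime functors `X`, `O`, both nontrivial, `X` soluble, `O(x) ∩ G_y ≤ O(y)`: impossible -/
theorem false_of_functorsU [Nonempty Ω] (LD : LemDStmt G) (CV : CoverStmt G) (RS : ResidStmt G) (TS : TopStmt G)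
    (P : PP G Ω) (A : Dir G ra da) (B : Dir G rb db) (hc : da.Coprime db)
    (FX : Fun G X) (FO : Fun G O) (X1 : ∀ x, X x ≠ ⊥) (O1 : ∀ x, O x ≠ ⊥)
    (cop : ∀ x y, (Nat.card (X x)).Coprime (Nat.card (O y)))
    (hXa : ∀ x, (Nat.card (X x)).Coprime da) (hXb : ∀ x, (Nat.card (X x)).Coprime db)
    (sol : ∀ x, Group.IsSolvable (X x))
    (sha : ∀ {x y : Ω}, ra x y → O x ⊓ stabilizer G y ≤ O y)
    (shb : ∀ {x y : Ω}, rb x y → O x ⊓ stabilizer G y ≤ O y) : False := by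
  have hsub : ∀ x, SubnIn (X x) (stabilizer G x) := fun x => SubnIn.of_normal (FX.le x) (FX.norm x)
  have hna : ∀ x, ¬ HasIdx (X x) da := fun x => not_hasIdx_of_card_dvd dvd_rfl (hXa x)
  have hnb : ∀ x, ¬ HasIdx (X x) db := fun x => not_hasIdx_of_card_dvd dvd_rfl (hXb x)
  have h1 : ∀ {x y : Ω}, ra x y → X y ≤ stabilizer G x := fun {x y} hxy =>
    (A.le_Mk_of_subn (hsub y) (hna y)).trans (Mk_le_nbr (A.symm hxy))
  have h2 : ∀ {x y : Ω}, rb x y → X y ≤ stabilizer G x := fun {x y} hxy =>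
    (B.le_Mk_of_subn (hsub y) (hnb y)).trans (Mk_le_nbr (B.symm hxy))
  have h3 : ∀ {x y : Ω}, ra x y → X y ≤ Mk G rb x := fun {x y} hxy =>
    A.le_Mk_of_subn' B hc hxy (hsub y) (h1 hxy) (hnb y)
  have h4 : ∀ {x y : Ω}, rb x y → X y ≤ Mk G ra x := fun {x y} hxy =>
    B.le_Mk_of_subn' A hc.symm hxy (hsub y) (h2 hxy) (hna y)
  exact false_of_XU LD CV RS TS P A B hc ⟨FX, FO, X1, O1, cop, sol, h1, sha⟩ ⟨FX, FO, X1, O1, cop, sol, h2, shb⟩ h3 h4

end

end Cfsg.Agent.R2.T3544
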