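import Cfsg.Agent.R2.T3544.NLendIn
import Cfsg.Agent.R2.T3544.NLVdef
import Cfsg.Agent.R2.T3544.LemE4
import Cfsg.Agent.R2.T3544.ResFun
import Cfsg.Agent.R2.T3544.NLc

/-!
# S3544, case NL with components: no active chief factor of `V x` in `[N_b(x), V x]` (part (f))
-/

set_option autoImplicit false
set_option linter.unusedSectionVars false

namespace Cfsg.Agent.R2.T3544

open Subgroup Cfsg MulAction
open scoped commutatorElement

/-- central factors have weight at most 3 -/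
theorem wt_le_three {G : Type*} [Group G] {O L H : Subgroup G} (hL : O ≤ normalizer (L : Set G)) (h : ⁅H, O⁆ ≤ L) :
    wt O L H ≤ 3 := by
  have h1 : CF O L H = O := le_antisymm (CF_le _ _ _) (le_CF le_rfl hL (by rwa [commutator_comm]))
  unfold wt
  rw [h1, relIndex_self]
  split_ifs <;> omega

/-- noncentral factors have weight at least 4 -/
theorem four_le_wt {G : Type*} [Group G] [Finite G] {O L H : Subgroup G} (h : ¬ ⁅H, O⁆ ≤ L) : 4 ≤ wt O L H := by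
  have h1 : (CF O L H).relIndex O ≠ 1 := by
    intro h2
    rw [relIndex_eq_one] at h2
    apply h
    rw [commutator_comm]
    exact (commutator_mono h2 le_rfl).trans (CF_comm O L H)
  have h2 : (CF O L H).relIndex O ≠ 0 := index_ne_zero_of_finite
  unfold wt
  omega

namespace VSys

variable {G : Type*} [Group G] [Finite G] {Ω : Type*} [MulAction G Ω] {p : ℕ} [Fact p.Prime]
  {ra rb : Ω → Ω → Prop} {da db : ℕ} {V : Ω → Subgroup G} {U : Ω → Ω → Subgroup G}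

/-- `[N_b(x), V x] ≤ [N_b(x), U x y]` -/
theorem NN_le_comm (S : VSys G p ra rb V U) (h : NLS G p ra rb da db) {x y : Ω} (hxy : ra x y) :
    ⁅Nf rb (Xf G p) (Of G p) x, V x⁆ ≤ ⁅Nf rb (Xf G p) (Of G p) x, U x y⁆ := by
  rw [commutator_le]
  intro n hn g hg
  obtain ⟨c, hc, v, hv, rfl⟩ := S.lossA hxy g hg
  have hcc : ∀ m ∈ Nf rb (Xf G p) (Of G p) x, m * c = c * m := fun m hm => mem_centralizer_iff.1 hc.2 m hm
  have hV : V x ≤ normalizer (Nf rb (Xf G p) (Of G p) x : Set G) := (S.FV.le x).trans (h.symm.FN.norm x)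
  have h1 : ⁅n, v⁆ ∈ Nf rb (Xf G p) (Of G p) x :=
    comm_le_l hV (commutator_mem_commutator hn (S.le (Or.inl hxy) hv))
  have h2 : ⁅n, c * v⁆ = ⁅n, v⁆ := by
    have e : ⁅n, c * v⁆ = n * c * v * n⁻¹ * v⁻¹ * c⁻¹ := by simp only [commutatorElement_def]; group
    have e2 : n * c * v * n⁻¹ * v⁻¹ * c⁻¹ = c * ⁅n, v⁆ * c⁻¹ := by
      rw [hcc n hn]; simp only [commutatorElement_def]; group
    rw [e, e2, ← hcc _ h1, mul_inv_cancel_right]
  rw [h2]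
  exact commutator_mem_commutator hn hv

/-- `[N_b(x), V x] ≤ U x y` -/
theorem NN_le_U (S : VSys G p ra rb V U) (h : NLS G p ra rb da db) {x y : Ω} (hxy : ra x y) :
    ⁅Nf rb (Xf G p) (Of G p) x, V x⁆ ≤ U x y := by
  refine (S.NN_le_comm h hxy).trans (comm_le_r ?_)
  refine le_trans ?_ (S.norm (Or.inl hxy))
  have h1 := h.symm.N_le_inf hxy
  exact le_inf ((h1.trans inf_le_left).trans (Of_fun.le x)) (h1.trans inf_le_right)

theorem NN_le_N (S : VSys G p ra rb V U) (h : NLS G p ra rb da db) (x : Ω) :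
    ⁅Nf rb (Xf G p) (Of G p) x, V x⁆ ≤ Nf rb (Xf G p) (Of G p) x :=
  comm_le_l ((S.FV.le x).trans (h.symm.FN.norm x))

theorem NN_le_V (S : VSys G p ra rb V U) (h : NLS G p ra rb da db) (x : Ω) :
    ⁅Nf rb (Xf G p) (Of G p) x, V x⁆ ≤ V x :=
  comm_le_r ((h.symm.FN.le x).trans (S.FV.norm x))

theorem NN_fun (S : VSys G p ra rb V U) (h : NLS G p ra rb da db) :
    Fun G (fun x => ⁅Nf rb (Xf G p) (Of G p) x, V x⁆) := Fun.commutator h.symm.FN S.FV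

theorem V_norm_NN (S : VSys G p ra rb V U) (h : NLS G p ra rb da db) (x : Ω) :
    V x ≤ normalizer ((⁅Nf rb (Xf G p) (Of G p) x, V x⁆ : Subgroup G) : Set G) :=
  (S.FV.le x).trans ((S.NN_fun h).norm x)

/-- the covering -/
theorem cover (S : VSys G p ra rb V U) (h : NLS G p ra rb da db) {x y : Ω} (hxy : ra x y) :
    ∀ g ∈ V x, ∃ a ∈ U x y, ∃ c ∈ V x ⊓ centralizer ((⁅Nf rb (Xf G p) (Of G p) x, V x⁆ : Subgroup G) : Set G),
      g = a * c := by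
  intro g hg
  obtain ⟨c, hc, v, hv, e⟩ := S.lossA hxy g⁻¹ ((V x).inv_mem hg)
  refine ⟨v⁻¹, (U x y).inv_mem hv, c⁻¹, inv_mem ⟨hc.1, ?_⟩, ?_⟩
  · exact centralizer_le (S.NN_le_N h x) hc.2
  · rw [← inv_inv g, e, mul_inv_rev]

/-- the setting of Lemma E -/
theorem eset (S : VSys G p ra rb V U) (h : NLS G p ra rb da db) {x y : Ω} (hxy : ra x y) :
    ESet (stabilizer G y) (Of G p y) (Xf G p x) (V y) ⁅Of G p y, Xf G p x⁆ (Nf ra (Xf G p) (Of G p) y)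
      (Of G p y ⊓ centralizer (Xf G p x : Set G)) (U x y) ⁅Nf rb (Xf G p) (Of G p) x, V x⁆ da db where
  OY := Of_fun.le y
  nO := Of_fun.norm y
  VY := S.FV.le y
  nV := S.FV.norm y
  N1O := h.N_le_O y
  nN1 := h.FN.norm y
  XY := h.X_le (h.A.symm hxy)
  P_eq := rfl
  PX := h.comm_comm (h.A.symm hxy)
  PN1 := le_Nf (h.A.symm hxy) 
  A_eq := rfl
  idx := h.idx (h.A.symm hxy)
  A'V := by
    rw [S.symm (Or.inl hxy)]
    exact S.le (Or.inl (h.A.symm hxy))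
  A'X := S.cent (Or.inl hxy)
  N2A' := S.NN_le_U h hxy
  nN2 := (S.le (Or.inl hxy)).trans (S.V_norm_NN h x)
  cop := h.hab

/-- the measure step -/
theorem step (S : VSys G p ra rb V U) (h : NLS G p ra rb da db) {x y : Ω} (hxy : ra x y) {L H : Subgroup G}
    (hC : Chf (V x) L H)
    (hL : ⁅Nf rb (Xf G p) (Of G p) x, V x⁆ ⊓ centralizer ((⁅Of G p y, Xf G p x⁆ : Subgroup G) : Set G) ≤ L)
    (hH : H ≤ ⁅Nf rb (Xf G p) (Of G p) x, V x⁆) (hact : Act db L H) :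
    ∃ M' M1, Chf (V y) M' M1 ∧ M1 ≤ ⁅Nf ra (Xf G p) (Of G p) y, V y⁆ ∧ Act da M' M1 ∧ ¬ ⁅M1, V y⁆ ≤ M' ∧
      wt (V x) L H < wt (V y) M' M1 := by
  have hcov := S.cover h hxy
  have h1 : Chf (U x y) L H := (Resid.chf_iff (S.le (Or.inl hxy)) (S.NN_le_U h hxy) hcov hH).2 hC
  have h2 : wt (U x y) L H = wt (V x) L H := Resid.wt_eq (S.le (Or.inl hxy)) hcov hC.lt.le hH
  obtain ⟨M', M1, k1, k2, k3, k4, k5⟩ := lemE (S.eset h hxy) hL h1 hH hact
  exact ⟨M', M1, k1, k2, k3, k4, h2 ▸ k5⟩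

theorem false_of_max (S : VSys G p ra rb V U) (h : NLS G p ra rb da db)
    (hNL : ∀ z : Ω, Of G p z ≠ ⊥ ∨ ∃ J, UC p J (stabilizer G z)) {r : ℕ} {x : Ω} {L₀ H₀ : Subgroup G}
    (h₀ : Chf (V x) L₀ H₀) (h₀N : H₀ ≤ ⁅Nf rb (Xf G p) (Of G p) x, V x⁆) (h₀a : Act db L₀ H₀)
    (h₀w : wt (V x) L₀ H₀ = r)
    (hmax : ∀ (y : Ω) (L H : Subgroup G), Chf (V y) L H → H ≤ ⁅Nf ra (Xf G p) (Of G p) y, V y⁆ → Act da L H →
      ¬ ⁅H, V y⁆ ≤ L → wt (V y) L H ≤ r) : False := by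
  obtain ⟨y, hxy⟩ := h.A.ex x
  have hNV : ∀ z, ⁅Nf rb (Xf G p) (Of G p) z, V z⁆ ≤ V z := S.NN_le_V h
  have hn := S.V_norm_NN h
  have FR : Fun G (fun z => Resid.resW (V z) ⁅Nf rb (Xf G p) (Of G p) z, V z⁆ db r) := Fun.resW S.FV (S.NN_fun h) db r
  have hR1 : Resid.resW (V x) ⁅Nf rb (Xf G p) (Of G p) x, V x⁆ db r ≠ ⊥ :=
    Resid.resW_ne_bot (hNV x) (hn x) h₀ h₀N h₀a h₀w
  have hRN : Resid.resW (V x) ⁅Nf rb (Xf G p) (Of G p) x, V x⁆ db r ≤ ⁅Nf rb (Xf G p) (Of G p) x, V x⁆ :=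
    Resid.resW_le (hn x) db r
  have hVC : V x ≤ normalizer ((⁅Nf rb (Xf G p) (Of G p) x, V x⁆ ⊓
      centralizer ((⁅Of G p y, Xf G p x⁆ : Subgroup G) : Set G) : Subgroup G) : Set G) := by
    intro g hg
    obtain ⟨a, ha, c, hc, rfl⟩ := S.cover h hxy g hg
    refine mul_mem ?_ ?_
    · have hU : U x y ≤ normalizer ((⁅Nf rb (Xf G p) (Of G p) x, V x⁆ ⊓
          centralizer ((⁅Of G p y, Xf G p x⁆ : Subgroup G) : Set G) : Subgroup G) : Set G) := by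
        refine nrm_inf ((S.le (Or.inl hxy)).trans (hn x)) (nrm_centralizer (nrm_comm ?_ ?_))
        · have hUy : U x y ≤ V y := by
            rw [S.symm (Or.inl hxy)]
            exact S.le (Or.inl (h.A.symm hxy))
          exact (hUy.trans (S.FV.le y)).trans (Of_fun.norm y)
        · exact ((S.le (Or.inl hxy)).trans (S.FV.le x)).trans (Xf_fun.norm x)
      exact hU ha
    · exact cent_le_norm _ (centralizer_le (fun t ht => (mem_inf.1 ht).1) hc.2)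
  have hRC : Resid.resW (V x) ⁅Nf rb (Xf G p) (Of G p) x, V x⁆ db r ≤ ⁅Nf rb (Xf G p) (Of G p) x, V x⁆ ⊓
      centralizer ((⁅Of G p y, Xf G p x⁆ : Subgroup G) : Set G) := by
    by_contra hcon
    obtain ⟨L, H, k1, k2, k3, k4, k5⟩ := Resid.exists_of_not_le inf_le_left hVC hcon
    obtain ⟨M', M1, m1, m2, m3, m4, m5⟩ := S.step h hxy k1 k2 k3 k4
    have := hmax y M' M1 m1 m2 m3 m4
    omega
  refine endgame h.P h.A h.pa ucBasic balStmt commNormStmt coreCommStmt h.sch h.X1 hNL hxy FR hR1 ?_ ?_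
  · exact commutator_eq_bot_iff_le_centralizer.2 (hRC.trans inf_le_right)
  · intro J hJ hJm
    exact (commutator_mono (hRN.trans (S.NN_le_U h hxy)) le_rfl).trans (S.comp (Or.inl hxy) J hJ hJm)

end VSys

/-- **(f)**: every chief factor of `V x` inside `[N_b(x), V x]` of order not prime to `d_b` is central -/
theorem NLS.noFac {G : Type*} [Group G] [Finite G] {Ω : Type*} [MulAction G Ω] {p : ℕ} [Fact p.Prime]
    {ra rb : Ω → Ω → Prop} {da db : ℕ} {V : Ω → Subgroup G} {U : Ω → Ω → Subgroup G}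
    (h : NLS G p ra rb da db) (S : VSys G p ra rb V U)
    (hNL : ∀ z : Ω, Of G p z ≠ ⊥ ∨ ∃ J, UC p J (stabilizer G z)) (x : Ω) (L H : Subgroup G)
    (hC : Chf (V x) L H) (hH : H ≤ ⁅Nf rb (Xf G p) (Of G p) x, V x⁆) (hact : Act db L H) : ⁅H, V x⁆ ≤ L := by
  classical
  by_contra hnc
  let T : Set ℕ := {n | (∃ (x : Ω) (L H : Subgroup G), Chf (V x) L H ∧ H ≤ ⁅Nf ra (Xf G p) (Of G p) x, V x⁆ ∧
      Act da L H ∧ ¬ ⁅H, V x⁆ ≤ L ∧ wt (V x) L H = n) ∨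
    ∃ (x : Ω) (L H : Subgroup G), Chf (V x) L H ∧ H ≤ ⁅Nf rb (Xf G p) (Of G p) x, V x⁆ ∧
      Act db L H ∧ ¬ ⁅H, V x⁆ ≤ L ∧ wt (V x) L H = n}
  have hne : T.Nonempty := ⟨_, Or.inr ⟨x, L, H, hC, hH, hact, hnc, rfl⟩⟩
  have hbd : BddAbove T := by
    refine ⟨2 * Nat.card G + 1, ?_⟩
    rintro n (⟨x, L, H, -, -, -, -, rfl⟩ | ⟨x, L, H, -, -, -, -, rfl⟩) <;> exact wt_le _ _ _
  have hmem := Nat.sSup_mem hne hbd
  have hle : ∀ n ∈ T, n ≤ sSup T := fun n hn => le_csSup hbd hn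
  rcases hmem with ⟨x, L, H, h1, h2, h3, -, h5⟩ | ⟨x, L, H, h1, h2, h3, -, h5⟩
  · exact S.swap.false_of_max h.symm hNL h1 h2 h3 h5 fun y L' H' k1 k2 k3 k4 =>
      hle _ (Or.inr ⟨y, L', H', k1, k2, k3, k4, rfl⟩)
  · exact S.false_of_max h hNL h1 h2 h3 h5 fun y L' H' k1 k2 k3 k4 =>
      hle _ (Or.inl ⟨y, L', H', k1, k2, k3, k4, rfl⟩)

end Cfsg.Agent.R2.T3544
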