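import Cfsg.Agent.R2.T3544.NLctx
import Cfsg.Agent.R2.T3544.NLendIn
import Cfsg.Agent.R2.T3544.UBal

/-!
# S3544, case NL with components: no moved `p`-component (box 9)

If no `p`-component of `G_z` is moved by `X(x)`, `x` a neighbour of `z`, then `O(x) ∩ G_z ≤ O(z)`
for all neighbours, and the theorem on coprime functors (or the end game, if `O(x) = 1`) applies.
-/

set_option autoImplicit false
set_option linter.unusedSectionVars false

namespace Cfsg.Agent.R2.T3544

open Subgroup Cfsg MulAction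
open scoped commutatorElement
open Cfsg.Agent.Lib

section

variable {G : Type*} [Group G] [Finite G] {p : ℕ} [hp : Fact p.Prime]

/-- Frattini argument: `[J, X] ≤ O_{p'}(H)` for the `p`-group `X`: `J ≤ O_{p'}(H) N_H(X)`. -/
theorem le_sup_of_comm {H J X : Subgroup G} (hJ : J ≤ H) (hX : X ≤ H) (hXp : IsPGroup p X)
    (hc : ⁅J, X⁆ ≤ OA p H) : J ≤ OA p H ⊔ (H ⊓ normalizer (X : Set G)) := by
  intro g hg
  have h1 : IsPGroup p (X.subgroupOf H) := hXp.of_equiv (subgroupOfEquivOfLe hX).symm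
  obtain ⟨n, hn, hng⟩ := LocalCore.exists_mul_mem_normalizer (G := H) p (pPrimeCore p H) (X.subgroupOf H)
    (Cores.pPrimeCore_coprime p) h1 (g := ⟨g, hJ hg⟩) (by
      intro x hx
      have hx' : (x : G) ∈ X := mem_subgroupOf.1 hx
      have h2 : ⁅g, (x : G)⁆ ∈ OA p H := hc (commutator_mem_commutator hg hx')
      obtain ⟨o, ho, hoe⟩ := h2
      have h3 : (⟨g, hJ hg⟩ : H) * x * (⟨g, hJ hg⟩ : H)⁻¹ = o * x := by
        apply Subtype.ext
        have h4 : (o : G) = g * x * g⁻¹ * (x : G)⁻¹ := hoe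
        simp only [coe_mul, coe_inv]
        rw [h4]
        group
      rw [h3]
      exact mul_mem (mem_sup_right ho) (mem_sup_left hx))
  have h5 : (n : G) * g ∈ normalizer (X : Set G) := by
    rw [mem_normalizer_iff] at hng ⊢
    intro y
    constructor
    · intro hy
      have h6 := (hng ⟨y, hX hy⟩).1 (mem_subgroupOf.2 hy)
      exact mem_subgroupOf.1 h6
    · intro hy
      have hyH : y ∈ H := by
        have h7 : (n : G) * g ∈ H := mul_mem n.2 (hJ hg)
        have h8 := mul_mem (mul_mem (inv_mem h7) (hX hy)) h7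
        have e : ((n : G) * g)⁻¹ * ((n : G) * g * y * ((n : G) * g)⁻¹) * ((n : G) * g) = y := by group
        rwa [e] at h8
      have h6 := (hng ⟨y, hyH⟩).2 (mem_subgroupOf.2 hy)
      exact mem_subgroupOf.1 h6
  have h6 : g = (n : G)⁻¹ * ((n : G) * g) := by group
  rw [h6]
  refine mul_mem (mem_sup_left (inv_mem ⟨n, hn, rfl⟩)) (mem_sup_right ⟨mul_mem n.2 (hJ hg), h5⟩)

end

section

universe u v

variable {G : Type u} [Group G] {Ω : Type v} [MulAction G Ω] {p : ℕ} {ra rb : Ω → Ω → Prop} {da db : ℕ}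
  [Finite G] [Fact p.Prime]

/-- no moved component: `O(x) ∩ G_z ≤ O(z)` -/
theorem NLS.share_of_unmoved (h : NLS G p ra rb da db)
    {x z : Ω} (hxz : ra x z) (hun : ∀ J, UC p J (stabilizer G z) → ⁅J, Xf G p x⁆ ≤ Of G p z) :
    Of G p x ⊓ stabilizer G z ≤ Of G p z := by
  have hXz : Xf G p x ≤ stabilizer G z := h.X_le (h.A.symm hxz)
  obtain ⟨S⟩ : Nonempty (Sylow p (stabilizer G x ⊓ stabilizer G z : Subgroup G)) := inferInstance
  have hSle : (S : Subgroup _).map (stabilizer G x ⊓ stabilizer G z).subtype ≤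
      stabilizer G x ⊓ stabilizer G z := map_subtype_le _
  have hSp : IsPGroup p ((S : Subgroup _).map (stabilizer G x ⊓ stabilizer G z).subtype) := S.isPGroup'.map _
  have hi1 : ¬ p ∣ ((S : Subgroup _).map (stabilizer G x ⊓ stabilizer G z).subtype).relIndex
      (stabilizer G x ⊓ stabilizer G z) := by
    rw [relIndex, subgroupOf, comap_map_eq_self_of_injective (subtype_injective _)]
    exact S.not_dvd_index
  have hi2 : (stabilizer G x ⊓ stabilizer G z).relIndex (stabilizer G z) = da := by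
    rw [inf_relIndex_right]
    exact h.A.idx (h.A.symm hxz)
  have hi : ¬ p ∣ ((S : Subgroup _).map (stabilizer G x ⊓ stabilizer G z).subtype).relIndex (stabilizer G z) := by
    rw [← relIndex_mul_relIndex _ _ _ hSle inf_le_right, hi2]
    intro h'
    rcases (Nat.Prime.dvd_mul Fact.out).1 h' with h' | h'
    · exact hi1 h'
    · exact h.pa h'
  have hDc : (Nat.card (Of G p x ⊓ stabilizer G z : Subgroup G)).Coprime p :=
    Nat.Coprime.coprime_dvd_left (card_dvd_of_le inf_le_left) (Of_cop x)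
  have hnorm : stabilizer G x ⊓ stabilizer G z ≤ normalizer ((Of G p x ⊓ stabilizer G z : Subgroup G) : Set G) :=
    Resid.norm_inf (inf_le_left.trans (Of_fun.norm x)) (inf_le_right.trans le_normalizer)
  refine le_core_of_comm inf_le_right hDc (hSle.trans inf_le_right) hSp hi (hSle.trans hnorm) ?_
  intro J hJ
  refine hJ.comm_of_norm inf_le_right (Or.inr hDc) ?_
  refine (le_sup_of_comm hJ.le hXz (Xf_pgroup x) (hun J hJ)).trans ?_
  refine sup_le_sup_left ?_ _
  refine le_inf inf_le_left ?_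
  refine le_trans ?_ hnorm
  rw [inf_comm]
  exact inf_le_inf_right _ (h.norm_le x)

/-- **no moved component: impossible** -/
theorem NLS.false_of_unmoved [Nonempty Ω] (h : NLS G p ra rb da db)
    (hNL : ∀ z : Ω, Of G p z ≠ ⊥ ∨ ∃ J, UC p J (stabilizer G z))
    (hun : ∀ x z : Ω, (ra x z ∨ rb x z) → ∀ J, UC p J (stabilizer G z) → ⁅J, Xf G p x⁆ ≤ Of G p z) : False := by
  obtain ⟨x⟩ := (inferInstance : Nonempty Ω)
  by_cases hO : Of G p x = ⊥
  · -- `O(x) = 1`
    obtain ⟨y, hxy⟩ : ∃ y, ra x y := h.A.ex x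
    refine endgame h.P h.A h.pa ucBasic (fun h1 h2 h3 h4 h5 => UC.balance h1 h2 h3 h4 h5) commNormStmt coreCommStmt h.sch h.X1 hNL hxy Xf_fun (h.X1 x) ?_ ?_
    · have hOy : OA p (stabilizer G y) = ⊥ := by
        by_contra hcon
        exact (Of_fun (G := G) (Ω := Ω) (p := p)).ne_bot h.P (x := y) hcon x hO
      rw [hOy, commutator_bot_left, commutator_bot_right]
    · intro J hJ hcon
      exact absurd (hun x y (Or.inl hxy) J hJ) hcon
  · have hO1 : ∀ y : Ω, Of G p y ≠ ⊥ := (Of_fun (G := G) (Ω := Ω) (p := p)).ne_bot h.P hO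
    refine false_of_coprime_functors h.P h.A h.B h.hab Xf_fun Of_fun h.X1 hO1 XO_cop h.X_cop h.symm.X_cop
      (fun y => CopLem.solv_of_isPGroup (Xf_pgroup y)) ?_ ?_
    · exact fun {y z} hyz => h.share_of_unmoved hyz (hun y z (Or.inl hyz))
    · exact fun {y z} hyz => h.symm.share_of_unmoved hyz (hun y z (Or.inr hyz))

end

end Cfsg.Agent.R2.T3544
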