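import Cfsg.Agent.R2.T3544.NLfin
import Cfsg.Agent.R2.T3544.NLf
import Cfsg.Agent.R2.T3544.NLun
import Cfsg.Agent.R2.T3544.NLV

/-!
# S3544, case NL: the boxes 6, 7, 9 in place
-/

set_option autoImplicit false

namespace Cfsg.Agent.R2.T3544

open Subgroup MulAction Cfsg

universe u v

section

variable {G : Type u} [Group G] [Finite G] {Ω : Type v} [MulAction G Ω] {p : ℕ} [Fact p.Prime]

theorem exVSysStmt : ExVSysStmt G Ω p := fun h hex => h.exists_VSys hex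

theorem noFacStmt : NoFacStmt G Ω p := fun h S hNL x L H h1 h2 h3 => h.noFac S hNL x L H h1 h2 h3

theorem falseUnmovedStmt [Nonempty Ω] : FalseUnmovedStmt G Ω p := fun h hNL hun => h.false_of_unmoved hNL hun

end

/-- **case NL** modulo box 8 -/
theorem false_of_NL_of' {G : Type u} [Group G] [Finite G] {Ω : Type v} [MulAction G Ω] (P : PP G Ω)
    {r₁ r₂ r₃ : Ω → Ω → Prop} {d₁ d₂ d₃ : ℕ} (D₁ : Dir G r₁ d₁) (D₂ : Dir G r₂ d₂) (D₃ : Dir G r₃ d₃)
    (h12 : d₁.Coprime d₂) (h13 : d₁.Coprime d₃) (h23 : d₂.Coprime d₃) {p : ℕ} (hp : p.Prime)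
    (FV : FalseVSysStmt G Ω p)
    (hsch : ∀ z : Ω, Cfsg.Agent.Schreier.KBalance.SchFactors ↥(stabilizer G z)) (x : Ω)
    (hX : pCore p (stabilizer G x) ≠ ⊥)
    (hC : ¬ centralizer (pCore p (stabilizer G x) : Set (stabilizer G x)) ≤ pCore p (stabilizer G x)) : False :=
  haveI : Fact p.Prime := ⟨hp⟩
  haveI : Nonempty Ω := ⟨x⟩
  false_of_NL_of P D₁ D₂ D₃ h12 h13 h23 hp exVSysStmt noFacStmt FV falseUnmovedStmt hsch x hX hC

end Cfsg.Agent.R2.T3544
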