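import Cfsg.Agent.R2.T3544.Red
import Cfsg.Agent.R2.T3544.FOneMain
import Cfsg.Agent.R2.T3544.NLmain
import Cfsg.Agent.S0044
import Cfsg.Agent.S0000
import Cfsg.Agent.S3545
import Cfsg.Agent.Schreier.Assembly
import Cfsg.Agent.H388.EvenFixAll

/-!
# S3544: the assembly, modulo the local case
-/

set_option autoImplicit false

namespace Cfsg.Agent.R2.T3544

open Subgroup MulAction Cfsg
open Cfsg.Agent.Schreier

universe u v

/-- the composition factors have the Schreier property -/
theorem schFactors_all (X : Type u) [Group X] [Finite X] : KBalance.SchFactors X := by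
  intro H _ N _ h1 h2
  exact Assembly.known (H ⧸ N) h2 Cfsg.Agent.S0000.result

/-- **`F(G_x) = 1` is impossible** -/
theorem false_of_fitting_bot' {G : Type u} [Group G] [Finite G] {Ω : Type v} [MulAction G Ω] (P : PP G Ω)
    {r₁ r₂ r₃ : Ω → Ω → Prop} {d₁ d₂ d₃ : ℕ} (D₁ : Dir G r₁ d₁) (D₂ : Dir G r₂ d₂) (D₃ : Dir G r₃ d₃)
    (h12 : d₁.Coprime d₂) (h13 : d₁.Coprime d₃) (h23 : d₂.Coprime d₃) (x : Ω)
    (hF : fittingSubgroup (stabilizer G x) = ⊥) : False := by
  have hF' : ∀ y : Ω, fittingSubgroup (stabilizer G y) = ⊥ := by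
    intro y
    obtain ⟨e⟩ := P.equiv x y
    rw [Lib.Cores.fittingSubgroup_eq_iSup_pCore, iSup_eq_bot] at hF ⊢
    intro q
    rw [← Lib.Cores.map_equiv_pCore e q, hF q, Subgroup.map_bot]
  have hSch : ∀ (x : Ω) (K : Subgroup G), IsComponentOf K (stabilizer G x) → Schreier.Basic.Sch K := by
    intro x K hK
    have := CompOf.simple (hF' x) hK
    exact Assembly.known K (CompOf.noncomm hK) Cfsg.Agent.S0000.result
  have hNT : ∀ (x : Ω) (K : Subgroup G), IsComponentOf K (stabilizer G x) → H393.NoThree K := by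
    intro x K hK
    have := CompOf.simple (hF' x) hK
    exact Cfsg.Agent.S3545.noThree
  have hev : ∀ (x : Ω) (K : Subgroup G), IsComponentOf K (stabilizer G x) → 2 ∣ Nat.card K := by
    intro x K hK
    have := CompOf.simple (hF' x) hK
    exact (H388.EvenFixAll.even_card (CompOf.noncomm hK)).two_dvd
  have odd : ∀ {d : ℕ}, ¬ 2 ∣ d → Odd d := fun h =>
    Nat.not_even_iff_odd.1 fun h' => h h'.two_dvd
  rcases exists_dir_prime' h12 h13 h23 Nat.prime_two with h' | h' | h'
  · exact false_of_fitting_bot P D₃ D₁ D₂ h13.symm h23.symm h12 (odd h'.1) (odd h'.2) hF' hSch hNT hev x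
  · exact false_of_fitting_bot P D₂ D₁ D₃ h12.symm h23 h13 (odd h'.1) (odd h'.2) hF' hSch hNT hev x
  · exact false_of_fitting_bot P D₁ D₂ D₃ h12 h13 h23 (odd h'.1) (odd h'.2) hF' hSch hNT hev x

/-- **Reduction of S3544** to a faithful action with (P) and three pairwise coprime directions. -/
theorem red'
    (H : ∀ (P Ω : Type v) [Group P] [Finite P] [MulAction P Ω] [Finite Ω] [FaithfulSMul P Ω] [Nonempty Ω],
      PP P Ω → ∀ (r₁ r₂ r₃ : Ω → Ω → Prop) (d₁ d₂ d₃ : ℕ), Dir P r₁ d₁ → Dir P r₂ d₂ → Dir P r₃ d₃ →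
        d₁.Coprime d₂ → d₁.Coprime d₃ → d₂.Coprime d₃ → False)
    {G : Type u} {Ω : Type v} [Group G] [Finite G] [MulAction G Ω] [Finite Ω]
    (hprim : MulAction.IsPreprimitive G Ω) (a b c d : Ω)
    (hb : 2 ≤ Nat.card (MulAction.orbit (MulAction.stabilizer G a) b))
    (hc : 2 ≤ Nat.card (MulAction.orbit (MulAction.stabilizer G a) c))
    (hd : 2 ≤ Nat.card (MulAction.orbit (MulAction.stabilizer G a) d)) :
    ¬ ((Nat.card (MulAction.orbit (MulAction.stabilizer G a) b)).Coprime
          (Nat.card (MulAction.orbit (MulAction.stabilizer G a) c)) ∧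
       (Nat.card (MulAction.orbit (MulAction.stabilizer G a) b)).Coprime
          (Nat.card (MulAction.orbit (MulAction.stabilizer G a) d)) ∧
       (Nat.card (MulAction.orbit (MulAction.stabilizer G a) c)).Coprime
          (Nat.card (MulAction.orbit (MulAction.stabilizer G a) d))) := by
  rintro ⟨h1, h2, h3⟩
  have hnt : Nontrivial Ω := by
    by_contra hcon
    rw [not_nontrivial_iff_subsingleton] at hcon
    have : Nat.card (orbit (stabilizer G a) b) ≤ 1 := Finite.card_le_one_iff_subsingleton.2 inferInstance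
    omega
  have hnea : Nonempty Ω := ⟨a⟩
  have hpr := isPreprimitive_range hprim
  have hpp : PP (MulAction.toPermHom G Ω).range Ω := pp_of_prim hpr
  refine H (MulAction.toPermHom G Ω).range Ω hpp _ _ _ _ _ _
    (dirRel_dir hpp.trans a b (by rw [card_orbit_range]; omega))
    (dirRel_dir hpp.trans a c (by rw [card_orbit_range]; omega))
    (dirRel_dir hpp.trans a d (by rw [card_orbit_range]; omega)) ?_ ?_ ?_
  · rw [card_orbit_range, card_orbit_range]; exact h1
  · rw [card_orbit_range, card_orbit_range]; exact h2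
  · rw [card_orbit_range, card_orbit_range]; exact h3

/-- the local case for non-soluble point stabilizers -/
def LocStmt : Prop :=
  ∀ (G Ω : Type v) [Group G] [Finite G] [MulAction G Ω] [Finite Ω] [FaithfulSMul G Ω], PP G Ω →
    ∀ (r₁ r₂ r₃ : Ω → Ω → Prop) (d₁ d₂ d₃ : ℕ), Dir G r₁ d₁ → Dir G r₂ d₂ → Dir G r₃ d₃ →
      d₁.Coprime d₂ → d₁.Coprime d₃ → d₂.Coprime d₃ → ∀ r : ℕ, r.Prime → ∀ x : Ω,
        ¬ Group.IsSolvable (stabilizer G x) →
        centralizer (pCore r (stabilizer G x) : Set (stabilizer G x)) ≤ pCore r (stabilizer G x) → False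

/-- **S3544 modulo box 8 of NL and the local case** -/
theorem main_of (FV : ∀ (G Ω : Type v) [Group G] [Finite G] [MulAction G Ω] (p : ℕ) [Fact p.Prime],
      FalseVSysStmt G Ω p) (LOC : LocStmt.{v})
    {G : Type u} {Ω : Type v} [Group G] [Finite G] [MulAction G Ω] [Finite Ω]
    (hprim : MulAction.IsPreprimitive G Ω) (a b c d : Ω)
    (hb : 2 ≤ Nat.card (MulAction.orbit (MulAction.stabilizer G a) b))
    (hc : 2 ≤ Nat.card (MulAction.orbit (MulAction.stabilizer G a) c))
    (hd : 2 ≤ Nat.card (MulAction.orbit (MulAction.stabilizer G a) d)) :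
    ¬ ((Nat.card (MulAction.orbit (MulAction.stabilizer G a) b)).Coprime
          (Nat.card (MulAction.orbit (MulAction.stabilizer G a) c)) ∧
       (Nat.card (MulAction.orbit (MulAction.stabilizer G a) b)).Coprime
          (Nat.card (MulAction.orbit (MulAction.stabilizer G a) d)) ∧
       (Nat.card (MulAction.orbit (MulAction.stabilizer G a) c)).Coprime
          (Nat.card (MulAction.orbit (MulAction.stabilizer G a) d))) := by
  refine red' ?_ hprim a b c d hb hc hd
  intro G Ω _ _ _ _ _ hne P r₁ r₂ r₃ d₁ d₂ d₃ D₁ D₂ D₃ h12 h13 h23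
  obtain ⟨x⟩ := hne
  by_cases hF : fittingSubgroup (stabilizer G x) = ⊥
  · exact false_of_fitting_bot' P D₁ D₂ D₃ h12 h13 h23 x hF
  obtain ⟨p, hp, hX⟩ : ∃ p : ℕ, p.Prime ∧ pCore p (stabilizer G x) ≠ ⊥ := by
    by_contra hcon
    push Not at hcon
    apply hF
    rw [Lib.Cores.fittingSubgroup_eq_iSup_pCore, iSup_eq_bot]
    exact fun q => hcon q q.2
  by_cases hC : centralizer (pCore p (stabilizer G x) : Set (stabilizer G x)) ≤ pCore p (stabilizer G x)
  · by_cases hs : Group.IsSolvable (stabilizer G x)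
    · exact false_of_sol_LOC P D₁ D₂ D₃ h12 h13 h23 hp x hs hC
    · exact LOC G Ω P r₁ r₂ r₃ d₁ d₂ d₃ D₁ D₂ D₃ h12 h13 h23 p hp x hs hC
  · have : Fact p.Prime := ⟨hp⟩
    exact false_of_NL_of' P D₁ D₂ D₃ h12 h13 h23 hp (FV G Ω p) (fun z => schFactors_all _) x hX hC

end Cfsg.Agent.R2.T3544
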