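import Mathlib

/-!
# S3544: chief factors `(L, H)` of `O` inside `O`, as pairs of subgroups of one group

`CF O L H`: the elements of `O` (normalising `L`) which centralise `H/L`.
`Chf O L H`: `H/L` is a chief factor of `O`, `H ≤ O`.
`wt O L H = 2 |O : C_O(H/L)| + (1 if H/L is abelian)`.
-/

set_option autoImplicit false

namespace Cfsg.Agent.R2.T3544

open Subgroup
open scoped commutatorElement

variable {G : Type*} [Group G]

/-- the centraliser in `O` of the factor `H/L` -/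
def CF (O L H : Subgroup G) : Subgroup G where
  carrier := {g | g ∈ O ∧ g ∈ normalizer (L : Set G) ∧ ∀ h ∈ H, ⁅g, h⁆ ∈ L}
  mul_mem' := by
    rintro a b ⟨ha1, ha2, ha3⟩ ⟨hb1, hb2, hb3⟩
    refine ⟨O.mul_mem ha1 hb1, (normalizer (L : Set G)).mul_mem ha2 hb2, fun h hh => ?_⟩
    have e : ⁅a * b, h⁆ = a * ⁅b, h⁆ * a⁻¹ * ⁅a, h⁆ := by simp only [commutatorElement_def]; group
    rw [e]
    exact L.mul_mem ((mem_normalizer_iff.1 ha2 _).1 (hb3 h hh)) (ha3 h hh)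
  one_mem' := ⟨O.one_mem, one_mem _, fun h _ => by rw [commutatorElement_one_left]; exact L.one_mem⟩
  inv_mem' := by
    rintro a ⟨ha1, ha2, ha3⟩
    refine ⟨O.inv_mem ha1, inv_mem ha2, fun h hh => ?_⟩
    have e : ⁅a⁻¹, h⁆ = a⁻¹ * ⁅a, h⁆⁻¹ * a⁻¹⁻¹ := by simp only [commutatorElement_def]; group
    rw [e]
    exact (mem_normalizer_iff.1 (inv_mem ha2) _).1 (L.inv_mem (ha3 h hh))

theorem mem_CF {O L H : Subgroup G} {g : G} :
    g ∈ CF O L H ↔ g ∈ O ∧ g ∈ normalizer (L : Set G) ∧ ∀ h ∈ H, ⁅g, h⁆ ∈ L := Iff.rfl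

theorem CF_le (O L H : Subgroup G) : CF O L H ≤ O := fun _ h => h.1

theorem CF_comm (O L H : Subgroup G) : ⁅CF O L H, H⁆ ≤ L :=
  commutator_le.2 fun _ hg h hh => hg.2.2 h hh

theorem le_CF {O L H K : Subgroup G} (h1 : K ≤ O) (h2 : K ≤ normalizer (L : Set G)) (h3 : ⁅K, H⁆ ≤ L) :
    K ≤ CF O L H :=
  fun _ hk => ⟨h1 hk, h2 hk, fun _ hh => h3 (commutator_mem_commutator hk hh)⟩

theorem CF_inf {O A L H : Subgroup G} (hA : A ≤ O) : CF A L H = A ⊓ CF O L H := by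
  ext g
  rw [mem_inf, mem_CF, mem_CF]
  exact ⟨fun h => ⟨h.1, hA h.1, h.2⟩, fun h => ⟨h.1, h.2.2⟩⟩

/-- a chief factor of `O` inside `O` -/
structure Chf (O L H : Subgroup G) : Prop where
  lt : L < H
  le : H ≤ O
  nL : O ≤ normalizer (L : Set G)
  nH : O ≤ normalizer (H : Set G)
  min : ∀ M : Subgroup G, O ≤ normalizer (M : Set G) → L ≤ M → M ≤ H → M = L ∨ M = H

open Classical in
/-- the weight `2 |O : C_O(H/L)| + (1 if H/L is abelian)` -/
noncomputable def wt (O L H : Subgroup G) : ℕ :=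
  2 * (CF O L H).relIndex O + if ⁅H, H⁆ ≤ L then 1 else 0

/-- the order of the factor is not coprime to `d` -/
def Act (d : ℕ) (L H : Subgroup G) : Prop := ¬ (L.relIndex H).Coprime d

end Cfsg.Agent.R2.T3544
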