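import Mathlib
import Cfsg.Agent.R2.T3544.Chief
import Cfsg.Agent.R2.T3544.Fun

/-!
# S3544: residuals: the smallest `O`-normal `R ≤ N` such that `N/R` has no `O`-chief factor with property `p`
-/

set_option autoImplicit false
set_option linter.unusedSectionVars false

namespace Cfsg.Agent.R2.T3544

open Subgroup
open scoped commutatorElement

namespace Resid

variable {G : Type*} [Group G]

theorem norm_inf {O A B : Subgroup G} (hA : O ≤ normalizer (A : Set G)) (hB : O ≤ normalizer (B : Set G)) :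
    O ≤ normalizer ((A ⊓ B : Subgroup G) : Set G) :=
  (le_inf hA hB).trans inf_normalizer_le_normalizer_inf

theorem norm_sup {O A B : Subgroup G} (hA : O ≤ normalizer (A : Set G)) (hB : O ≤ normalizer (B : Set G)) :
    O ≤ normalizer ((A ⊔ B : Subgroup G) : Set G) :=
  (le_inf hA hB).trans (normalizer_inf_normalizer_le_normalizer_sup A B)

theorem exists_mul {A N : Subgroup G} (h : A ≤ normalizer (N : Set G)) {g : G} (hg : g ∈ N ⊔ A) :
    ∃ n ∈ N, ∃ a ∈ A, g = n * a := by
  rw [← SetLike.mem_coe, coe_mul_of_right_le_normalizer_left N A h] at hg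
  obtain ⟨n, hn, a, ha, rfl⟩ := hg
  exact ⟨n, hn, a, ha, rfl⟩

theorem exists_mul' {A N : Subgroup G} (h : A ≤ normalizer (N : Set G)) {g : G} (hg : g ∈ A ⊔ N) :
    ∃ n ∈ N, ∃ a ∈ A, g = n * a := by
  rw [sup_comm] at hg
  exact exists_mul h hg

/-- the up move -/
theorem up {O L H D : Subgroup G} (h : Chf O L H) (hD : O ≤ normalizer (D : Set G)) (hDO : D ≤ O)
    (hHD : H ⊓ D ≤ L) : Chf O (L ⊔ D) (H ⊔ D) where
  lt := by
    refine lt_of_le_of_ne (sup_le_sup_right h.lt.le D) fun he => h.lt.not_ge fun x hx => ?_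
    have h1 : x ∈ L ⊔ D := by rw [he]; exact (le_sup_left : H ≤ H ⊔ D) hx
    obtain ⟨d, hd, l, hl, rfl⟩ := exists_mul' ((h.lt.le.trans h.le).trans hD) h1
    have h2 : d ∈ H := by
      have := H.mul_mem hx (H.inv_mem (h.lt.le hl))
      rwa [mul_inv_cancel_right] at this
    exact L.mul_mem (hHD ⟨h2, hd⟩) hl
  le := sup_le h.le hDO
  nL := norm_sup h.nL hD
  nH := norm_sup h.nH hD
  min M hM h1 h2 := by
    rcases h.min (M ⊓ H) (norm_inf hM h.nH) (le_inf (le_sup_left.trans h1) h.lt.le) inf_le_right with h3 | h3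
    · left
      refine le_antisymm (fun m hm => ?_) h1
      obtain ⟨d, hd, x, hx, rfl⟩ := exists_mul' (h.le.trans hD) (h2 hm)
      have h4 : x ∈ M := by
        have := M.mul_mem (M.inv_mem (h1 ((le_sup_right : D ≤ L ⊔ D) hd))) hm
        rwa [inv_mul_cancel_left] at this
      have h5 : x ∈ L := by rw [← h3]; exact ⟨h4, hx⟩
      exact (L ⊔ D).mul_mem ((le_sup_right : D ≤ L ⊔ D) hd) ((le_sup_left : L ≤ L ⊔ D) h5)
    · right
      refine le_antisymm h2 (sup_le ?_ (le_sup_right.trans h1))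
      rw [← h3]
      exact inf_le_left

/-- the down move -/
theorem dn {O L H D : Subgroup G} (h : Chf O L H) (hD : O ≤ normalizer (D : Set G))
    (hHD : H ≤ L ⊔ H ⊓ D) : Chf O (L ⊓ D) (H ⊓ D) where
  lt := by
    refine lt_of_le_of_ne (inf_le_inf_right D h.lt.le) fun he => h.lt.not_ge (hHD.trans ?_)
    rw [← he]
    exact sup_le le_rfl inf_le_left
  le := inf_le_left.trans h.le
  nL := norm_inf h.nL hD
  nH := norm_inf h.nH hD
  min M hM h1 h2 := by
    rcases h.min (L ⊔ M) (norm_sup h.nL hM) le_sup_left (sup_le h.lt.le (h2.trans inf_le_left)) with h3 | h3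
    · left
      refine le_antisymm (le_inf ?_ (h2.trans inf_le_right)) h1
      rw [← h3]
      exact le_sup_right
    · right
      refine le_antisymm h2 fun x hx => ?_
      have h4 : x ∈ L ⊔ M := by rw [h3]; exact hx.1
      have hML : M ≤ normalizer (L : Set G) := ((h2.trans inf_le_left).trans h.le).trans h.nL
      obtain ⟨l, hl, m, hm, rfl⟩ := exists_mul hML h4
      have h5 : l ∈ D := by
        have := D.mul_mem hx.2 (D.inv_mem (h2 hm).2)
        rwa [mul_inv_cancel_right] at this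
      exact M.mul_mem (h1 ⟨hl, h5⟩) hm

/-- a chief factor moves up or down -/
theorem up_or_dn {O L H D : Subgroup G} (h : Chf O L H) (hD : O ≤ normalizer (D : Set G)) :
    H ⊓ D ≤ L ∨ H ≤ L ⊔ H ⊓ D := by
  rcases h.min (L ⊔ H ⊓ D) (norm_sup h.nL (norm_inf h.nH hD)) le_sup_left (sup_le h.lt.le inf_le_left) with h1 | h1
  · left
    rw [← h1]
    exact le_sup_right
  · right
    exact h1.ge

/-- no chief factor of `O` between `R` and `N` satisfies `p` -/
def NoCF (O N : Subgroup G) (p : Subgroup G → Subgroup G → Prop) (R : Subgroup G) : Prop :=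
  R ≤ N ∧ O ≤ normalizer (R : Set G) ∧ ∀ L H : Subgroup G, Chf O L H → R ≤ L → H ≤ N → ¬ p L H

/-- the residual -/
def res (O N : Subgroup G) (p : Subgroup G → Subgroup G → Prop) : Subgroup G := sInf {R | NoCF O N p R}

theorem noCF_self {O N : Subgroup G} (hN : O ≤ normalizer (N : Set G)) (p : Subgroup G → Subgroup G → Prop) :
    NoCF O N p N :=
  ⟨le_rfl, hN, fun _ _ h h1 h2 => absurd (h.lt.trans_le (h2.trans h1)) (lt_irrefl _)⟩

theorem NoCF.inf {O N : Subgroup G} (hNO : N ≤ O) {p : Subgroup G → Subgroup G → Prop}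
    (hup : ∀ L H D : Subgroup G, Chf O L H → O ≤ normalizer (D : Set G) → D ≤ O → H ⊓ D ≤ L → p L H →
      p (L ⊔ D) (H ⊔ D))
    (hdn : ∀ L H D : Subgroup G, Chf O L H → O ≤ normalizer (D : Set G) → D ≤ O → H ≤ L ⊔ H ⊓ D → p L H →
      p (L ⊓ D) (H ⊓ D)) {R R' : Subgroup G} (h : NoCF O N p R) (h' : NoCF O N p R') : NoCF O N p (R ⊓ R') := by
  refine ⟨inf_le_left.trans h.1, norm_inf h.2.1 h'.2.1, fun L H hc h1 h2 hp => ?_⟩
  rcases up_or_dn hc h.2.1 with h3 | h3
  · exact h.2.2 _ _ (up hc h.2.1 (h.1.trans hNO) h3) le_sup_right (sup_le h2 h.1)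
      (hup L H R hc h.2.1 (h.1.trans hNO) h3 hp)
  · have hc' := dn hc h.2.1 h3
    have h4 : H ⊓ R ⊓ R' ≤ L ⊓ R :=
      le_inf ((le_inf (inf_le_left.trans inf_le_right) inf_le_right).trans h1) (inf_le_left.trans inf_le_right)
    exact h'.2.2 _ _ (up hc' h'.2.1 (h'.1.trans hNO) h4) le_sup_right (sup_le (inf_le_left.trans h2) h'.1)
      (hup _ _ R' hc' h'.2.1 (h'.1.trans hNO) h4 (hdn L H R hc h.2.1 (h.1.trans hNO) h3 hp))

theorem res_le_of {O N : Subgroup G} {p : Subgroup G → Subgroup G → Prop} {R : Subgroup G} (h : NoCF O N p R) :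
    res O N p ≤ R := sInf_le h

/-- the residual has the property -/
theorem noCF_res [Finite G] {O N : Subgroup G} (hNO : N ≤ O) (hN : O ≤ normalizer (N : Set G))
    {p : Subgroup G → Subgroup G → Prop}
    (hup : ∀ L H D : Subgroup G, Chf O L H → O ≤ normalizer (D : Set G) → D ≤ O → H ⊓ D ≤ L → p L H →
      p (L ⊔ D) (H ⊔ D))
    (hdn : ∀ L H D : Subgroup G, Chf O L H → O ≤ normalizer (D : Set G) → D ≤ O → H ≤ L ⊔ H ⊓ D → p L H →
      p (L ⊓ D) (H ⊓ D)) : NoCF O N p (res O N p) := by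
  obtain ⟨R, hR, hmin⟩ := (Set.toFinite {R | NoCF O N p R}).exists_minimal ⟨N, noCF_self hN p⟩
  have h1 : res O N p = R := by
    refine le_antisymm (res_le_of hR) (le_sInf fun R' hR' => ?_)
    have h2 := NoCF.inf hNO hup hdn hR hR'
    exact (hmin h2 inf_le_left).trans inf_le_right
  rw [h1]
  exact hR

theorem res_le [Finite G] {O N : Subgroup G} (hN : O ≤ normalizer (N : Set G))
    {p : Subgroup G → Subgroup G → Prop} : res O N p ≤ N := res_le_of (noCF_self hN p)

/-! ### conjugation -/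

theorem norm_map {O A : Subgroup G} (hA : O ≤ normalizer (A : Set G)) (g : G) :
    O.map (MulAut.conj g).toMonoidHom ≤ normalizer ((A.map (MulAut.conj g).toMonoidHom : Subgroup G) : Set G) :=
  (map_mono hA).trans (le_normalizer_map _)

theorem map_conj_le_iff {A B : Subgroup G} (g : G) :
    A.map (MulAut.conj g).toMonoidHom ≤ B.map (MulAut.conj g).toMonoidHom ↔ A ≤ B :=
  map_le_map_iff_of_injective (MulAut.conj g).injective

theorem map_conj_inv' (A : Subgroup G) (g : G) :
    (A.map (MulAut.conj g⁻¹).toMonoidHom).map (MulAut.conj g).toMonoidHom = A := by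
  have := map_map_conj_inv A g⁻¹
  rwa [inv_inv] at this

theorem chf_map {O L H : Subgroup G} (h : Chf O L H) (g : G) :
    Chf (O.map (MulAut.conj g).toMonoidHom) (L.map (MulAut.conj g).toMonoidHom)
      (H.map (MulAut.conj g).toMonoidHom) where
  lt := by
    rw [lt_iff_le_not_ge, map_conj_le_iff, map_conj_le_iff, ← lt_iff_le_not_ge]
    exact h.lt
  le := map_mono h.le
  nL := norm_map h.nL g
  nH := norm_map h.nH g
  min M hM h1 h2 := by
    have e := map_conj_inv' M g
    have h3 := norm_map hM g⁻¹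
    rw [map_map_conj_inv] at h3
    rw [← e, map_conj_le_iff] at h1 h2
    rcases h.min _ h3 h1 h2 with h4 | h4
    · left
      rw [← e, h4]
    · right
      rw [← e, h4]

theorem noCF_map {O N R : Subgroup G} {p p' : Subgroup G → Subgroup G → Prop} (g : G)
    (hp : ∀ L H : Subgroup G, Chf (O.map (MulAut.conj g).toMonoidHom) (L.map (MulAut.conj g).toMonoidHom)
      (H.map (MulAut.conj g).toMonoidHom) →
      p' (L.map (MulAut.conj g).toMonoidHom) (H.map (MulAut.conj g).toMonoidHom) → p L H)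
    (h : NoCF O N p R) :
    NoCF (O.map (MulAut.conj g).toMonoidHom) (N.map (MulAut.conj g).toMonoidHom) p'
      (R.map (MulAut.conj g).toMonoidHom) := by
  refine ⟨map_mono h.1, norm_map h.2.1 g, fun L H hc h1 h2 hpp => ?_⟩
  have e1 := map_conj_inv' L g
  have e2 := map_conj_inv' H g
  have hc' := chf_map hc g⁻¹
  rw [map_map_conj_inv] at hc'
  refine h.2.2 _ _ hc' ?_ ?_ (hp _ _ ?_ ?_)
  · rw [← map_conj_le_iff g, e1]; exact h1
  · rw [← map_conj_le_iff g, e2]; exact h2
  · rw [e1, e2]; exact hc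
  · rw [e1, e2]; exact hpp

/-- the residual is equivariant -/
theorem res_map {O N : Subgroup G} {p p' : Subgroup G → Subgroup G → Prop} (g : G)
    (hp : ∀ L H : Subgroup G,
      p' (L.map (MulAut.conj g).toMonoidHom) (H.map (MulAut.conj g).toMonoidHom) ↔ p L H) :
    res (O.map (MulAut.conj g).toMonoidHom) (N.map (MulAut.conj g).toMonoidHom) p' =
      (res O N p).map (MulAut.conj g).toMonoidHom := by
  apply le_antisymm
  · have h1 : (res (O.map (MulAut.conj g).toMonoidHom) (N.map (MulAut.conj g).toMonoidHom) p').map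
        (MulAut.conj g⁻¹).toMonoidHom ≤ res O N p := by
      refine le_sInf fun R hR => ?_
      rw [← map_conj_le_iff g, map_conj_inv']
      exact res_le_of (noCF_map g (fun L H _ => (hp L H).1) hR)
    have h2 := map_mono (f := (MulAut.conj g).toMonoidHom) h1
    rwa [map_conj_inv'] at h2
  · refine le_sInf fun R hR => ?_
    have h1 : NoCF O N p (R.map (MulAut.conj g⁻¹).toMonoidHom) := by
      have h2 := noCF_map (p := p') (p' := p) g⁻¹ (fun L H _ h => ?_) hR
      · rwa [map_map_conj_inv, map_map_conj_inv] at h2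
      · rw [← hp, map_conj_inv', map_conj_inv'] at h
        exact h
    rw [← map_conj_inv' R g, map_conj_le_iff]
    exact res_le_of h1

/-! ### chief factors between two normal subgroups -/

/-- C3 -/
theorem exists_chf [Finite G] {O L H : Subgroup G} (hL : O ≤ normalizer (L : Set G))
    (hH : O ≤ normalizer (H : Set G)) (hHO : H ≤ O) (hLH : L ≤ H) {q : ℕ} (hq : q.Prime)
    (hd : q ∣ L.relIndex H) : ∃ L' H' : Subgroup G, Chf O L' H' ∧ L ≤ L' ∧ H' ≤ H ∧ q ∣ L'.relIndex H' := by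
  obtain ⟨n, hn⟩ : ∃ n, n = L.relIndex H := ⟨_, rfl⟩
  induction n using Nat.strong_induction_on generalizing L H with
  | _ n ih =>
    have hlt : L < H := by
      refine lt_of_le_of_ne hLH fun h => ?_
      rw [h, relIndex_self] at hd
      exact hq.one_lt.ne' (Nat.dvd_one.1 hd)
    by_cases hc : ∀ M : Subgroup G, O ≤ normalizer (M : Set G) → L ≤ M → M ≤ H → M = L ∨ M = H
    · exact ⟨L, H, ⟨hlt, hHO, hL, hH, hc⟩, le_rfl, le_rfl, hd⟩
    · push Not at hc
      obtain ⟨M, hM, hLM, hMH, h1, h2⟩ := hc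
      have h3 := relIndex_mul_relIndex L M H hLM hMH
      have h4 : L.relIndex M ≠ 1 := fun h => h1 (le_antisymm (relIndex_eq_one.1 h) hLM)
      have h5 : M.relIndex H ≠ 1 := fun h => h2 (le_antisymm hMH (relIndex_eq_one.1 h))
      have h6 : L.relIndex M ≠ 0 := index_ne_zero_of_finite
      have h7 : M.relIndex H ≠ 0 := index_ne_zero_of_finite
      rw [← h3] at hd
      rcases (Nat.Prime.dvd_mul hq).1 hd with h8 | h8
      · obtain ⟨L', H', i1, i2, i3, i4⟩ := ih (L.relIndex M) (by rw [hn, ← h3]; nlinarith [Nat.pos_of_ne_zero h6, Nat.two_le_iff _ |>.2 ⟨h7, h5⟩]) hL hM (hMH.trans hHO) hLM h8 rfl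
        exact ⟨L', H', i1, i2, i3.trans hMH, i4⟩
      · obtain ⟨L', H', i1, i2, i3, i4⟩ := ih (M.relIndex H) (by rw [hn, ← h3]; nlinarith [Nat.pos_of_ne_zero h7, Nat.two_le_iff _ |>.2 ⟨h6, h4⟩]) hM hH hHO hMH h8 rfl
        exact ⟨L', H', i1, hLM.trans i2, i3, i4⟩

theorem act_iff [Finite G] {d : ℕ} {L H : Subgroup G} :
    Act d L H ↔ ∃ q : ℕ, q.Prime ∧ q ∣ L.relIndex H ∧ q ∣ d := Nat.Prime.not_coprime_iff_dvd

theorem act_mono [Finite G] {d : ℕ} {L H L' H' : Subgroup G} (h : Act d L' H') (h1 : L ≤ L') (h2 : L' ≤ H')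
    (h3 : H' ≤ H) : Act d L H := by
  obtain ⟨q, hq, hq1, hq2⟩ := act_iff.1 h
  refine act_iff.2 ⟨q, hq, ?_, hq2⟩
  have e1 := relIndex_mul_relIndex L L' H h1 (h2.trans h3)
  have e2 := relIndex_mul_relIndex L' H' H h2 h3
  rw [← e1, ← e2]
  exact (hq1.mul_right _).mul_left _

/-- a chief factor with `Act d` between `L` and `H` -/
theorem exists_chf_act [Finite G] {O L H : Subgroup G} (hL : O ≤ normalizer (L : Set G))
    (hH : O ≤ normalizer (H : Set G)) (hHO : H ≤ O) (hLH : L ≤ H) {d : ℕ} (h : Act d L H) :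
    ∃ L' H' : Subgroup G, Chf O L' H' ∧ L ≤ L' ∧ H' ≤ H ∧ Act d L' H' := by
  obtain ⟨q, hq, hq1, hq2⟩ := act_iff.1 h
  obtain ⟨L', H', h1, h2, h3, h4⟩ := exists_chf hL hH hHO hLH hq hq1
  exact ⟨L', H', h1, h2, h3, act_iff.2 ⟨q, hq, h4, hq2⟩⟩

/-! ### C2: the case `O = C_O(N) A` -/

theorem relIndex_eq_of_cover [Finite G] {O T L : Subgroup G} (hTO : T ≤ O)
    (h : ∀ g ∈ O, ∃ t ∈ T, t⁻¹ * g ∈ L) : L.relIndex T = L.relIndex O := by
  apply le_antisymm
  · exact relIndex_le_of_le_right hTO index_ne_zero_of_finite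
  · let f : T ⧸ L.subgroupOf T → O ⧸ L.subgroupOf O :=
      Quotient.map' (fun t => (⟨t.1, hTO t.2⟩ : O)) (by
        intro a b hab
        rw [QuotientGroup.leftRel_apply] at hab ⊢
        exact mem_subgroupOf.1 hab)
    have hf : Function.Surjective f := by
      intro q
      induction q using Quotient.inductionOn' with
      | h g =>
        obtain ⟨t, ht, htg⟩ := h g.1 g.2
        refine ⟨Quotient.mk'' ⟨t, ht⟩, ?_⟩
        apply Quotient.sound'
        rw [QuotientGroup.leftRel_apply]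
        exact mem_subgroupOf.2 htg
    exact Nat.card_le_card_of_surjective f hf

section

variable {O A N : Subgroup G} (hAO : A ≤ O) (hNA : N ≤ A)
  (hO : ∀ g ∈ O, ∃ a ∈ A, ∃ c ∈ O ⊓ centralizer (N : Set G), g = a * c)

include hAO hO in
theorem norm_iff {K : Subgroup G} (hK : K ≤ N) : A ≤ normalizer (K : Set G) ↔ O ≤ normalizer (K : Set G) := by
  refine ⟨fun h g hg => ?_, fun h => hAO.trans h⟩
  obtain ⟨a, ha, c, hc, rfl⟩ := hO g hg
  refine mul_mem (h ha) (cent_le_norm K ?_)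
  rw [mem_centralizer_iff]
  exact fun k hk => mem_centralizer_iff.1 hc.2 k (hK hk)

include hAO hNA hO in
theorem chf_iff {L H : Subgroup G} (hH : H ≤ N) : Chf A L H ↔ Chf O L H := by
  constructor
  · intro h
    exact ⟨h.lt, (hH.trans hNA).trans hAO, (norm_iff hAO hO (h.lt.le.trans hH)).1 h.nL,
      (norm_iff hAO hO hH).1 h.nH, fun M hM h1 h2 => h.min M (hAO.trans hM) h1 h2⟩
  · intro h
    exact ⟨h.lt, hH.trans hNA, hAO.trans h.nL, hAO.trans h.nH,
      fun M hM h1 h2 => h.min M ((norm_iff hAO hO (h2.trans hH)).1 hM) h1 h2⟩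

include hAO hO in
theorem wt_eq [Finite G] {L H : Subgroup G} (hLH : L ≤ H) (hH : H ≤ N) : wt A L H = wt O L H := by
  rw [wt, wt]
  congr 2
  rw [CF_inf hAO, inf_comm, inf_relIndex_right]
  refine relIndex_eq_of_cover hAO fun g hg => ?_
  obtain ⟨a, ha, c, hc, rfl⟩ := hO g hg
  refine ⟨a, ha, ?_⟩
  rw [inv_mul_cancel_left]
  refine mem_CF.2 ⟨hc.1, cent_le_norm L ?_, fun h hh => ?_⟩
  · rw [mem_centralizer_iff]
    exact fun k hk => mem_centralizer_iff.1 hc.2 k (hH (hLH hk))
  · have := mem_centralizer_iff.1 hc.2 h (hH hh)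
    rw [commutatorElement_def, ← this, mul_inv_cancel_right, mul_inv_cancel]
    exact L.one_mem

end

end Resid

end Cfsg.Agent.R2.T3544
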