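import Cfsg.Agent.R2.T3544.NLctx
import Cfsg.Agent.R2.T3544.NLVdef
import Cfsg.Agent.R2.T3544.Resid
import Cfsg.Agent.R2.T3544.Sol
import Cfsg.Agent.SignalizersComponents.PConstrained

/-!
# S3544, case NL: the assembly

`false_of_NL_of`: `O_p(G_x) ≠ 1` and `C_{G_x}(O_p(G_x)) ≰ O_p(G_x)` is impossible, given the four boxes.
-/

set_option autoImplicit false
set_option linter.unusedSectionVars false

namespace Cfsg.Agent.R2.T3544

open Subgroup MulAction Cfsg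
open scoped commutatorElement
open Cfsg.Agent.Lib Cfsg.Agent.SignalizersComponents

universe u v

section

variable (G : Type u) [Group G] (Ω : Type v) [MulAction G Ω] (p : ℕ)

/-- box 6: the operator groups -/
def ExVSysStmt : Prop :=
  ∀ {ra rb : Ω → Ω → Prop} {da db : ℕ}, NLS G p ra rb da db →
    (∃ x z, (ra x z ∨ rb x z) ∧ ∃ K, UC p K (stabilizer G x) ∧ ¬ ⁅K, Xf G p z⁆ ≤ Of G p x) →
    ∃ (V : Ω → Subgroup G) (U : Ω → Ω → Subgroup G) (R : Ω → Subgroup G), VSys G p ra rb V U ∧ Fun G R ∧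
      (∀ x, R x ≠ ⊥) ∧ ((∀ {x y}, ra x y → R x ≤ U x y) ∨ (∀ {x y}, rb x y → R x ≤ U x y))

/-- no bad chief factors in direction `b` -/
def NoFac {G : Type u} [Group G] {Ω : Type v} [MulAction G Ω] (p : ℕ) (V : Ω → Subgroup G)
    (rb : Ω → Ω → Prop) (db : ℕ) : Prop :=
  ∀ (x : Ω) (L H : Subgroup G), Chf (V x) L H → H ≤ ⁅Nf rb (Xf G p) (Of G p) x, V x⁆ → Act db L H → ⁅H, V x⁆ ≤ L

/-- box 7 -/
def NoFacStmt : Prop :=
  ∀ {ra rb : Ω → Ω → Prop} {da db : ℕ} {V : Ω → Subgroup G} {U : Ω → Ω → Subgroup G}, NLS G p ra rb da db →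
    VSys G p ra rb V U → (∀ z : Ω, Of G p z ≠ ⊥ ∨ ∃ J, UC p J (stabilizer G z)) → NoFac p V rb db

/-- box 8 -/
def FalseVSysStmt : Prop :=
  ∀ {ra rb : Ω → Ω → Prop} {da db : ℕ} {V : Ω → Subgroup G} {U : Ω → Ω → Subgroup G} {R : Ω → Subgroup G},
    NLS G p ra rb da db → VSys G p ra rb V U → (∀ z : Ω, Of G p z ≠ ⊥ ∨ ∃ J, UC p J (stabilizer G z)) →
    NoFac p V ra da → Fun G R → (∀ x, R x ≠ ⊥) → (∀ {x y}, ra x y → R x ≤ U x y) → False

/-- box 9 -/
def FalseUnmovedStmt : Prop :=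
  ∀ {ra rb : Ω → Ω → Prop} {da db : ℕ}, NLS G p ra rb da db →
    (∀ z : Ω, Of G p z ≠ ⊥ ∨ ∃ J, UC p J (stabilizer G z)) →
    (∀ x z : Ω, (ra x z ∨ rb x z) → ∀ J, UC p J (stabilizer G z) → ⁅J, Xf G p x⁆ ≤ Of G p z) → False

end

section

variable {G : Type u} [Group G] [Finite G] {Ω : Type v} [MulAction G Ω] {p : ℕ} [Fact p.Prime]

theorem false_of_NL_two (EV : ExVSysStmt G Ω p) (NF : NoFacStmt G Ω p) (FV : FalseVSysStmt G Ω p)
    (FU : FalseUnmovedStmt G Ω p) {ra rb : Ω → Ω → Prop} {da db : ℕ} (h : NLS G p ra rb da db)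
    (hNL : ∀ z : Ω, Of G p z ≠ ⊥ ∨ ∃ J, UC p J (stabilizer G z)) : False := by
  by_cases hex : ∃ x z, (ra x z ∨ rb x z) ∧ ∃ K, UC p K (stabilizer G x) ∧ ¬ ⁅K, Xf G p z⁆ ≤ Of G p x
  · obtain ⟨V, U, R, S, FR, hR, h1 | h1⟩ := EV h hex
    · exact FV h S hNL (NF h.symm S.swap hNL) FR hR h1
    · exact FV h.symm S.swap hNL (NF h S hNL) FR hR h1
  · refine FU h hNL fun x z hxz J hJ => ?_
    by_contra hcon
    exact hex ⟨z, x, hxz.imp (fun h' => h.A.symm h') (fun h' => h.B.symm h'), J, hJ, hcon⟩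

/-- the condition "characteristic `p`" is invariant under isomorphisms -/
theorem cent_pCore_of_equiv {H K : Type*} [Group H] [Group K] (e : H ≃* K)
    (h : centralizer (pCore p H : Set H) ≤ pCore p H) : centralizer (pCore p K : Set K) ≤ pCore p K := by
  have h1 := Cores.map_equiv_pCore e p
  intro k hk
  rw [mem_centralizer_iff] at hk
  rw [← h1]
  refine ⟨e.symm k, h ?_, e.apply_symm_apply k⟩
  rw [mem_centralizer_iff]
  intro a ha
  apply e.injective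
  rw [map_mul, map_mul, e.apply_symm_apply]
  apply hk
  rw [← h1]
  exact ⟨a, ha, rfl⟩

/-- not of characteristic `p`: `O_{p'} ≠ 1` or there is a `p`-component -/
theorem of_not_cent_pCore {H : Subgroup G} (h : ¬ centralizer (pCore p H : Set H) ≤ pCore p H) :
    OA p H ≠ ⊥ ∨ ∃ J, UC p J H := by
  by_contra hcon
  rw [not_or, not_not, not_exists] at hcon
  obtain ⟨h1, h2⟩ := hcon
  apply h
  have h3 : pPrimeCore p H = ⊥ := (map_eq_bot_iff_of_injective _ H.subtype_injective).1 h1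
  have h4 : pLayer p H = ⊥ := by
    rw [eq_bot_iff]
    refine sSup_le fun K hK => ?_
    exfalso
    refine h2 (K.map H.subtype) ⟨map_subtype_le _, ?_⟩
    have : (K.map H.subtype).subgroupOf H = K := by
      rw [subgroupOf, comap_map_eq_self_of_injective H.subtype_injective]
    rw [this]
    exact hK
  have h5 : centralizer (pCore p (H ⧸ pPrimeCore p H) : Set (H ⧸ pPrimeCore p H)) ≤ pCore p (H ⧸ pPrimeCore p H) :=
    (PConstrained.isPConstrained_iff_quotient p).1 ((PConstrained.isPConstrained_iff_pLayer_eq_bot p).2 h4)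
  exact cent_pCore_of_equiv ((QuotientGroup.quotientMulEquivOfEq h3).trans QuotientGroup.quotientBot) h5

end

/-- **case NL**: `O_p(G_x) ≠ 1`, `C_{G_x}(O_p(G_x)) ≰ O_p(G_x)`, three pairwise coprime directions -/
theorem false_of_NL_of {G : Type u} [Group G] [Finite G] {Ω : Type v} [MulAction G Ω] (P : PP G Ω)
    {r₁ r₂ r₃ : Ω → Ω → Prop} {d₁ d₂ d₃ : ℕ} (D₁ : Dir G r₁ d₁) (D₂ : Dir G r₂ d₂) (D₃ : Dir G r₃ d₃)
    (h12 : d₁.Coprime d₂) (h13 : d₁.Coprime d₃) (h23 : d₂.Coprime d₃) {p : ℕ} (hp : p.Prime)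
    (EV : ExVSysStmt G Ω p) (NF : NoFacStmt G Ω p) (FV : FalseVSysStmt G Ω p) (FU : FalseUnmovedStmt G Ω p)
    (hsch : ∀ z : Ω, Cfsg.Agent.Schreier.KBalance.SchFactors ↥(stabilizer G z)) (x : Ω)
    (hX : pCore p (stabilizer G x) ≠ ⊥)
    (hC : ¬ centralizer (pCore p (stabilizer G x) : Set (stabilizer G x)) ≤ pCore p (stabilizer G x)) : False := by
  have : Fact p.Prime := ⟨hp⟩
  have hX' : ∀ y : Ω, Xf G p y ≠ ⊥ := by
    refine (pCore_fun G Ω p).ne_bot P (x := x) fun h => hX ?_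
    exact (map_eq_bot_iff_of_injective _ (stabilizer G x).subtype_injective).1 h
  have hNL : ∀ z : Ω, Of G p z ≠ ⊥ ∨ ∃ J, UC p J (stabilizer G z) := by
    intro z
    apply of_not_cent_pCore
    intro h
    obtain ⟨e⟩ := P.equiv z x
    exact hC (cent_pCore_of_equiv e h)
  rcases exists_dir_prime' h12 h13 h23 hp with h' | h' | h'
  · exact false_of_NL_two EV NF FV FU ⟨P, D₁, D₂, h12, h'.1, h'.2, hX', hsch⟩ hNL
  · exact false_of_NL_two EV NF FV FU ⟨P, D₁, D₃, h13, h'.1, h'.2, hX', hsch⟩ hNL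
  · exact false_of_NL_two EV NF FV FU ⟨P, D₂, D₃, h23, h'.1, h'.2, hX', hsch⟩ hNL

end Cfsg.Agent.R2.T3544
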