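import Cfsg.Agent.R2.T3544.NLf
import Cfsg.Agent.R2.T3544.NLfin

/-!
# S3544, case NL with components: part (g), a functor inside all `U x y` is impossible
-/

set_option autoImplicit false
set_option linter.unusedSectionVars false

namespace Cfsg.Agent.R2.T3544

open Subgroup Cfsg MulAction
open scoped commutatorElement

universe u v

/-- **(g)**, box 8 -/
theorem falseVSys (G : Type u) [Group G] [Finite G] (Ω : Type v) [MulAction G Ω] [Nonempty Ω] (p : ℕ)
    [Fact p.Prime] : FalseVSysStmt G Ω p := by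
  intro ra rb da db V U R h S hNL hno FR hR hRU
  obtain ⟨x⟩ := ‹Nonempty Ω›
  obtain ⟨y, hxy⟩ := h.A.ex x
  have h0 : ⁅U x y, ⁅Of G p y, Xf G p x⁆⁆ = ⊥ :=
    lemE0 (S.eset h hxy) (S.uperf (Or.inl hxy)) fun M' M1 k1 k2 k3 => hno y M' M1 k1 k2 k3
  refine endgame h.P h.A h.pa ucBasic balStmt commNormStmt coreCommStmt h.sch h.X1 hNL hxy FR (hR x) ?_ ?_
  · rw [eq_bot_iff, ← h0]
    exact commutator_mono (hRU hxy) le_rfl
  · intro J hJ hJm
    exact (commutator_mono (hRU hxy) le_rfl).trans (S.comp (Or.inl hxy) J hJ hJm)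

end Cfsg.Agent.R2.T3544
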