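import Cfsg.Agent.R2.T3544.Asm
import Cfsg.Agent.R2.T3544.NLg

/-!
# S3544: the assembly; only the non-soluble local case is missing
-/

set_option autoImplicit false

namespace Cfsg.Agent.R2.T3544

open Subgroup MulAction Cfsg

universe u v

/-- **case NL**: `O_p(G_x) ≠ 1` and `C_{G_x}(O_p(G_x)) ≰ O_p(G_x)` is impossible -/
theorem false_of_NL {G : Type u} [Group G] [Finite G] {Ω : Type v} [MulAction G Ω] (P : PP G Ω)
    {r₁ r₂ r₃ : Ω → Ω → Prop} {d₁ d₂ d₃ : ℕ} (D₁ : Dir G r₁ d₁) (D₂ : Dir G r₂ d₂) (D₃ : Dir G r₃ d₃)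
    (h12 : d₁.Coprime d₂) (h13 : d₁.Coprime d₃) (h23 : d₂.Coprime d₃) {p : ℕ} (hp : p.Prime) (x : Ω)
    (hX : pCore p (stabilizer G x) ≠ ⊥)
    (hC : ¬ centralizer (pCore p (stabilizer G x) : Set (stabilizer G x)) ≤ pCore p (stabilizer G x)) : False := by
  haveI : Fact p.Prime := ⟨hp⟩
  haveI : Nonempty Ω := ⟨x⟩
  exact false_of_NL_of' P D₁ D₂ D₃ h12 h13 h23 hp (falseVSys G Ω p) (fun z => schFactors_all _) x hX hC

/-- **S3544 modulo the local case** (point stabilizers of characteristic `r`, not soluble) -/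
theorem main_of_loc (LOC : LocStmt.{v})
    {G : Type u} {Ω : Type v} [Group G] [Finite G] [MulAction G Ω] [Finite Ω]
    (hprim : MulAction.IsPreprimitive G Ω) (a b c d : Ω)
    (hb : 2 ≤ Nat.card (MulAction.orbit (MulAction.stabilizer G a) b))
    (hc : 2 ≤ Nat.card (MulAction.orbit (MulAction.stabilizer G a) c))
    (hd : 2 ≤ Nat.card (MulAction.orbit (MulAction.stabilizer G a) d)) :
    ¬ ((Nat.card (MulAction.orbit (MulAction.stabilizer G a) b)).Coprime
          (Nat.card (MulAction.orbit (MulAction.stabilizer G a) c)) ∧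
       (Nat.card (MulAction.orbit (MulAction.stabilizer G a) b)).Coprime
          (Nat.card (MulAction.orbit (MulAction.stabilizer G a) d)) ∧
       (Nat.card (MulAction.orbit (MulAction.stabilizer G a) c)).Coprime
          (Nat.card (MulAction.orbit (MulAction.stabilizer G a) d))) := by
  refine red' ?_ hprim a b c d hb hc hd
  intro G Ω _ _ _ _ _ hne P r₁ r₂ r₃ d₁ d₂ d₃ D₁ D₂ D₃ h12 h13 h23
  obtain ⟨x⟩ := hne
  by_cases hF : fittingSubgroup (stabilizer G x) = ⊥
  · exact false_of_fitting_bot' P D₁ D₂ D₃ h12 h13 h23 x hF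
  obtain ⟨p, hp, hX⟩ : ∃ p : ℕ, p.Prime ∧ pCore p (stabilizer G x) ≠ ⊥ := by
    by_contra hcon
    push Not at hcon
    apply hF
    rw [Lib.Cores.fittingSubgroup_eq_iSup_pCore, iSup_eq_bot]
    exact fun q => hcon q q.2
  by_cases hC : centralizer (pCore p (stabilizer G x) : Set (stabilizer G x)) ≤ pCore p (stabilizer G x)
  · by_cases hs : Group.IsSolvable (stabilizer G x)
    · exact false_of_sol_LOC P D₁ D₂ D₃ h12 h13 h23 hp x hs hC
    · exact LOC G Ω P r₁ r₂ r₃ d₁ d₂ d₃ D₁ D₂ D₃ h12 h13 h23 p hp x hs hC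
  · exact false_of_NL P D₁ D₂ D₃ h12 h13 h23 hp x hX hC

end Cfsg.Agent.R2.T3544
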