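import Cfsg.Agent.R2.T3544.Chief
import Cfsg.Agent.H231.Rel

/-!
# S3544: moving chief factors up and down by a normal subgroup
-/

set_option autoImplicit false

namespace Cfsg.Agent.R2.T3544

open Subgroup
open scoped commutatorElement

variable {G : Type*} [Group G]

/-! ### normalizers -/

theorem nrm_iff {O X : Subgroup G} :
    O ≤ normalizer (X : Set G) ↔ ∀ g ∈ O, X.map (MulAut.conj g).toMonoidHom = X := by
  constructor
  · intro h g hg
    have h1 := mem_normalizer_iff.1 (h hg)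
    ext y
    constructor
    · rintro ⟨x, hx, rfl⟩
      exact (h1 x).1 hx
    · intro hy
      refine ⟨g⁻¹ * y * g, ?_, by show g * (g⁻¹ * y * g) * g⁻¹ = y; group⟩
      show g⁻¹ * y * g ∈ X
      rw [h1]
      have e : g * (g⁻¹ * y * g) * g⁻¹ = y := by group
      rwa [e]
  · intro h g hg
    rw [mem_normalizer_iff]
    intro x
    constructor
    · intro hx
      rw [← h g hg]
      exact ⟨x, hx, rfl⟩
    · intro hx
      rw [← h g hg] at hx
      obtain ⟨y, hy, hyx⟩ := hx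
      have : y = x := mul_left_cancel (mul_right_cancel (show g * y * g⁻¹ = g * x * g⁻¹ from hyx))
      rwa [← this]

theorem nrm_sup {O A B : Subgroup G} (hA : O ≤ normalizer (A : Set G)) (hB : O ≤ normalizer (B : Set G)) :
    O ≤ normalizer ((A ⊔ B : Subgroup G) : Set G) := by
  rw [nrm_iff] at *
  intro g hg
  rw [Subgroup.map_sup, hA g hg, hB g hg]

theorem nrm_inf {O A B : Subgroup G} (hA : O ≤ normalizer (A : Set G)) (hB : O ≤ normalizer (B : Set G)) :
    O ≤ normalizer ((A ⊓ B : Subgroup G) : Set G) := by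
  rw [nrm_iff] at *
  intro g hg
  rw [Subgroup.map_inf _ _ _ (MulAut.conj g).injective, hA g hg, hB g hg]

theorem nrm_comm {O A B : Subgroup G} (hA : O ≤ normalizer (A : Set G)) (hB : O ≤ normalizer (B : Set G)) :
    O ≤ normalizer ((⁅A, B⁆ : Subgroup G) : Set G) := by
  rw [nrm_iff] at *
  intro g hg
  rw [Subgroup.map_commutator, hA g hg, hB g hg]

theorem map_CF (O L H : Subgroup G) (g : G) :
    (CF O L H).map (MulAut.conj g).toMonoidHom = CF (O.map (MulAut.conj g).toMonoidHom)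
      (L.map (MulAut.conj g).toMonoidHom) (H.map (MulAut.conj g).toMonoidHom) := by
  have key : ∀ (g : G) (O L H : Subgroup G), (CF O L H).map (MulAut.conj g).toMonoidHom ≤
      CF (O.map (MulAut.conj g).toMonoidHom)
      (L.map (MulAut.conj g).toMonoidHom) (H.map (MulAut.conj g).toMonoidHom) := by
    rintro g O L H _ ⟨x, ⟨hx1, hx2, hx3⟩, rfl⟩
    refine ⟨⟨x, hx1, rfl⟩, ?_, ?_⟩
    · rw [mem_normalizer_iff] at hx2 ⊢
      intro y
      constructor
      · rintro ⟨z, hz, rfl⟩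
        refine ⟨x * z * x⁻¹, (hx2 z).1 hz, ?_⟩
        show g * (x * z * x⁻¹) * g⁻¹ = (g * x * g⁻¹) * (g * z * g⁻¹) * (g * x * g⁻¹)⁻¹
        group
      · rintro ⟨z, hz, hzy⟩
        refine ⟨x⁻¹ * z * x, ?_, ?_⟩
        · show x⁻¹ * z * x ∈ L
          rw [hx2]
          have e : x * (x⁻¹ * z * x) * x⁻¹ = z := by group
          rwa [e]
        · have h1 : g * z * g⁻¹ = (g * x * g⁻¹) * y * (g * x * g⁻¹)⁻¹ := hzy
          show g * (x⁻¹ * z * x) * g⁻¹ = y
          have h2 : g * (x⁻¹ * z * x) * g⁻¹ = (g * x * g⁻¹)⁻¹ * (g * z * g⁻¹) * (g * x * g⁻¹) := by group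
          rw [h2, h1]
          group
    · rintro _ ⟨h, hh, rfl⟩
      refine ⟨⁅x, h⁆, hx3 h hh, ?_⟩
      exact map_commutatorElement _ _ _
  apply le_antisymm (key g O L H)
  intro y hy
  have h1 := key g⁻¹ _ _ _ (Subgroup.mem_map_of_mem (MulAut.conj g⁻¹).toMonoidHom hy)
  have e : ∀ A : Subgroup G, (A.map (MulAut.conj g).toMonoidHom).map (MulAut.conj g⁻¹).toMonoidHom = A := by
    intro A
    rw [Subgroup.map_map]
    have : (MulAut.conj g⁻¹).toMonoidHom.comp (MulAut.conj g).toMonoidHom = MonoidHom.id G := by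
      ext x
      simp [mul_assoc]
    rw [this, Subgroup.map_id]
  rw [e, e, e] at h1
  refine ⟨_, h1, ?_⟩
  show g * (g⁻¹ * y * g⁻¹⁻¹) * g⁻¹ = y
  group

theorem nrm_CF {A O L H : Subgroup G} (hO : A ≤ normalizer (O : Set G)) (hL : A ≤ normalizer (L : Set G))
    (hH : A ≤ normalizer (H : Set G)) : A ≤ normalizer (CF O L H : Set G) := by
  rw [nrm_iff] at *
  intro g hg
  rw [map_CF, hO g hg, hL g hg, hH g hg]

theorem nrm_centralizer {A H : Subgroup G} (hH : A ≤ normalizer (H : Set G)) :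
    A ≤ normalizer (centralizer (H : Set G) : Set G) := by
  have key : ∀ g ∈ A, ∀ c ∈ centralizer (H : Set G), g * c * g⁻¹ ∈ centralizer (H : Set G) := by
    intro g hg c hc
    rw [mem_centralizer_iff] at hc ⊢
    intro h hh
    have h1 : g⁻¹ * h * g ∈ H := by
      have := (mem_normalizer_iff.1 (hH (A.inv_mem hg)) h).1 hh
      simpa using this
    have h2 := hc _ h1
    have : g⁻¹ * (h * (g * c * g⁻¹)) * g = g⁻¹ * (g * c * g⁻¹ * h) * g := by
      calc g⁻¹ * (h * (g * c * g⁻¹)) * g = (g⁻¹ * h * g) * c := by group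
        _ = c * (g⁻¹ * h * g) := h2
        _ = _ := by group
    exact mul_left_cancel (mul_right_cancel this)
  intro g hg
  rw [mem_normalizer_iff]
  intro c
  refine ⟨key g hg c, fun h => ?_⟩
  have h1 := key g⁻¹ (A.inv_mem hg) _ h
  have e : g⁻¹ * (g * c * g⁻¹) * g⁻¹⁻¹ = c := by group
  rwa [e] at h1

theorem comm_le_r {A B : Subgroup G} (h : A ≤ normalizer (B : Set G)) : ⁅A, B⁆ ≤ B := by
  rw [commutator_le]
  intro a ha b hb
  rw [commutatorElement_def]
  exact B.mul_mem ((mem_normalizer_iff.1 (h ha) b).1 hb) (B.inv_mem hb)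

theorem comm_le_l {A B : Subgroup G} (h : B ≤ normalizer (A : Set G)) : ⁅A, B⁆ ≤ A := by
  rw [commutator_comm]
  exact comm_le_r h

/-! ### products -/

theorem mem_sup_nl {H N : Subgroup G} (h : H ≤ normalizer (N : Set G)) {x : G} :
    x ∈ H ⊔ N ↔ ∃ a ∈ H, ∃ b ∈ N, a * b = x := by
  have h1 := coe_mul_of_left_le_normalizer_right H N h
  constructor
  · intro hx
    have : x ∈ ((H ⊔ N : Subgroup G) : Set G) := hx
    rw [h1] at this
    obtain ⟨a, ha, b, hb, hab⟩ := this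
    exact ⟨a, ha, b, hb, hab⟩
  · rintro ⟨a, ha, b, hb, rfl⟩
    exact mul_mem (mem_sup_left ha) (mem_sup_right hb)

theorem relIndex_sup_nl {K H : Subgroup G} (h : H ≤ normalizer (K : Set G)) :
    K.relIndex (H ⊔ K) = K.relIndex H := by
  have hKn : (K.subgroupOf (K ⊔ H)).Normal :=
    normal_subgroupOf_of_le_normalizer (sup_le le_normalizer h)
  have h1 := relIndex_sup_left (H.subgroupOf (K ⊔ H)) (K.subgroupOf (K ⊔ H))
  rw [← Subgroup.subgroupOf_sup le_sup_left le_sup_right, Subgroup.subgroupOf_self,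
    Subgroup.relIndex_subgroupOf le_sup_right, relIndex_top_right] at h1
  rw [sup_comm, ← h1]
  rfl

/-- Dedekind: `D ≤ M`, `H` normalises `D` -/
theorem dede {H D M : Subgroup G} (h : H ≤ normalizer (D : Set G)) (hD : D ≤ M) :
    (H ⊔ D) ⊓ M = (H ⊓ M) ⊔ D := by
  apply le_antisymm
  · rintro x ⟨hx1, hx2⟩
    obtain ⟨a, ha, b, hb, rfl⟩ := (mem_sup_nl h).1 hx1
    have : a ∈ M := by
      have := M.mul_mem hx2 (M.inv_mem (hD hb))
      rwa [mul_inv_cancel_right] at this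
    exact mul_mem (mem_sup_left ⟨ha, this⟩) (mem_sup_right hb)
  · exact le_inf (sup_le_sup_right inf_le_left _) (sup_le inf_le_right hD)

/-- Dedekind: `L ≤ M`, `L` normalises `D` -/
theorem dede' {L D M : Subgroup G} (h : L ≤ normalizer (D : Set G)) (hL : L ≤ M) :
    (L ⊔ D) ⊓ M = L ⊔ (D ⊓ M) := by
  apply le_antisymm
  · rintro x ⟨hx1, hx2⟩
    obtain ⟨a, ha, b, hb, rfl⟩ := (mem_sup_nl h).1 hx1
    have : b ∈ M := by
      have := M.mul_mem (M.inv_mem (hL ha)) hx2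
      rwa [inv_mul_cancel_left] at this
    exact mul_mem (mem_sup_left ha) (mem_sup_right ⟨hb, this⟩)
  · exact le_inf (sup_le_sup_left inf_le_left _) (sup_le hL inf_le_right)

/-! ### moving factors -/

section Moves

variable {O L H D : Subgroup G}

theorem Chf.lO (h : Chf O L H) : L ≤ O := h.lt.le.trans h.le

/-- either move up or move down by `D` -/
theorem Chf.alt (h : Chf O L H) (hD : O ≤ normalizer (D : Set G)) :
    H ⊓ (L ⊔ D) = L ∨ H ≤ L ⊔ D := by
  rcases h.min (H ⊓ (L ⊔ D)) (nrm_inf h.nH (nrm_sup h.nL hD)) (le_inf h.lt.le le_sup_left) inf_le_left with h1 | h1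
  · exact Or.inl h1
  · exact Or.inr (inf_eq_left.1 h1)

theorem Chf.down_eq (h : Chf O L H) (hD : O ≤ normalizer (D : Set G)) (h1 : H ≤ L ⊔ D) :
    (H ⊓ D) ⊔ L = H := by
  have h2 := dede' (h.lO.trans hD) h.lt.le
  rw [inf_eq_right.2 h1, inf_comm] at h2
  rw [sup_comm]
  exact h2.symm

theorem Chf.up (h : Chf O L H) (hD : O ≤ normalizer (D : Set G)) (hDO : D ≤ O) (h1 : H ⊓ (L ⊔ D) = L) :
    Chf O (L ⊔ D) (H ⊔ D) where
  lt := by
    refine lt_of_le_of_ne (sup_le_sup_right h.lt.le _) fun h2 => ?_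
    have h3 : H ≤ L ⊔ D := by rw [h2]; exact le_sup_left
    rw [inf_eq_left.2 h3] at h1
    exact h.lt.ne h1.symm
  le := sup_le h.le hDO
  nL := nrm_sup h.nL hD
  nH := nrm_sup h.nH hD
  min := by
    intro M hM h2 h3
    have h4 := dede (h.le.trans hD) (le_sup_right.trans h2)
    rw [inf_eq_right.2 h3] at h4
    rcases h.min (H ⊓ M) (nrm_inf h.nH hM) (le_inf h.lt.le (le_sup_left.trans h2)) inf_le_left with h5 | h5
    · left; rw [h4, h5]
    · right; rw [h4, h5]

theorem Chf.down (h : Chf O L H) (hD : O ≤ normalizer (D : Set G)) (h1 : H ≤ L ⊔ D) :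
    Chf O (L ⊓ D) (H ⊓ D) where
  lt := by
    refine lt_of_le_of_ne (inf_le_inf_right _ h.lt.le) fun h2 => ?_
    have h3 := h.down_eq hD h1
    rw [← h2, sup_eq_right.2 (inf_le_left : L ⊓ D ≤ L)] at h3
    exact h.lt.ne h3
  le := inf_le_left.trans h.le
  nL := nrm_inf h.nL hD
  nH := nrm_inf h.nH hD
  min := by
    intro M hM h2 h3
    have h3' : M ≤ H ⊓ D := h3
    have h4 : (M ⊔ L) ⊓ D = M := by
      have h5 := dede' (L := M) (D := L) (M := D) ((h3.trans inf_le_left).trans (h.le.trans h.nL)) (h3.trans inf_le_right)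
      rw [h5]
      exact sup_eq_left.2 h2
    rcases h.min (M ⊔ L) (nrm_sup hM h.nL) le_sup_right (sup_le (h3.trans inf_le_left) h.lt.le) with h5 | h5
    · left; rw [← h4, h5]
    · right; rw [← h4, h5]

/-- two factors `H/L ≅ H'/L'` with `H ⊓ L' = L`, `H ⊔ L' = H'` -/
structure Iso (O L H L' H' : Subgroup G) : Prop where
  inf : H ⊓ L' = L
  sup : H ⊔ L' = H'
  nL' : O ≤ normalizer (L' : Set G)
  nL : O ≤ normalizer (L : Set G)
  nH : O ≤ normalizer (H : Set G)
  le : H ≤ O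
  lO' : L' ≤ O

theorem Chf.iso_up (h : Chf O L H) (hD : O ≤ normalizer (D : Set G)) (hDO : D ≤ O) (h1 : H ⊓ (L ⊔ D) = L) :
    Iso O L H (L ⊔ D) (H ⊔ D) :=
  ⟨h1, by rw [← sup_assoc, sup_eq_left.2 h.lt.le], nrm_sup h.nL hD, h.nL, h.nH, h.le, sup_le h.lO hDO⟩

theorem Chf.iso_down (h : Chf O L H) (hD : O ≤ normalizer (D : Set G)) (h1 : H ≤ L ⊔ D) :
    Iso O (L ⊓ D) (H ⊓ D) L H :=
  ⟨by rw [inf_assoc, inf_comm D L, ← inf_assoc, inf_eq_right.2 h.lt.le], h.down_eq hD h1, h.nL,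
    nrm_inf h.nL hD, nrm_inf h.nH hD, inf_le_left.trans h.le, h.lO⟩

variable {L' H' : Subgroup G}

theorem Iso.relIndex (h : Iso O L H L' H') : L'.relIndex H' = L.relIndex H := by
  rw [← h.sup, relIndex_sup_nl (h.le.trans h.nL'), ← h.inf, inf_relIndex_left]

theorem Iso.act (h : Iso O L H L' H') {d : ℕ} : Act d L' H' ↔ Act d L H := by
  rw [Act, Act, h.relIndex]

theorem Iso.hH' (h : Iso O L H L' H') : H ≤ H' := h.sup ▸ le_sup_left

theorem Iso.hL (h : Iso O L H L' H') : L ≤ L' := h.inf ▸ inf_le_right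

theorem Iso.nH' (h : Iso O L H L' H') : O ≤ normalizer (H' : Set G) := h.sup ▸ nrm_sup h.nH h.nL'

theorem Iso.CF_eq (h : Iso O L H L' H') : CF O L' H' = CF O L H := by
  apply le_antisymm
  · refine le_CF (CF_le _ _ _) ((CF_le _ _ _).trans h.nL) ?_
    rw [← h.inf]
    refine le_inf ?_ ?_
    · exact comm_le_r ((CF_le _ _ _).trans h.nH)
    · exact (commutator_mono le_rfl (h.sup ▸ le_sup_left)).trans (CF_comm O L' H')
  · refine le_CF (CF_le _ _ _) ((CF_le _ _ _).trans h.nL') ?_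
    rw [← h.sup]
    refine H231.commutator_sup_le (h.le.trans h.nL') le_normalizer ?_ ?_
    · exact (CF_comm O L H).trans h.hL
    · exact comm_le_r ((CF_le _ _ _).trans h.nL')

theorem Iso.comm (h : Iso O L H L' H') : ⁅H', H'⁆ ≤ L' ↔ ⁅H, H⁆ ≤ L := by
  constructor
  · intro h1
    rw [← h.inf]
    exact le_inf (comm_le_r le_normalizer) ((commutator_mono h.hH' h.hH').trans h1)
  · intro h1
    have hL : ⁅H, H⁆ ≤ L' := h1.trans h.hL
    have hHn := h.le.trans h.nL'
    rw [← h.sup]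
    refine H231.commutator_sup_le hHn le_normalizer ?_ ?_
    · refine H231.sup_commutator_le hHn le_normalizer hL (comm_le_l hHn)
    · exact comm_le_r (sup_le hHn le_normalizer)

theorem Iso.wt (h : Iso O L H L' H') : wt O L' H' = wt O L H := by
  classical
  have h1 := h.comm
  unfold T3544.wt
  rw [h.CF_eq]
  by_cases h2 : ⁅H, H⁆ ≤ L
  · rw [if_pos h2, if_pos (h1.2 h2)]
  · rw [if_neg h2, if_neg (fun h3 => h2 (h1.1 h3))]

/-- moving from `L` up over `D` or down into `D` -/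
theorem Chf.move (h : Chf O L H) (hD : O ≤ normalizer (D : Set G)) (hDO : D ≤ O) :
    (H ⊓ (L ⊔ D) = L ∧ Chf O (L ⊔ D) (H ⊔ D) ∧ Iso O L H (L ⊔ D) (H ⊔ D)) ∨
    (H ≤ L ⊔ D ∧ Chf O (L ⊓ D) (H ⊓ D) ∧ Iso O (L ⊓ D) (H ⊓ D) L H) := by
  rcases h.alt hD with h1 | h1
  · exact Or.inl ⟨h1, h.up hD hDO h1, h.iso_up hD hDO h1⟩
  · exact Or.inr ⟨h1, h.down hD h1, h.iso_down hD h1⟩

end Moves

end Cfsg.Agent.R2.T3544
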