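import Mathlib
import Cfsg.Agent.Lib.Cores
import Cfsg.Agent.Lib.HallHigman

/-!
# S3544, box B5: `u'`-subgroups normalised by a Sylow `u`-subgroup of a `u`-constrained group
-/

set_option autoImplicit false

namespace Cfsg.Agent.R2.T3544

open Subgroup Cfsg

/-- `A` with `C(O_u(A/O_{u'}(A))) ≤ O_u(A/O_{u'}(A))`: a `u'`-subgroup normalised by a Sylow `u`-subgroup lies in
`O_{u'}(A)`. -/
theorem le_core_of_constr {A : Type*} [Group A] [Finite A] {u : ℕ} [Fact u.Prime]
    (hC : centralizer (pCore u (A ⧸ pPrimeCore u A) : Set (A ⧸ pPrimeCore u A)) ≤ pCore u (A ⧸ pPrimeCore u A))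
    (R : Sylow u A) {K : Subgroup A} (hK : (Nat.card K).Coprime u)
    (hR : (R : Subgroup A) ≤ normalizer (K : Set A)) : K ≤ pPrimeCore u A := by
  set f := QuotientGroup.mk' (pPrimeCore u A) with hf
  have hfs : Function.Surjective f := QuotientGroup.mk'_surjective _
  have hTP : pCore u (A ⧸ pPrimeCore u A) ≤ (R : Subgroup A).map f :=
    Cfsg.Agent.Lib.Cores.pCore_le_sylow (R.mapSurjective hfs)
  have hPn : (R : Subgroup A).map f ≤ normalizer ((K.map f : Subgroup _) : Set _) :=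
    (Subgroup.map_mono hR).trans (Subgroup.le_normalizer_map f)
  have hYc : (Nat.card (K.map f)).Coprime u :=
    Nat.Coprime.coprime_dvd_left (Subgroup.card_map_dvd K f) hK
  have hTp : IsPGroup u (pCore u (A ⧸ pPrimeCore u A)) := Cfsg.Agent.Lib.Cores.pCore_isPGroup u
  have hTn : (pCore u (A ⧸ pPrimeCore u A)).Normal := Cfsg.Agent.Lib.Cores.pCore_normal u
  have hd : ∀ x, x ∈ K.map f → x ∈ pCore u (A ⧸ pPrimeCore u A) → x = 1 := by
    intro x hx hx'
    obtain ⟨n, hn⟩ := IsPGroup.iff_card.mp hTp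
    have h1 : Disjoint (K.map f) (pCore u (A ⧸ pPrimeCore u A)) := by
      apply Subgroup.disjoint_of_coprime_natCard
      rw [hn]
      exact Nat.Coprime.pow_right n hYc
    have h2 : x ∈ K.map f ⊓ pCore u (A ⧸ pPrimeCore u A) := ⟨hx, hx'⟩
    rwa [h1.eq_bot, mem_bot] at h2
  have hcent : K.map f ≤ centralizer (pCore u (A ⧸ pPrimeCore u A) : Set (A ⧸ pPrimeCore u A)) := by
    intro x hx
    rw [mem_centralizer_iff]
    intro t ht
    have h1 : t * x * t⁻¹ ∈ K.map f := (mem_normalizer_iff.1 (hPn (hTP ht)) x).1 hx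
    have h2 : t * x * t⁻¹ * x⁻¹ = 1 := by
      apply hd
      · exact mul_mem h1 (inv_mem hx)
      · have e : t * x * t⁻¹ * x⁻¹ = t * (x * t⁻¹ * x⁻¹) := by group
        rw [e]
        exact mul_mem ht (hTn.conj_mem _ (inv_mem ht) x)
    exact mul_inv_eq_iff_eq_mul.1 (mul_inv_eq_one.1 h2)
  have hbot : K.map f = ⊥ := by
    rw [eq_bot_iff]
    intro x hx
    exact mem_bot.2 (hd x hx (hC (hcent hx)))
  rw [Subgroup.map_eq_bot_iff, hf, QuotientGroup.ker_mk'] at hbot
  exact hbot

theorem le_core_of_solvable {A : Type*} [Group A] [Finite A] [Group.IsSolvable A] {u : ℕ} [Fact u.Prime]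
    (R : Sylow u A) {K : Subgroup A} (hK : (Nat.card K).Coprime u)
    (hR : (R : Subgroup A) ≤ normalizer (K : Set A)) : K ≤ pPrimeCore u A := by
  have h : Group.IsSolvable (A ⧸ pPrimeCore u A) :=
    Group.isSolvable_of_surjective (QuotientGroup.mk'_surjective (pPrimeCore u A))
  exact le_core_of_constr (Cfsg.Agent.Lib.HallHigman.centralizer_pCore_le_of_solvable u
    (Cfsg.Agent.Lib.Cores.pPrimeCore_quotient_pPrimeCore u)) R hK hR

/-- The same for subgroups `R ≤ H`, `K ≤ H` of a group `G`. -/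
theorem le_core_map_of_constr {G : Type*} [Group G] [Finite G] {u : ℕ} [Fact u.Prime] {H K R : Subgroup G}
    (hC : centralizer (pCore u (H ⧸ pPrimeCore u H) : Set (H ⧸ pPrimeCore u H)) ≤ pCore u (H ⧸ pPrimeCore u H))
    (hKH : K ≤ H) (hRH : R ≤ H) (hRp : IsPGroup u R) (hRi : ¬ u ∣ R.relIndex H) (hK : (Nat.card K).Coprime u)
    (hn : R ≤ normalizer (K : Set G)) : K ≤ (pPrimeCore u H).map H.subtype := by
  have h1 : IsPGroup u (R.subgroupOf H) := hRp.comap_of_injective _ H.subtype_injective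
  have h2 : K.subgroupOf H ≤ pPrimeCore u H := by
    refine le_core_of_constr hC (h1.toSylow hRi) ?_ ?_
    · rw [Nat.card_congr (subgroupOfEquivOfLe hKH).toEquiv]
      exact hK
    · intro x hx
      have hx' : (x : G) ∈ normalizer (K : Set G) := hn hx
      rw [mem_normalizer_iff] at hx' ⊢
      intro y
      rw [mem_subgroupOf, mem_subgroupOf]
      exact hx' y
  rwa [← map_subtype_le_map_subtype, map_subgroupOf_eq_of_le hKH] at h2

theorem le_core_map_of_solvable {G : Type*} [Group G] [Finite G] {u : ℕ} [Fact u.Prime] {H K R : Subgroup G}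
    [hH : Group.IsSolvable H] (hKH : K ≤ H) (hRH : R ≤ H) (hRp : IsPGroup u R) (hRi : ¬ u ∣ R.relIndex H)
    (hK : (Nat.card K).Coprime u) (hn : R ≤ normalizer (K : Set G)) : K ≤ (pPrimeCore u H).map H.subtype := by
  have h : Group.IsSolvable (H ⧸ pPrimeCore u H) :=
    Group.isSolvable_of_surjective (QuotientGroup.mk'_surjective (pPrimeCore u H))
  exact le_core_map_of_constr (Cfsg.Agent.Lib.HallHigman.centralizer_pCore_le_of_solvable u
    (Cfsg.Agent.Lib.Cores.pPrimeCore_quotient_pPrimeCore u)) hKH hRH hRp hRi hK hn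

end Cfsg.Agent.R2.T3544
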