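import Cfsg.Agent.R2.T3544.OffB
import Cfsg.Agent.S3086

/-!
# S3544, LOC: best offenders and components

`BestOff` on an elementary abelian normal subgroup `V`; the components of `X / C_X(V)` are normalised by every
best offender (S3086).
-/

set_option autoImplicit false
set_option linter.unusedSectionVars false

namespace Cfsg.Agent.R2.T3544

open Subgroup MulAction Cfsg

section

variable {X : Type*} [Group X] {r : ℕ}

/-- the homomorphism `X / C_X(V) → Aut V` -/
noncomputable def conjQ (V : Subgroup X) [V.Normal] : X ⧸ centralizer (V : Set X) →* MulAut V :=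
  QuotientGroup.lift (centralizer (V : Set X)) MulAut.conjNormal (by
    intro x hx
    apply MulEquiv.ext
    intro v
    apply Subtype.ext
    rw [MulAut.conjNormal_apply, MulAut.one_apply]
    have h1 := (mem_centralizer_iff.1 hx) v v.2
    rw [← h1, mul_inv_cancel_right])

theorem conjQ_mk (V : Subgroup X) [V.Normal] (x : X) (v : V) :
    ((conjQ V (QuotientGroup.mk' (centralizer (V : Set X)) x) v : V) : X) = x * v * x⁻¹ := by
  show ((MulAut.conjNormal x v : V) : X) = _
  rw [MulAut.conjNormal_apply]

theorem conjQ_fix (V : Subgroup X) [V.Normal] (x : X) (v : V) :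
    conjQ V (QuotientGroup.mk' (centralizer (V : Set X)) x) v = v ↔ (v : X) * x = x * v := by
  rw [Subtype.ext_iff, conjQ_mk]
  constructor
  · intro h
    calc (v : X) * x = x * v * x⁻¹ * x := by rw [h]
      _ = x * v := by rw [inv_mul_cancel_right]
  · intro h
    rw [← h, mul_inv_cancel_right]

theorem conjQ_injective (V : Subgroup X) [V.Normal] : Function.Injective (conjQ V) := by
  rw [injective_iff_map_eq_one]
  intro y hy
  obtain ⟨x, rfl⟩ := QuotientGroup.mk'_surjective _ y
  show (QuotientGroup.mk x : X ⧸ centralizer (V : Set X)) = 1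
  rw [QuotientGroup.eq_one_iff, mem_centralizer_iff]
  intro v hv
  exact (conjQ_fix V x ⟨v, hv⟩).1 (by rw [hy]; rfl)

/-- the group `V` as a commutative group -/
@[reducible] def commEA {V : Subgroup X} (hV : IsEA r V) : CommGroup V :=
  { (inferInstance : Group V) with
    mul_comm := fun a b => Subtype.ext (hV.1 a a.2 b b.2) }

/-- a representation from an additive action -/
noncomputable def repOf {Y W : Type*} [Group Y] [AddCommGroup W] {r : ℕ} [Module (ZMod r) W] (f : Y → W → W)
    (hf : ∀ g v w, f g (v + w) = f g v + f g w) (h1 : ∀ v, f 1 v = v) (h2 : ∀ g h v, f (g * h) v = f g (f h v)) :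
    Representation (ZMod r) Y W :=
  { toFun := fun g => AddMonoidHom.toZModLinearMap r (AddMonoidHom.mk' (f g) (hf g))
    map_one' := LinearMap.ext fun v => h1 v
    map_mul' := fun g h => LinearMap.ext fun v => h2 g h v }

/-- S3086 for an additive action -/
theorem S3086_action {Y W : Type*} [Group Y] [Finite Y] [AddCommGroup W] [Finite W] {r : ℕ} [Fact r.Prime]
    (hm : ∀ w : W, r • w = 0) (f : Y → W → W)
    (hf : ∀ g v w, f g (v + w) = f g v + f g w) (h1 : ∀ v, f 1 v = v) (h2 : ∀ g h v, f (g * h) v = f g (f h v))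
    (h3 : ∀ g h, (∀ v, f g v = f h v) → g = h) (A : Subgroup Y) (hA : A ≠ ⊥) (hAe : IsEA r A)
    (hP : ∀ B ≤ A, Nat.card B * Nat.card {w : W // ∀ b ∈ B, f b w = w} ≤ Nat.card A * Nat.card {w : W // ∀ b ∈ A, f b w = w})
    (K : Subgroup Y) (hK : IsComponent K) : A ≤ normalizer (K : Set Y) := by
  let _ : Module (ZMod r) W := AddCommGroup.zmodModule (n := r) hm
  exact S3086.result r (repOf f hf h1 h2) (fun g h hgh => h3 g h fun v => congrArg (fun l : W →ₗ[ZMod r] W => l v) hgh)
    A hA ⟨⟨⟨fun a b => Subtype.ext (hAe.1 a a.2 b b.2)⟩⟩, hAe.2⟩ hP K hK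

/-- counting: preimages -/
theorem card_map_mul {Y : Type*} [Group Y] (f : X →* Y) (A : Subgroup X) :
    Nat.card (A.map f) * Nat.card (A ⊓ f.ker : Subgroup X) = Nat.card A := by
  have h1 := Subgroup.card_mul_index (f.subgroupMap A).ker
  have h2 : (f.subgroupMap A).ker.index = Nat.card (A.map f) := by
    rw [Subgroup.index_ker]
    have h3 : (f.subgroupMap A).range = ⊤ := MonoidHom.range_eq_top.2 (f.subgroupMap_surjective A)
    rw [h3, Subgroup.card_top]
  have h4 : Nat.card (f.subgroupMap A).ker = Nat.card (A ⊓ f.ker : Subgroup X) := by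
    have h5 : (f.subgroupMap A).ker = (A ⊓ f.ker).subgroupOf A := by
      ext a
      rw [MonoidHom.mem_ker, mem_subgroupOf, mem_inf, MonoidHom.mem_ker]
      constructor
      · intro h
        exact ⟨a.2, congrArg Subtype.val h⟩
      · intro h
        exact Subtype.ext h.2
    rw [h5]
    exact Nat.card_congr (subgroupOfEquivOfLe inf_le_left).toEquiv
  rw [← h2, ← h4, mul_comm]
  exact h1

/-- the P(G,V)-theorem for a normal elementary abelian subgroup -/
theorem BestOff.le_normalizer_comp [Finite X] [hr : Fact r.Prime] {V A : Subgroup X} [V.Normal] (hV : IsEA r V)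
    (hb : BestOff A V) (hA : IsEA r (A.map (QuotientGroup.mk' (centralizer (V : Set X)))))
    (K : Subgroup (X ⧸ centralizer (V : Set X))) (hK : IsComponent K) :
    A.map (QuotientGroup.mk' (centralizer (V : Set X))) ≤ normalizer (K : Set (X ⧸ centralizer (V : Set X))) := by
  classical
  by_cases hne : A.map (QuotientGroup.mk' (centralizer (V : Set X))) = ⊥
  · rw [hne]
    exact bot_le
  let _ : CommGroup V := commEA hV
  have hcard : ∀ B : Subgroup X, Nat.card {v : Additive V // ∀ b ∈ B.map (QuotientGroup.mk' (centralizer (V : Set X))),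
      Additive.ofMul (conjQ V b (Additive.toMul v)) = v} = Nat.card (V ⊓ centralizer (B : Set X) : Subgroup X) := by
    intro B
    refine Nat.card_congr ⟨fun v => ⟨((Additive.toMul v.1 : V) : X), ⟨(Additive.toMul v.1 : V).2, ?_⟩⟩,
      fun v => ⟨Additive.ofMul ⟨v.1, v.2.1⟩, ?_⟩, fun v => rfl, fun v => rfl⟩
    · show _ ∈ centralizer (B : Set X)
      rw [mem_centralizer_iff]
      intro b hb
      have h1 := v.2 _ (mem_map_of_mem _ hb)
      exact ((conjQ_fix V b (Additive.toMul v.1)).1 h1).symm
    · rintro _ ⟨b, hb, rfl⟩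
      have h1 := (mem_centralizer_iff.1 v.2.2) b hb
      exact (conjQ_fix V b ⟨v.1, v.2.1⟩).2 h1.symm
  refine S3086_action (W := Additive V) (r := r) ?_ (fun g v => Additive.ofMul (conjQ V g (Additive.toMul v)))
      (fun g v w => congrArg Additive.ofMul (map_mul (conjQ V g) (Additive.toMul v) (Additive.toMul w)))
      (fun v => by rw [map_one]; rfl) (fun g h v => by rw [map_mul]; rfl)
      (fun g h hgh => conjQ_injective V (MulEquiv.ext fun v => hgh (Additive.ofMul v))) _ hne hA ?_ K hK
  · intro v
    show Additive.ofMul ((Additive.toMul v : V) ^ r) = 0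
    have h1 : (Additive.toMul v : V) ^ r = 1 := Subtype.ext (hV.2 _ (Additive.toMul v : V).2)
    rw [h1]
    rfl
  intro B hB
  -- the preimage
  set f := QuotientGroup.mk' (centralizer (V : Set X)) with hf
  have hB1 : (A ⊓ B.comap f).map f = B := by
    apply le_antisymm
    · rintro _ ⟨x, hx, rfl⟩
      exact hx.2
    · intro y hy
      obtain ⟨a, ha, rfl⟩ := hB hy
      exact ⟨a, ⟨ha, hy⟩, rfl⟩
  have h1 := hb (A ⊓ B.comap f) inf_le_left
  have h2 := card_map_mul f A
  have h3 := card_map_mul f (A ⊓ B.comap f)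
  have h4 : A ⊓ B.comap f ⊓ f.ker = A ⊓ f.ker := by
    apply le_antisymm
    · exact inf_le_inf_right _ inf_le_left
    · refine le_inf (le_inf inf_le_left ?_) inf_le_right
      intro x hx
      show f x ∈ B
      rw [hx.2]
      exact one_mem _
  rw [h4, hB1] at h3
  rw [← h2, ← h3] at h1
  have h5 := hcard (A ⊓ B.comap f)
  rw [hB1] at h5
  rw [hcard A, h5]
  have hpos : 0 < Nat.card (A ⊓ f.ker : Subgroup X) := Nat.card_pos
  refine Nat.le_of_mul_le_mul_right ?_ hpos
  calc _ = Nat.card B * Nat.card (A ⊓ f.ker : Subgroup X) *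
        Nat.card (V ⊓ centralizer ((A ⊓ B.comap f : Subgroup X) : Set X) : Subgroup X) := by ring
    _ ≤ Nat.card (A.map f) * Nat.card (A ⊓ f.ker : Subgroup X) * Nat.card (V ⊓ centralizer (A : Set X) : Subgroup X) := h1
    _ = _ := by ring

end

end Cfsg.Agent.R2.T3544
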