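import Cfsg.Agent.R2.T3544.Chief2

/-!
# S3544: Lemma D (helper1's argument): a chief factor in `N₂/C` has smaller weight
-/

set_option autoImplicit false
set_option linter.unusedSectionVars false

namespace Cfsg.Agent.R2.T3544

open Subgroup
open scoped commutatorElement

variable {G : Type*} [Group G] [Finite G]

/-! ### index lemmas -/

theorem card_rel {H K : Subgroup G} (h : H ≤ K) : Nat.card H * H.relIndex K = Nat.card K := by
  rw [← Subgroup.relIndex_bot_left, ← Subgroup.relIndex_bot_left, Subgroup.relIndex_mul_relIndex _ _ _ bot_le h]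

theorem card_inf_rel (A C : Subgroup G) : Nat.card ↥(C ⊓ A) * C.relIndex A = Nat.card A := by
  rw [← Subgroup.inf_relIndex_right, card_rel inf_le_right]

theorem relIndex_sup_nr {A M : Subgroup G} (h : A ≤ normalizer (M : Set G)) :
    A.relIndex (A ⊔ M) = A.relIndex M := by
  have h0 := relIndex_sup_nl h
  have h1 := card_rel (le_sup_left : A ≤ A ⊔ M)
  have h2 := card_rel (le_sup_right : M ≤ A ⊔ M)
  have h3 := card_inf_rel M A
  have h4 := card_inf_rel A M
  rw [inf_comm] at h4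
  rw [h0] at h2
  have h5 : 0 < Nat.card A := Nat.card_pos
  apply Nat.eq_of_mul_eq_mul_left h5
  rw [h1, ← h2, ← h3, ← h4]
  ring

theorem relIndex_dvd_nr {A M O : Subgroup G} (hA : A ≤ O) (hM : M ≤ O) (h : O ≤ normalizer (M : Set G)) :
    A.relIndex M ∣ A.relIndex O := by
  rw [← relIndex_sup_nr (hA.trans h)]
  exact ⟨_, (relIndex_mul_relIndex A (A ⊔ M) O le_sup_left (sup_le hA hM)).symm⟩

theorem relIndex_dvd_nl {S E J : Subgroup G} (hE : E ≤ J) (h : J ≤ normalizer (S : Set G)) :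
    S.relIndex E ∣ S.relIndex J := by
  have hn : (S.subgroupOf J).Normal := normal_subgroupOf_of_le_normalizer h
  have h1 := relIndex_dvd_index_of_normal (S.subgroupOf J) (E.subgroupOf J)
  rw [relIndex_subgroupOf hE] at h1
  exact h1

theorem relIndex_pos (H K : Subgroup G) : 0 < H.relIndex K :=
  Nat.pos_of_ne_zero (Subgroup.index_ne_zero_of_finite (H := H.subgroupOf K))

/-- a strictly larger subgroup has a smaller index -/
theorem relIndex_lt_of_lt {S T A : Subgroup G} (h : S < T) (hT : T ≤ A) : T.relIndex A < S.relIndex A := by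
  rw [← relIndex_mul_relIndex S T A h.le hT]
  have h1 : S.relIndex T ≠ 1 := fun h1 => h.not_ge (relIndex_eq_one.1 h1)
  have h2 := relIndex_pos S T
  have h3 := relIndex_pos T A
  nlinarith [show 2 ≤ S.relIndex T by omega]

/-- the power of the relative index lies in a subgroup normalised -/
theorem pow_relIndex_mem {S M : Subgroup G} (h : M ≤ normalizer (S : Set G)) {m : G} (hm : m ∈ M) :
    m ^ S.relIndex M ∈ S := by
  have hn : (S.subgroupOf M).Normal := normal_subgroupOf_of_le_normalizer h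
  exact Subgroup.pow_index_mem (S.subgroupOf M) ⟨m, hm⟩

theorem mem_of_pow_coprime {S : Subgroup G} {b : G} {m n : ℕ} (hc : m.Coprime n) (h1 : b ^ m ∈ S) (h2 : b ^ n ∈ S) :
    b ∈ S := by
  have h3 : b ^ (Nat.gcd m n : ℤ) ∈ S := by
    rw [Nat.gcd_eq_gcd_ab, zpow_add, zpow_mul, zpow_mul, zpow_natCast, zpow_natCast]
    exact S.mul_mem (S.zpow_mem h1 _) (S.zpow_mem h2 _)
  rw [hc] at h3
  simpa using h3

/-! ### the setting of Lemma D -/

/-- the setting of Lemma D -/
structure DSet (O X A N N2 : Subgroup G) (d1 d2 : ℕ) : Prop where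
  nX : X ≤ normalizer (O : Set G)
  A_eq : A = O ⊓ centralizer (X : Set G)
  N_eq : N = ⁅O, X⁆
  NX : ⁅N, X⁆ = N
  N2A : N2 ≤ A
  nN2 : A ≤ normalizer (N2 : Set G)
  idx : A.relIndex O ∣ d1
  cop : d1.Coprime d2

section

variable {O X A N N2 : Subgroup G} {d1 d2 : ℕ}

theorem DSet.AO (h : DSet O X A N N2 d1 d2) : A ≤ O := by rw [h.A_eq]; exact inf_le_left

theorem DSet.AX (h : DSet O X A N N2 d1 d2) : A ≤ centralizer (X : Set G) := by rw [h.A_eq]; exact inf_le_right

theorem DSet.commAX (h : DSet O X A N N2 d1 d2) : ⁅A, X⁆ = ⊥ :=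
  commutator_eq_bot_iff_le_centralizer.2 h.AX

theorem DSet.NO (h : DSet O X A N N2 d1 d2) : N ≤ O := by
  rw [h.N_eq]
  exact comm_le_l h.nX

theorem DSet.nN (h : DSet O X A N N2 d1 d2) : O ⊔ X ≤ normalizer (N : Set G) := by
  rw [h.N_eq]
  exact sup_le (normalizer_commutator_ge_left _ _) (normalizer_commutator_ge_right _ _)

/-- `X` commutes with `A` -/
theorem DSet.conjA (h : DSet O X A N N2 d1 d2) {x a : G} (hx : x ∈ X) (ha : a ∈ A) : x * a * x⁻¹ = a := by
  have h1 := mem_centralizer_iff.1 (h.AX ha) x hx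
  rw [h1, mul_inv_cancel_right]

/-- the index of `A` in a subgroup normal in `O` divides `d₁` -/
theorem DSet.idx' (h : DSet O X A N N2 d1 d2) {M : Subgroup G} (hM : M ≤ O) (hn : O ≤ normalizer (M : Set G)) :
    A.relIndex M ∣ d1 := (relIndex_dvd_nr h.AO hM hn).trans h.idx

/-- a chief factor `M/M'` of `OX` inside `N` -/
structure OXC (O X N M' M : Subgroup G) : Prop where
  lt : M' < M
  le : M ≤ N
  nM' : O ⊔ X ≤ normalizer (M' : Set G)
  nM : O ⊔ X ≤ normalizer (M : Set G)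
  min : ∀ K : Subgroup G, O ⊔ X ≤ normalizer (K : Set G) → M' ≤ K → K ≤ M → K = M' ∨ K = M

theorem OXC.oM' {M' M : Subgroup G} (c : OXC O X N M' M) : O ≤ normalizer (M' : Set G) := le_sup_left.trans c.nM'
theorem OXC.oM {M' M : Subgroup G} (c : OXC O X N M' M) : O ≤ normalizer (M : Set G) := le_sup_left.trans c.nM
theorem OXC.xM' {M' M : Subgroup G} (c : OXC O X N M' M) : X ≤ normalizer (M' : Set G) := le_sup_right.trans c.nM'
theorem OXC.xM {M' M : Subgroup G} (c : OXC O X N M' M) : X ≤ normalizer (M : Set G) := le_sup_right.trans c.nM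

/-- s2: the order of the factor is not coprime to `d₁` -/
theorem s2 (h : DSet O X A N N2 d1 d2) {M' M : Subgroup G} (c : OXC O X N M' M) (h1 : ¬ ⁅M, X⁆ ≤ M') :
    ¬ (M'.relIndex M).Coprime d1 := by
  intro hc
  apply h1
  have hMO : M ≤ O := c.le.trans h.NO
  have hle : (A ⊓ M) ⊔ M' ≤ M := sup_le inf_le_right c.lt.le
  have e1 : ((A ⊓ M) ⊔ M').relIndex M ∣ d1 := by
    refine (relIndex_dvd_of_le_left (L := M) (le_sup_left : A ⊓ M ≤ (A ⊓ M) ⊔ M')).trans ?_
    rw [inf_relIndex_right]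
    exact h.idx' hMO c.oM
  have e2 : ((A ⊓ M) ⊔ M').relIndex M ∣ M'.relIndex M := relIndex_dvd_of_le_left (L := M) le_sup_right
  have e3 := Nat.eq_one_of_dvd_coprimes hc e2 e1
  have e4 : M ≤ (A ⊓ M) ⊔ M' := relIndex_eq_one.1 e3
  refine (commutator_mono e4 le_rfl).trans ?_
  refine H231.sup_commutator_le ((inf_le_right.trans hMO).trans c.oM') le_normalizer ?_ (comm_le_l c.xM')
  exact (commutator_mono inf_le_left le_rfl).trans (by rw [h.commAX]; exact bot_le)

/-- s3: a minimal normal subgroup of `O` in `M/M'` -/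
theorem s3 {M' M : Subgroup G} (c : OXC O X N M' M) (hMO : M ≤ O) :
    ∃ M1, Chf O M' M1 ∧ M1 ≤ M := by
  obtain ⟨M1, ⟨h1, h2, h3⟩, h4⟩ := Set.Finite.exists_minimal (s := {K : Subgroup G | M' < K ∧ K ≤ M ∧ O ≤ normalizer (K : Set G)})
    (Set.toFinite _) ⟨M, c.lt, le_rfl, c.oM⟩
  refine ⟨M1, ⟨h1, h2.trans hMO, c.oM', h3, fun K hK hK1 hK2 => ?_⟩, h2⟩
  rcases eq_or_lt_of_le hK1 with e | e
  · exact Or.inl e.symm
  · exact Or.inr (le_antisymm hK2 (h4 ⟨e, hK2.trans h2, hK⟩ hK2))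

/-- the conjugates of `M1` under `X` generate `M` -/
theorem s4a (h : DSet O X A N N2 d1 d2) {M' M M1 : Subgroup G} (c : OXC O X N M' M) (hM1 : Chf O M' M1)
    (hle : M1 ≤ M) : ⨆ x : X, M1.map (MulAut.conj (x : G)).toMonoidHom = M := by
  have hX := nrm_iff.1 h.nX
  have hXM := nrm_iff.1 c.xM
  set K := ⨆ x : X, M1.map (MulAut.conj (x : G)).toMonoidHom with hK
  have hKM : K ≤ M := iSup_le fun x => (map_mono hle).trans (hXM x x.2).le
  have h1K : M1 ≤ K := by
    have := le_iSup (fun x : X => M1.map (MulAut.conj (x : G)).toMonoidHom) 1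
    refine le_trans (le_of_eq ?_) this
    ext y
    simp
  have hn : O ⊔ X ≤ normalizer (K : Set G) := by
    refine sup_le ?_ ?_
    · rw [nrm_iff]
      intro g hg
      rw [hK, Subgroup.map_iSup]
      refine iSup_congr fun x => ?_
      rw [Subgroup.map_map]
      have hg' : (x : G)⁻¹ * g * x ∈ O := by
        have := hX (x : G)⁻¹ (X.inv_mem x.2)
        rw [← this]
        exact ⟨g, hg, by show (x : G)⁻¹ * g * (x : G)⁻¹⁻¹ = _; rw [inv_inv]⟩
      have e : (MulAut.conj g).toMonoidHom.comp (MulAut.conj (x : G)).toMonoidHom =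
          (MulAut.conj (x : G)).toMonoidHom.comp (MulAut.conj ((x : G)⁻¹ * g * x)).toMonoidHom := by
        ext y
        show g * ((x : G) * y * (x : G)⁻¹) * g⁻¹ = x * (((x : G)⁻¹ * g * x) * y * ((x : G)⁻¹ * g * x)⁻¹) * (x : G)⁻¹
        group
      rw [e, ← Subgroup.map_map, nrm_iff.1 hM1.nH _ hg']
    · rw [nrm_iff]
      intro g hg
      rw [hK, Subgroup.map_iSup]
      apply le_antisymm
      · refine iSup_le fun x => ?_
        refine le_trans (le_of_eq ?_) (le_iSup _ (⟨g, hg⟩ * x : X))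
        rw [Subgroup.map_map]
        congr 1
        ext y
        show g * ((x : G) * y * (x : G)⁻¹) * g⁻¹ = (g * x) * y * (g * x)⁻¹
        group
      · refine iSup_le fun x => ?_
        refine le_trans (le_of_eq ?_) (le_iSup _ (⟨g, hg⟩⁻¹ * x : X))
        rw [Subgroup.map_map]
        congr 1
        ext y
        show (x : G) * y * (x : G)⁻¹ = g * ((g⁻¹ * x) * y * (g⁻¹ * x)⁻¹) * g⁻¹
        group
  rcases c.min K hn (hM1.lt.le.trans h1K) hKM with e | e
  · exact absurd (h1K.trans e.le) hM1.lt.not_ge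
  · exact e

/-- s4: `C_A(M1/M') = C_A(M/M')` -/
theorem s4 (h : DSet O X A N N2 d1 d2) {M' M M1 : Subgroup G} (c : OXC O X N M' M) (hM1 : Chf O M' M1)
    (hle : M1 ≤ M) : CF A M' M1 = CF A M' M := by
  have hMO : M ≤ O := c.le.trans h.NO
  apply le_antisymm
  · refine le_CF (CF_le _ _ _) ((CF_le _ _ _).trans (h.AO.trans c.oM')) ?_
    rw [← s4a h c hM1 hle]
    refine H231.commutator_iSup_le (fun x => ?_) (fun x => ?_)
    · exact ((map_mono hle).trans (nrm_iff.1 c.xM x x.2).le).trans (hMO.trans c.oM')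
    · rw [commutator_le]
      rintro a ha _ ⟨m, hm, rfl⟩
      have h1 := ha.2.2 m hm
      have h2 : x * ⁅a, m⁆ * (x : G)⁻¹ ∈ M' := (mem_normalizer_iff.1 (c.xM' x.2) _).1 h1
      have h3 := h.conjA x.2 ha.1
      have e : ⁅a, (MulAut.conj (x : G)).toMonoidHom m⁆ = x * ⁅a, m⁆ * (x : G)⁻¹ := by
        show ⁅a, (x : G) * m * (x : G)⁻¹⁆ = _
        conv_lhs => rw [← h3]
        simp only [commutatorElement_def]
        group
      rwa [e]
  · refine le_CF (CF_le _ _ _) ((CF_le _ _ _).trans (h.AO.trans c.oM')) ?_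
    exact (commutator_mono le_rfl hle).trans (CF_comm _ _ _)

/-- s5: the order of `M1/M'` is not coprime to `d₁` -/
theorem s5 (h : DSet O X A N N2 d1 d2) {M' M M1 : Subgroup G} (c : OXC O X N M' M) (hM1 : Chf O M' M1)
    (hle : M1 ≤ M) (hd : ¬ (M'.relIndex M).Coprime d1) : Act d1 M' M1 := by
  intro hc
  have hMO : M ≤ O := c.le.trans h.NO
  obtain ⟨J, ⟨h1, h2, h3, h4⟩, h5⟩ := Set.Finite.exists_maximal
    (s := {K : Subgroup G | M' ≤ K ∧ K ≤ M ∧ O ≤ normalizer (K : Set G) ∧ (M'.relIndex K).Coprime d1})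
    (Set.toFinite _) ⟨M', le_rfl, c.lt.le, c.oM', by rw [relIndex_self]; exact Nat.coprime_one_left _⟩
  apply hd
  have hJ : J = M := by
    apply le_antisymm h2
    rw [← s4a h c hM1 hle]
    refine iSup_le fun x => ?_
    have hXM' := nrm_iff.1 c.xM' x x.2
    have hXM := nrm_iff.1 c.xM x x.2
    have hxO := nrm_iff.1 h.nX x x.2
    set K := M1.map (MulAut.conj (x : G)).toMonoidHom with hK
    have hKM : K ≤ M := (map_mono hle).trans hXM.le
    have hnK : O ≤ normalizer (K : Set G) := by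
      rw [nrm_iff]
      intro g hg
      rw [hK, Subgroup.map_map]
      have hg' : (x : G)⁻¹ * g * x ∈ O := by
        have := nrm_iff.1 h.nX (x : G)⁻¹ (X.inv_mem x.2)
        rw [← this]
        exact ⟨g, hg, by show (x : G)⁻¹ * g * (x : G)⁻¹⁻¹ = _; rw [inv_inv]⟩
      have e : (MulAut.conj g).toMonoidHom.comp (MulAut.conj (x : G)).toMonoidHom =
          (MulAut.conj (x : G)).toMonoidHom.comp (MulAut.conj ((x : G)⁻¹ * g * x)).toMonoidHom := by
        ext y
        show g * ((x : G) * y * (x : G)⁻¹) * g⁻¹ = x * (((x : G)⁻¹ * g * x) * y * ((x : G)⁻¹ * g * x)⁻¹) * (x : G)⁻¹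
        group
      rw [e, ← Subgroup.map_map, nrm_iff.1 hM1.nH _ hg']
    have hMK : M' ≤ K := by rw [← hXM']; exact map_mono hM1.lt.le
    have hidx : M'.relIndex K = M'.relIndex M1 := by
      have e1 := card_rel hMK
      have e2 := card_rel hM1.lt.le
      have e3 : Nat.card K = Nat.card M1 := card_map_of_injective (MulAut.conj (x : G)).injective
      have e4 : 0 < Nat.card M' := Nat.card_pos
      apply Nat.eq_of_mul_eq_mul_left e4
      rw [e1, e2, e3]
    have hcop : (M'.relIndex (K ⊔ J)).Coprime d1 := by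
      rw [← relIndex_mul_relIndex M' J (K ⊔ J) h1 le_sup_right, relIndex_sup_nl ((hKM.trans hMO).trans h3)]
      refine Nat.Coprime.mul_left h4 (Nat.Coprime.coprime_dvd_left ?_ hc)
      rw [← hidx]
      exact relIndex_dvd_of_le_left (L := K) h1
    exact le_sup_left.trans (h5 ⟨h1.trans le_sup_right, sup_le hKM h2, nrm_sup hnK h3, hcop⟩ le_sup_right)
  rwa [← hJ]

/-- s1: `X` acts nontrivially on `M/M'` -/
theorem s1 (h : DSet O X A N N2 d1 d2) {M' M L H : Subgroup G} (c : OXC O X N M' M) (hL : CF N2 M' N ≤ L)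
    (hlt : L < H) (hH : H ≤ N2) (hc : ⁅H, N⁆ ≤ M) : ¬ ⁅M, X⁆ ≤ M' := by
  intro h1
  apply hlt.not_ge
  refine le_trans (le_CF hH ((hH.trans (h.N2A.trans h.AO)).trans c.oM') ?_) hL
  have hHM' : H ≤ normalizer (M' : Set G) := (hH.trans (h.N2A.trans h.AO)).trans c.oM'
  have h3 := H231.three_subgroups (P := M') (A := N) (B := X) (C := H) (h.NO.trans c.oM') c.xM' hHM' ?_ ?_
  · rw [h.NX] at h3
    rwa [commutator_comm]
  · have e : ⁅X, H⁆ = ⊥ := by
      rw [eq_bot_iff, ← h.commAX, commutator_comm]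
      exact commutator_mono (hH.trans h.N2A) le_rfl
    rw [e, commutator_bot_left]
    exact bot_le
  · exact (commutator_mono hc le_rfl).trans h1

/-- a nonabelian chief factor has trivial centre -/
theorem s6n {M' M : Subgroup G} (c : OXC O X N M' M) (hMO : M ≤ O) (hab : ¬ ⁅M, M⁆ ≤ M') : CF M M' M ≤ M' := by
  rcases c.min (CF M M' M) (nrm_CF c.nM c.nM' c.nM)
    (le_CF c.lt.le le_normalizer (comm_le_l (hMO.trans c.oM'))) (CF_le _ _ _) with e | e
  · exact e.le
  · exfalso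
    apply hab
    have := CF_comm M M' M
    rwa [e] at this

/-- s6, nonabelian case -/
theorem s6a (h : DSet O X A N N2 d1 d2) {M' M H : Subgroup G} (c : OXC O X N M' M)
    (hH : H ≤ N2) (hc : ⁅H, N⁆ ≤ M) (hab : ¬ ⁅M, M⁆ ≤ M') : H ⊓ CF A M' M ≤ CF N2 M' N := by
  have hMO : M ≤ O := c.le.trans h.NO
  have hHM' : H ≤ normalizer (M' : Set G) := (hH.trans (h.N2A.trans h.AO)).trans c.oM'
  refine le_CF (inf_le_left.trans hH) (inf_le_left.trans hHM') ?_
  have h1 : ⁅H ⊓ CF A M' M, N⁆ ≤ M := (commutator_mono inf_le_left le_rfl).trans hc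
  refine le_trans (le_CF h1 (h1.trans (hMO.trans c.oM')) ?_) (s6n c hMO hab)
  have hX : ⁅H ⊓ CF A M' M, M⁆ ≤ M' := (commutator_mono inf_le_right le_rfl).trans (CF_comm _ _ _)
  refine H231.three_subgroups (P := M') (inf_le_left.trans hHM') (h.NO.trans c.oM') (hMO.trans c.oM') ?_ ?_
  · refine (commutator_mono (comm_le_r (h.NO.trans c.oM)) le_rfl).trans ?_
    rw [commutator_comm]
    exact hX
  · rw [commutator_comm M]
    exact (commutator_mono hX le_rfl).trans (comm_le_l (h.NO.trans c.oM'))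

/-- powers of an element centralising `N/M` and `M/M'` -/
theorem pow_comm {M' M : Subgroup G} (hM : M ≤ normalizer (M' : Set G)) {b n : G}
    (hb2 : ∀ m ∈ M, ⁅b, m⁆ ∈ M') (hn : ⁅b, n⁆ ∈ M) (hbM : b ∈ normalizer (M : Set G)) (k : ℕ) :
    ⁅b ^ k, n⁆ ∈ M ∧ ⁅b ^ k, n⁆ * (⁅b, n⁆ ^ k)⁻¹ ∈ M' := by
  induction k with
  | zero => simp
  | succ k ih =>
    obtain ⟨ih1, ih2⟩ := ih
    have e : ⁅b ^ (k + 1), n⁆ = b * ⁅b ^ k, n⁆ * b⁻¹ * ⁅b, n⁆ := by
      simp only [commutatorElement_def, pow_succ']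
      group
    have h1 : b * ⁅b ^ k, n⁆ * b⁻¹ ∈ M := (mem_normalizer_iff.1 hbM _).1 ih1
    refine ⟨by rw [e]; exact M.mul_mem h1 hn, ?_⟩
    have e2 : ⁅b ^ (k + 1), n⁆ * (⁅b, n⁆ ^ (k + 1))⁻¹ = ⁅b, ⁅b ^ k, n⁆⁆ * (⁅b ^ k, n⁆ * (⁅b, n⁆ ^ k)⁻¹) := by
      rw [e, pow_succ]
      simp only [commutatorElement_def]
      group
    rw [e2]
    exact M'.mul_mem (hb2 _ ih1) ih2

/-- the elements of `M` whose `k`-th power lies in `M'`, for `M/M'` abelian -/
def powSub (M' M : Subgroup G) (hM : M ≤ normalizer (M' : Set G)) (hab : ⁅M, M⁆ ≤ M') (k : ℕ) : Subgroup G where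
  carrier := {m | m ∈ M ∧ m ^ k ∈ M'}
  one_mem' := ⟨M.one_mem, by rw [one_pow]; exact M'.one_mem⟩
  mul_mem' := by
    rintro a b ⟨ha1, ha2⟩ ⟨hb1, hb2⟩
    refine ⟨M.mul_mem ha1 hb1, ?_⟩
    have hn : (M'.subgroupOf M).Normal := normal_subgroupOf_of_le_normalizer hM
    let q := QuotientGroup.mk' (M'.subgroupOf M)
    have hcomm : Commute (q ⟨a, ha1⟩) (q ⟨b, hb1⟩) := by
      rw [commute_iff_eq, ← map_mul, ← map_mul]
      apply QuotientGroup.eq.2
      show ((a * b)⁻¹ * (b * a) : G) ∈ M'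
      have : (a * b)⁻¹ * (b * a) = ⁅b⁻¹, a⁻¹⁆ := by simp only [commutatorElement_def]; group
      rw [this]
      exact hab (commutator_mem_commutator (M.inv_mem hb1) (M.inv_mem ha1))
    have h1 : q (⟨a, ha1⟩ * ⟨b, hb1⟩) ^ k = 1 := by
      rw [map_mul, hcomm.mul_pow, ← map_pow, ← map_pow]
      have e1 : q (⟨a, ha1⟩ ^ k) = 1 := (QuotientGroup.eq_one_iff _).2 ha2
      have e2 : q (⟨b, hb1⟩ ^ k) = 1 := (QuotientGroup.eq_one_iff _).2 hb2
      rw [e1, e2, one_mul]
    rw [← map_pow] at h1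
    have h2 : ((⟨a, ha1⟩ * ⟨b, hb1⟩ : M) ^ k) ∈ M'.subgroupOf M := (QuotientGroup.eq_one_iff _).1 h1
    exact h2
  inv_mem' := by
    rintro a ⟨ha1, ha2⟩
    exact ⟨M.inv_mem ha1, by rw [inv_pow]; exact M'.inv_mem ha2⟩

theorem nrm_powSub {B M' M : Subgroup G} (hM : M ≤ normalizer (M' : Set G)) (hab : ⁅M, M⁆ ≤ M') (k : ℕ)
    (h1 : B ≤ normalizer (M : Set G)) (h2 : B ≤ normalizer (M' : Set G)) :
    B ≤ normalizer (powSub M' M hM hab k : Set G) := by
  intro g hg
  rw [mem_normalizer_iff]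
  intro m
  show (m ∈ M ∧ m ^ k ∈ M') ↔ (g * m * g⁻¹ ∈ M ∧ (g * m * g⁻¹) ^ k ∈ M')
  rw [conj_pow, ← mem_normalizer_iff.1 (h1 hg), ← mem_normalizer_iff.1 (h2 hg)]

/-- s6, abelian case: exponents -/
theorem s6b (h : DSet O X A N N2 d1 d2) {M' M : Subgroup G} (c : OXC O X N M' M)
    (hab : ⁅M, M⁆ ≤ M') (h1 : ¬ ⁅M, X⁆ ≤ M') {q : ℕ} (hq : q.Prime) (hqd : q ∣ d2) :
    ∃ v : ℕ, q.Coprime v ∧ ∀ m ∈ M, m ^ v ∈ M' := by
  have hMO : M ≤ O := c.le.trans h.NO
  have hMn : M ≤ normalizer (M' : Set G) := hMO.trans c.oM'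
  obtain ⟨a, v, hv, hn⟩ := Nat.exists_eq_pow_mul_and_not_dvd (relIndex_pos M' M).ne' q hq.ne_one
  have hqv : q.Coprime v := (Nat.Prime.coprime_iff_not_dvd hq).2 hv
  refine ⟨v, hqv, ?_⟩
  rcases c.min (powSub M' M hMn hab v) (nrm_powSub hMn hab v c.nM c.nM')
    (fun m hm => ⟨c.lt.le hm, M'.pow_mem hm v⟩) (fun m hm => hm.1) with e | e
  · exfalso
    apply h1
    have hp : ∀ m ∈ M, m ^ (q ^ a) ∈ M' := by
      intro m hm
      rw [← e]
      refine ⟨M.pow_mem hm _, ?_⟩
      rw [← pow_mul, ← hn]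
      exact pow_relIndex_mem hMn hm
    have e4 : M ≤ (A ⊓ M) ⊔ M' := by
      intro m hm
      have hM0 : M ≤ normalizer (((A ⊓ M) ⊔ M' : Subgroup G) : Set G) := by
        refine le_normalizer_iff_commutator_le_right.2 ?_
        exact ((commutator_mono le_rfl (sup_le inf_le_right c.lt.le)).trans hab).trans le_sup_right
      have hd : ((A ⊓ M) ⊔ M').relIndex M ∣ d1 := by
        refine (relIndex_dvd_of_le_left (L := M) (le_sup_left : A ⊓ M ≤ (A ⊓ M) ⊔ M')).trans ?_
        rw [inf_relIndex_right]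
        exact h.idx' hMO c.oM
      have hcop : (((A ⊓ M) ⊔ M').relIndex M).Coprime (q ^ a) := by
        apply Nat.Coprime.pow_right
        exact (h.cop.coprime_dvd_left hd).coprime_dvd_right hqd
      exact mem_of_pow_coprime hcop (pow_relIndex_mem hM0 hm) (le_sup_right (a := A ⊓ M) (hp m hm))
    refine (commutator_mono e4 le_rfl).trans ?_
    refine H231.sup_commutator_le ((inf_le_right.trans hMO).trans c.oM') le_normalizer ?_ (comm_le_l c.xM')
    exact (commutator_mono inf_le_left le_rfl).trans (by rw [h.commAX]; exact bot_le)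
  · intro m hm
    rw [← e] at hm
    exact hm.2

/-- s6: `H ∩ C(M/M') ≤ L` -/
theorem s6 (h : DSet O X A N N2 d1 d2) {M' M L H : Subgroup G} (c : OXC O X N M' M) (hL : CF N2 M' N ≤ L)
    (hLH : Chf A L H) (hH : H ≤ N2) (hc : ⁅H, N⁆ ≤ M) (hact : Act d2 L H) : H ⊓ CF A M' M ≤ L := by
  by_cases hab : ⁅M, M⁆ ≤ M'
  swap
  · exact (s6a h c hH hc hab).trans hL
  have hMO : M ≤ O := c.le.trans h.NO
  have hMn : M ≤ normalizer (M' : Set G) := hMO.trans c.oM'
  have hHO : H ≤ O := hH.trans (h.N2A.trans h.AO)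
  set D := H ⊓ CF A M' M with hD
  have hDn : A ≤ normalizer (D : Set G) :=
    nrm_inf hLH.nH (nrm_CF le_normalizer (h.AO.trans c.oM') (h.AO.trans c.oM))
  by_contra hDL
  have h1 : L ⊔ D = H := by
    rcases hLH.min (L ⊔ D) (nrm_sup hLH.nL hDn) le_sup_left (sup_le hLH.lt.le inf_le_left) with e | e
    · exact absurd (le_sup_right.trans e.le) hDL
    · exact e
  obtain ⟨q, hq, hq1, hq2⟩ := Nat.Prime.not_coprime_iff_dvd.1 hact
  obtain ⟨v, hv, hv2⟩ := s6b h c hab (s1 h c hL hLH.lt hH hc) hq hq2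
  have h2 : L.relIndex H = L.relIndex D := by
    rw [← h1, sup_comm, relIndex_sup_nl ((inf_le_left.trans hLH.le).trans hLH.nL)]
  have h3 : q ∣ (L.subgroupOf D).index := by
    have : q ∣ L.relIndex D := h2 ▸ hq1
    exact this
  have hnn : (L.subgroupOf D).Normal := normal_subgroupOf_of_le_normalizer ((inf_le_left.trans hLH.le).trans hLH.nL)
  haveI := Fact.mk hq
  obtain ⟨x, hx⟩ := exists_prime_orderOf_dvd_card' (G := D ⧸ L.subgroupOf D) q (by rwa [← index_eq_card])
  obtain ⟨b, rfl⟩ := QuotientGroup.mk_surjective x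
  have hb1 : (b : G) ∉ L := by
    intro hb
    have : (QuotientGroup.mk b : D ⧸ L.subgroupOf D) = 1 := (QuotientGroup.eq_one_iff _).2 hb
    rw [this, orderOf_one] at hx
    exact hq.one_lt.ne hx
  have hb2 : (b : G) ^ q ∈ L := by
    have h4 := pow_orderOf_eq_one (QuotientGroup.mk b : D ⧸ L.subgroupOf D)
    rw [hx, ← QuotientGroup.mk_pow] at h4
    have h5 : b ^ q ∈ L.subgroupOf D := (QuotientGroup.eq_one_iff _).1 h4
    exact h5
  apply hb1
  refine mem_of_pow_coprime hv hb2 (hL ?_)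
  have hbH : (b : G) ∈ H := b.2.1
  refine ⟨N2.pow_mem (hH hbH) v, (hHO.trans c.oM') (H.pow_mem hbH v), fun n hn => ?_⟩
  have h5 := pow_comm (M' := M') (M := M) hMn (b := (b : G)) (n := n) b.2.2.2.2
    (hc (commutator_mem_commutator hbH hn)) ((hHO.trans c.oM) hbH) v
  have h6 := hv2 _ (hc (commutator_mem_commutator hbH hn))
  have h7 := M'.mul_mem h5.2 h6
  rwa [inv_mul_cancel_right] at h7

/-- the end of the nonabelian case -/
theorem s9 (h : DSet O X A N N2 d1 d2) {M' M M1 L H : Subgroup G} (c : OXC O X N M' M)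
    (hM1 : Chf O M' M1) (hle : M1 ≤ M) (hLH : Chf A L H) (hact : Act d2 L H)
    (hDL : H ⊓ CF A M' M1 ≤ L) (hna : ¬ ⁅M1, M1⁆ ≤ M') (hS : CF A M' M1 = CF A L H)
    (hidx : (CF O M' M1).relIndex A = (CF O M' M1).relIndex O) : False := by
  have hMO : M ≤ O := c.le.trans h.NO
  set K := CF O M' M1 with hK
  have hKn : O ≤ normalizer (K : Set G) := nrm_CF le_normalizer hM1.nL hM1.nH
  have hAK : A ⊔ K = O := by
    apply le_antisymm (sup_le h.AO (CF_le _ _ _))
    have h1 := relIndex_mul_relIndex K (A ⊔ K) O le_sup_right (sup_le h.AO (CF_le _ _ _))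
    rw [relIndex_sup_nl (h.AO.trans hKn), hidx] at h1
    have h2 := relIndex_pos K O
    have h3 : (A ⊔ K).relIndex O = 1 := by
      have : K.relIndex O * (A ⊔ K).relIndex O = K.relIndex O * 1 := by rw [h1, mul_one]
      exact Nat.eq_of_mul_eq_mul_left h2 this
    exact relIndex_eq_one.1 h3
  by_cases hx : X ≤ normalizer (M1 : Set G)
  · apply hna
    have hN : N ≤ K := by
      rw [h.N_eq, ← hAK]
      refine H231.sup_commutator_le (h.AO.trans hKn) le_normalizer ?_ ?_
      · rw [h.commAX]; exact bot_le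
      · exact comm_le_l (nrm_CF h.nX c.xM' hx)
    exact (commutator_mono ((hle.trans c.le).trans hN) le_rfl).trans (CF_comm _ _ _)
  · obtain ⟨x, hxX, hx1⟩ : ∃ x ∈ X, M1.map (MulAut.conj x).toMonoidHom ≠ M1 := by
      by_contra hcon
      push Not at hcon
      exact hx (nrm_iff.2 hcon)
    -- `A ⊓ M1 ≤ M'`
    have hAM : A ⊓ M1 ≤ M' := by
      set Mx := M1.map (MulAut.conj x).toMonoidHom with hMx
      have hnx : O ≤ normalizer (Mx : Set G) := by
        rw [nrm_iff]
        intro g hg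
        rw [hMx, Subgroup.map_map]
        have hg' : (x : G)⁻¹ * g * x ∈ O := by
          have := nrm_iff.1 h.nX (x : G)⁻¹ (X.inv_mem hxX)
          rw [← this]
          exact ⟨g, hg, by show (x : G)⁻¹ * g * (x : G)⁻¹⁻¹ = _; rw [inv_inv]⟩
        have e : (MulAut.conj g).toMonoidHom.comp (MulAut.conj (x : G)).toMonoidHom =
            (MulAut.conj (x : G)).toMonoidHom.comp (MulAut.conj ((x : G)⁻¹ * g * x)).toMonoidHom := by
          ext y
          show g * ((x : G) * y * (x : G)⁻¹) * g⁻¹ = x * (((x : G)⁻¹ * g * x) * y * ((x : G)⁻¹ * g * x)⁻¹) * (x : G)⁻¹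
          group
        rw [e, ← Subgroup.map_map, nrm_iff.1 hM1.nH _ hg']
      have hMle : M' ≤ Mx := by
        rw [← nrm_iff.1 c.xM' x hxX]
        exact map_mono hM1.lt.le
      have hle' : A ⊓ M1 ≤ M1 ⊓ Mx := by
        rintro a ⟨ha, ha1⟩
        refine ⟨ha1, ⟨a, ha1, ?_⟩⟩
        exact h.conjA hxX ha
      rcases hM1.min (M1 ⊓ Mx) (nrm_inf hM1.nH hnx) (le_inf hM1.lt.le hMle) inf_le_left with e | e
      · exact hle'.trans e.le
      · exfalso
        apply hx1
        have h5 : M1 ≤ Mx := inf_eq_left.1 e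
        refine (eq_of_le_of_card_ge h5 ?_).symm
        rw [hMx, card_map_of_injective (MulAut.conj x).injective]
    have hd : M'.relIndex M1 ∣ d1 := by
      refine (relIndex_dvd_of_le_left (L := M1) hAM).trans ?_
      rw [inf_relIndex_right]
      exact h.idx' hM1.le hM1.nH
    set J := A ⊓ (M1 ⊔ K) with hJ
    have hJn : A ≤ normalizer (J : Set G) :=
      nrm_inf le_normalizer (nrm_sup (h.AO.trans hM1.nH) (h.AO.trans hKn))
    have hJA : J ≤ A := inf_le_left
    have hJK : J ⊔ K = M1 ⊔ K := by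
      have h6 := dede (H := A) (D := K) (M := M1 ⊔ K) (h.AO.trans hKn) le_sup_right
      rw [hAK, inf_eq_right.2 (sup_le hM1.le (CF_le _ _ _))] at h6
      exact h6.symm
    rcases hLH.alt hJn with e | e
    · apply hna
      have h7 : J ≤ CF A L H := by
        refine le_CF hJA (hJA.trans hLH.nL) ?_
        rw [← e]
        exact le_inf (comm_le_r (hJA.trans hLH.nH)) ((comm_le_l (hLH.le.trans hJn)).trans le_sup_right)
      rw [← hS, CF_inf h.AO] at h7
      have h8 : M1 ≤ K := by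
        have : M1 ≤ J ⊔ K := by rw [hJK]; exact le_sup_left
        exact this.trans (sup_le (h7.trans inf_le_right) le_rfl)
      exact (commutator_mono h8 le_rfl).trans (CF_comm _ _ _)
    · have h9 := (hLH.iso_down hJn e).relIndex
      have h10 : (L ⊓ J).relIndex (H ⊓ J) ∣ (CF A M' M1).relIndex (H ⊓ J) := by
        have : CF A M' M1 ⊓ (H ⊓ J) ≤ L ⊓ J := by
          refine le_inf ?_ (inf_le_right.trans inf_le_right)
          exact (le_inf (inf_le_right.trans inf_le_left) inf_le_left).trans hDL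
        have h11 := relIndex_dvd_of_le_left (L := H ⊓ J) this
        rwa [inf_relIndex_right] at h11
      have h12 : (CF A M' M1).relIndex (H ⊓ J) ∣ (CF A M' M1).relIndex J :=
        relIndex_dvd_nl inf_le_right (hJA.trans (nrm_CF le_normalizer (h.AO.trans hM1.nL) (h.AO.trans hM1.nH)))
      have h13 : (CF A M' M1).relIndex J = K.relIndex J := by
        rw [CF_inf h.AO, ← inf_relIndex_right, ← inf_relIndex_right K J]
        congr 1
        rw [inf_comm A, inf_assoc, inf_eq_right.2 hJA]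
      have h14 : K.relIndex J = K.relIndex M1 := by
        rw [← relIndex_sup_nl (hJA.trans (h.AO.trans hKn)), hJK, relIndex_sup_nl (hM1.le.trans hKn)]
      have h15 : K.relIndex M1 ∣ M'.relIndex M1 :=
        relIndex_dvd_of_le_left (L := M1) (le_CF hM1.lO (hM1.lO.trans hM1.nL) (comm_le_l (hM1.le.trans hM1.nL)))
      apply hact
      rw [Act.eq_def] at *
      have h16 : L.relIndex H ∣ d1 := by
        rw [h9]
        exact h10.trans (h12.trans (by rw [h13, h14]; exact h15.trans hd))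
      exact h.cop.coprime_dvd_left h16

theorem wt_of_comm {O L H : Subgroup G} (h : ⁅H, H⁆ ≤ L) : wt O L H = 2 * (CF O L H).relIndex O + 1 := by
  unfold wt
  rw [if_pos h]

theorem wt_of_not_comm {O L H : Subgroup G} (h : ¬ ⁅H, H⁆ ≤ L) : wt O L H = 2 * (CF O L H).relIndex O := by
  unfold wt
  rw [if_neg h, add_zero]

theorem le_wt (O L H : Subgroup G) : 2 * (CF O L H).relIndex O ≤ wt O L H := by
  unfold wt
  exact Nat.le_add_right _ _

/-- the core of Lemma D -/
theorem lemD_core (h : DSet O X A N N2 d1 d2) {M' M L H : Subgroup G} (c : OXC O X N M' M)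
    (hL : CF N2 M' N ≤ L) (hLH : Chf A L H) (hH : H ≤ N2) (hc : ⁅H, N⁆ ≤ M) (hact : Act d2 L H) :
    ∃ M1, Chf O M' M1 ∧ M1 ≤ N ∧ Act d1 M' M1 ∧ wt A L H < wt O M' M1 := by
  have hMO : M ≤ O := c.le.trans h.NO
  obtain ⟨M1, hM1, hle⟩ := s3 c hMO
  have h1 := s1 h c hL hLH.lt hH hc
  have h4 := s4 h c hM1 hle
  refine ⟨M1, hM1, hle.trans c.le, s5 h c hM1 hle (s2 h c h1), ?_⟩
  have hDL : H ⊓ CF A M' M1 ≤ L := by
    rw [h4]
    exact s6 h c hL hLH hH hc hact
  -- `S ≤ C_A(H/L)`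
  have hSn : A ≤ normalizer (CF A M' M1 : Set G) :=
    nrm_CF le_normalizer (h.AO.trans hM1.nL) (h.AO.trans hM1.nH)
  have hS : CF A M' M1 ≤ CF A L H := by
    refine le_CF (CF_le _ _ _) ((CF_le _ _ _).trans hLH.nL) ?_
    refine le_trans (le_inf ?_ ?_) hDL
    · exact comm_le_r ((CF_le _ _ _).trans hLH.nH)
    · exact comm_le_l (hLH.le.trans hSn)
  have e1 : (CF A L H).relIndex A ≤ (CF A M' M1).relIndex A :=
    Nat.le_of_dvd (relIndex_pos _ _) (relIndex_dvd_of_le_left (L := A) hS)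
  have e2 : (CF A M' M1).relIndex A = (CF O M' M1).relIndex A := by
    rw [CF_inf h.AO, inf_relIndex_left]
  have e3 : (CF O M' M1).relIndex A ≤ (CF O M' M1).relIndex O :=
    Nat.le_of_dvd (relIndex_pos _ _) (relIndex_dvd_nl h.AO (nrm_CF le_normalizer hM1.nL hM1.nH))
  have e4 := le_wt O M' M1
  by_cases hab : ⁅H, H⁆ ≤ L
  · rw [wt_of_comm hab]
    have h5 : CF A M' M1 < CF A L H := by
      refine lt_of_le_of_ne hS fun e => ?_
      have h6 : H ≤ CF A L H := le_CF hLH.le (hLH.le.trans hLH.nL) hab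
      rw [← e] at h6
      exact hLH.lt.not_ge ((le_inf le_rfl h6).trans hDL)
    have h7 := relIndex_lt_of_lt h5 (CF_le A L H)
    omega
  · rw [wt_of_not_comm hab]
    by_cases h8 : (CF A L H).relIndex A < (CF O M' M1).relIndex O
    · omega
    · have h9 : (CF A L H).relIndex A = (CF O M' M1).relIndex O := by omega
      by_cases hY : ⁅M1, M1⁆ ≤ M'
      · rw [wt_of_comm hY]
        omega
      · exfalso
        refine s9 h c hM1 hle hLH hact hDL hY ?_ (by omega)
        refine le_antisymm hS ?_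
        have h10 : (CF A M' M1).relIndex A = (CF A L H).relIndex A := by omega
        have h11 := relIndex_mul_relIndex _ _ A hS (CF_le A L H)
        rw [h10] at h11
        have h12 := relIndex_pos (CF A L H) A
        have h13 : (CF A M' M1).relIndex (CF A L H) = 1 := by
          have : (CF A M' M1).relIndex (CF A L H) * (CF A L H).relIndex A = 1 * (CF A L H).relIndex A := by
            rw [h11, one_mul]
          exact Nat.eq_of_mul_eq_mul_right h12 this
        exact relIndex_eq_one.1 h13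

/-- **Lemma D** -/
theorem lemD (h : DSet O X A N N2 d1 d2) : ∀ {L H : Subgroup G}, N2 ⊓ centralizer (N : Set G) ≤ L →
    Chf A L H → H ≤ N2 → Act d2 L H →
    ∃ M' M1, Chf O M' M1 ∧ M1 ≤ N ∧ Act d1 M' M1 ∧ wt A L H < wt O M' M1 := by
  have key : ∀ n : ℕ, ∀ M : Subgroup G, Nat.card M = n → O ⊔ X ≤ normalizer (M : Set G) → M ≤ N →
      ∀ L H : Subgroup G, N2 ⊓ centralizer (N : Set G) ≤ L → Chf A L H → H ≤ N2 → ⁅H, N⁆ ≤ M → Act d2 L H →
      ∃ M' M1, Chf O M' M1 ∧ M1 ≤ N ∧ Act d1 M' M1 ∧ wt A L H < wt O M' M1 := by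
    intro n
    induction n using Nat.strong_induction_on with
    | _ n ih =>
      intro M hMc hMn hMN L H hC hLH hH hc hact
      have hMb : M ≠ ⊥ := by
        rintro rfl
        apply hLH.lt.not_ge
        refine le_trans (le_inf hH ?_) hC
        rw [← commutator_eq_bot_iff_le_centralizer]
        exact le_bot_iff.1 hc
      obtain ⟨M', ⟨h1, h2⟩, h3⟩ := Set.Finite.exists_maximal
        (s := {K : Subgroup G | K < M ∧ O ⊔ X ≤ normalizer (K : Set G)})
        (Set.toFinite _) ⟨⊥, bot_lt_iff_ne_bot.2 hMb, by rw [nrm_iff]; intro g _; exact Subgroup.map_bot _⟩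
      have c : OXC O X N M' M := by
        refine ⟨h1, hMN, h2, hMn, fun K hK hK1 hK2 => ?_⟩
        rcases eq_or_lt_of_le hK2 with e | e
        · exact Or.inr e
        · exact Or.inl (le_antisymm (h3 ⟨e, hK⟩ hK1) hK1)
      have hN2O : N2 ≤ O := h.N2A.trans h.AO
      set D := CF N2 M' N with hD
      have hDn : A ≤ normalizer (D : Set G) :=
        nrm_CF h.nN2 (h.AO.trans c.oM') (h.AO.trans (le_sup_left.trans h.nN))
      have hDA : D ≤ A := (CF_le _ _ _).trans h.N2A
      have hCD : N2 ⊓ centralizer (N : Set G) ≤ D := by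
        refine le_CF inf_le_left ((inf_le_left.trans hN2O).trans c.oM') ?_
        rw [commutator_eq_bot_iff_le_centralizer.2 inf_le_right]
        exact bot_le
      rcases hLH.move hDn hDA with ⟨h4, h5, h6⟩ | ⟨h4, h5, h6⟩
      · obtain ⟨M1, h7⟩ := lemD_core h c (L := L ⊔ D) (H := H ⊔ D) le_sup_right h5
          (sup_le hH (CF_le _ _ _)) (by
            refine H231.sup_commutator_le ((hH.trans hN2O).trans c.oM) ((CF_le _ _ _).trans (hN2O.trans c.oM)) hc ?_
            exact (CF_comm _ _ _).trans c.lt.le) (h6.act.2 hact)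
        rw [h6.wt] at h7
        exact ⟨M', M1, h7⟩
      · have hcard : Nat.card M' < n := by
          rw [← hMc]
          refine lt_of_le_of_ne (Nat.card_le_card_of_injective _ (Subgroup.inclusion_injective h1.le)) fun e => ?_
          exact h1.ne (eq_of_le_of_card_ge h1.le e.ge)
        obtain ⟨M'', M1, h7⟩ := ih _ hcard M' rfl h2 (h1.le.trans hMN) (L ⊓ D) (H ⊓ D) (le_inf hC hCD) h5
          (inf_le_left.trans hH) ((commutator_mono inf_le_right le_rfl).trans (CF_comm _ _ _)) (h6.act.1 hact)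
        rw [← h6.wt] at h7
        exact ⟨M'', M1, h7⟩
  intro L H hC hLH hH hact
  refine key _ N rfl h.nN le_rfl L H hC hLH hH ?_ hact
  exact comm_le_r ((hH.trans (h.N2A.trans h.AO)).trans (le_sup_left.trans h.nN))

end

end Cfsg.Agent.R2.T3544
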