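import Cfsg.Agent.R2.T3544.LemD

/-!
# S3544: Lemma E, the measure step with an operator group `V`
-/

set_option autoImplicit false
set_option linter.unusedSectionVars false

namespace Cfsg.Agent.R2.T3544

open Subgroup
open scoped commutatorElement

variable {G : Type*} [Group G] [Finite G]

/-- the setting of Lemma E -/
structure ESet (Y O X V P N1 A A' N2 : Subgroup G) (d1 d2 : ℕ) : Prop where
  OY : O ≤ Y
  nO : Y ≤ normalizer (O : Set G)
  VY : V ≤ Y
  nV : Y ≤ normalizer (V : Set G)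
  N1O : N1 ≤ O
  nN1 : Y ≤ normalizer (N1 : Set G)
  XY : X ≤ Y
  P_eq : P = ⁅O, X⁆
  PX : ⁅P, X⁆ = P
  PN1 : P ≤ N1
  A_eq : A = O ⊓ centralizer (X : Set G)
  idx : A.relIndex O ∣ d1
  A'V : A' ≤ V
  A'X : A' ≤ centralizer (X : Set G)
  N2A' : N2 ≤ A'
  nN2 : A' ≤ normalizer (N2 : Set G)
  cop : d1.Coprime d2

/-- a chief factor `M/M'` of `Y` -/
structure YC (Y M' M : Subgroup G) : Prop where
  lt : M' < M
  le : M ≤ Y
  nM' : Y ≤ normalizer (M' : Set G)
  nM : Y ≤ normalizer (M : Set G)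
  min : ∀ K : Subgroup G, Y ≤ normalizer (K : Set G) → M' ≤ K → K ≤ M → K = M' ∨ K = M

theorem exists_YC {Y M : Subgroup G} (hM : M ≤ Y) (hn : Y ≤ normalizer (M : Set G)) (h0 : M ≠ ⊥) :
    ∃ M', YC Y M' M := by
  obtain ⟨M', ⟨h1, h2⟩, h3⟩ := Set.Finite.exists_maximal
    (s := {K : Subgroup G | K < M ∧ Y ≤ normalizer (K : Set G)})
    (Set.toFinite _) ⟨⊥, bot_lt_iff_ne_bot.2 h0, by rw [nrm_iff]; intro g _; exact Subgroup.map_bot _⟩
  refine ⟨M', h1, hM, h2, hn, fun K hK hK1 hK2 => ?_⟩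
  rcases eq_or_lt_of_le hK2 with e | e
  · exact Or.inr e
  · exact Or.inl (le_antisymm (h3 ⟨e, hK⟩ hK1) hK1)

/-! ### nonabelian chief factors: minimal normal subgroups -/

section NonAb

variable {Y M' M : Subgroup G}

/-- conjugates of chief factors -/
theorem Chf.conj {O L H : Subgroup G} (h : Chf O L H) (g : G) :
    Chf (O.map (MulAut.conj g).toMonoidHom) (L.map (MulAut.conj g).toMonoidHom)
      (H.map (MulAut.conj g).toMonoidHom) := by
  have e1 : ∀ A : Subgroup G, (A.map (MulAut.conj g).toMonoidHom).map (MulAut.conj g⁻¹).toMonoidHom = A := by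
    intro A
    rw [Subgroup.map_map]
    have : (MulAut.conj g⁻¹).toMonoidHom.comp (MulAut.conj g).toMonoidHom = MonoidHom.id G := by
      ext x
      simp [mul_assoc]
    rw [this, Subgroup.map_id]
  have e2 : ∀ A : Subgroup G, (A.map (MulAut.conj g⁻¹).toMonoidHom).map (MulAut.conj g).toMonoidHom = A := by
    intro A
    rw [Subgroup.map_map]
    have : (MulAut.conj g).toMonoidHom.comp (MulAut.conj g⁻¹).toMonoidHom = MonoidHom.id G := by
      ext x
      simp [mul_assoc]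
    rw [this, Subgroup.map_id]
  have hn : ∀ {A B : Subgroup G}, A ≤ normalizer (B : Set G) → ∀ k : G,
      A.map (MulAut.conj k).toMonoidHom ≤ normalizer ((B.map (MulAut.conj k).toMonoidHom : Subgroup G) : Set G) := by
    intro A B hAB k
    rw [nrm_iff] at hAB ⊢
    rintro _ ⟨a, ha, rfl⟩
    rw [Subgroup.map_map]
    have : (MulAut.conj ((MulAut.conj k).toMonoidHom a)).toMonoidHom.comp (MulAut.conj k).toMonoidHom =
        (MulAut.conj k).toMonoidHom.comp (MulAut.conj a).toMonoidHom := by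
      ext y
      show (k * a * k⁻¹) * (k * y * k⁻¹) * (k * a * k⁻¹)⁻¹ = k * (a * y * a⁻¹) * k⁻¹
      group
    rw [this, ← Subgroup.map_map, hAB a ha]
  refine ⟨?_, map_mono h.le, hn h.nL g, hn h.nH g, fun K hK h1 h2 => ?_⟩
  · refine lt_of_le_of_ne (map_mono h.lt.le) fun e => h.lt.ne ?_
    rw [← e1 L, ← e1 H, e]
  · have h3 := hn hK g⁻¹
    rw [e1] at h3
    have h4 := map_mono (f := (MulAut.conj g⁻¹).toMonoidHom) h1
    have h5 := map_mono (f := (MulAut.conj g⁻¹).toMonoidHom) h2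
    rw [e1] at h4 h5
    rcases h.min _ h3 h4 h5 with e | e
    · left; rw [← e, e2]
    · right; rw [← e, e2]

/-- n1: different minimal normal subgroups of `M/M'` commute -/
theorem n1 {N N' : Subgroup G} (h : Chf M M' N) (h' : Chf M M' N') (hne : N ≠ N') : ⁅N, N'⁆ ≤ M' := by
  have hi : N ⊓ N' = M' := by
    rcases h.min (N ⊓ N') (nrm_inf h.nH h'.nH) (le_inf h.lt.le h'.lt.le) inf_le_left with e | e
    · exact e
    · exfalso
      have h1 : N ≤ N' := inf_eq_left.1 e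
      rcases h'.min N h.nH h.lt.le h1 with e | e
      · exact h.lt.ne e.symm
      · exact hne e
  rw [← hi]
  exact le_inf (comm_le_l (h'.le.trans h.nH)) (comm_le_r (h.le.trans h'.nH))

/-- the `Y`-conjugates of a minimal normal subgroup of `M/M'` -/
theorem YC.conj (c : YC Y M' M) {N : Subgroup G} (h : Chf M M' N) {g : G} (hg : g ∈ Y) :
    Chf M M' (N.map (MulAut.conj g).toMonoidHom) := by
  have h1 := h.conj g
  rwa [nrm_iff.1 c.nM g hg, nrm_iff.1 c.nM' g hg] at h1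

/-- they generate `M` -/
theorem YC.iSup (c : YC Y M' M) {N : Subgroup G} (h : Chf M M' N) :
    ⨆ g : Y, N.map (MulAut.conj (g : G)).toMonoidHom = M := by
  set K := ⨆ g : Y, N.map (MulAut.conj (g : G)).toMonoidHom with hK
  have h1 : N ≤ K := by
    refine le_trans (le_of_eq ?_) (le_iSup _ (1 : Y))
    ext y
    simp
  have h2 : K ≤ M := iSup_le fun g => (map_mono h.le).trans (nrm_iff.1 c.nM g g.2).le
  have h3 : Y ≤ normalizer (K : Set G) := by
    rw [nrm_iff]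
    intro g hg
    rw [hK, Subgroup.map_iSup]
    apply le_antisymm
    · refine iSup_le fun x => ?_
      refine le_trans (le_of_eq ?_) (le_iSup _ (⟨g, hg⟩ * x : Y))
      rw [Subgroup.map_map]
      congr 1
      ext y
      show g * ((x : G) * y * (x : G)⁻¹) * g⁻¹ = (g * x) * y * (g * x)⁻¹
      group
    · refine iSup_le fun x => ?_
      refine le_trans (le_of_eq ?_) (le_iSup _ (⟨g, hg⟩⁻¹ * x : Y))
      rw [Subgroup.map_map]
      congr 1
      ext y
      show (x : G) * y * (x : G)⁻¹ = g * ((g⁻¹ * x) * y * (g⁻¹ * x)⁻¹) * g⁻¹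
      group
  rcases c.min K h3 (h.lt.le.trans h1) h2 with e | e
  · exact absurd (h1.trans e.le) h.lt.not_ge
  · exact e

/-- n2: no abelian minimal normal subgroup -/
theorem n2 (c : YC Y M' M) (hab : ¬ ⁅M, M⁆ ≤ M') {N : Subgroup G} (h : Chf M M' N) : ¬ ⁅N, N⁆ ≤ M' := by
  intro hN
  apply hab
  have hMn : M ≤ normalizer (M' : Set G) := c.le.trans c.nM'
  have key : ∀ g : Y, ∀ k : Y, ⁅N.map (MulAut.conj (g : G)).toMonoidHom, N.map (MulAut.conj (k : G)).toMonoidHom⁆ ≤ M' := by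
    intro g k
    by_cases e : N.map (MulAut.conj (g : G)).toMonoidHom = N.map (MulAut.conj (k : G)).toMonoidHom
    · rw [← e, ← Subgroup.map_commutator, ← nrm_iff.1 c.nM' g g.2]
      exact map_mono hN
    · exact n1 (c.conj h g.2) (c.conj h k.2) e
  have hle : ∀ g : Y, N.map (MulAut.conj (g : G)).toMonoidHom ≤ normalizer (M' : Set G) := fun g =>
    ((map_mono h.le).trans (nrm_iff.1 c.nM g g.2).le).trans hMn
  have h1 : ∀ k : Y, ⁅M, N.map (MulAut.conj (k : G)).toMonoidHom⁆ ≤ M' := by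
    intro k
    rw [← c.iSup h, commutator_comm]
    exact H231.commutator_iSup_le hle fun g => by rw [commutator_comm]; exact key g k
  have h2 := H231.commutator_iSup_le hle h1
  rwa [c.iSup h] at h2

/-- n3: a minimal normal subgroup below -/
theorem n3 (hMn : M ≤ normalizer (M' : Set G)) {K : Subgroup G} (hK : M ≤ normalizer (K : Set G)) (h1 : M' < K)
    (h2 : K ≤ M) : ∃ N, Chf M M' N ∧ N ≤ K := by
  obtain ⟨N, ⟨h3, h4, h5⟩, h6⟩ := Set.Finite.exists_minimal
    (s := {N : Subgroup G | M' < N ∧ N ≤ K ∧ M ≤ normalizer (N : Set G)}) (Set.toFinite _) ⟨K, h1, le_rfl, hK⟩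
  refine ⟨N, ⟨h3, h4.trans h2, hMn, h5, fun J hJ hJ1 hJ2 => ?_⟩, h4⟩
  rcases eq_or_lt_of_le hJ1 with e | e
  · exact Or.inl e.symm
  · exact Or.inr (le_antisymm hJ2 (h6 ⟨e, hJ2.trans h4, hJ⟩ hJ2))

/-- n4 -/
theorem n4 {N K : Subgroup G} (h : Chf M M' N) (hK : M ≤ normalizer (K : Set G)) (h1 : M' ≤ K) (h2 : K ≤ M)
    (hNK : ¬ N ≤ K) : N ⊓ K = M' ∧ ⁅N, K⁆ ≤ M' := by
  have hi : N ⊓ K = M' := by
    rcases h.min (N ⊓ K) (nrm_inf h.nH hK) (le_inf h.lt.le h1) inf_le_left with e | e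
    · exact e
    · exact absurd (inf_eq_left.1 e) hNK
  refine ⟨hi, ?_⟩
  rw [← hi]
  exact le_inf (comm_le_l (h2.trans h.nH)) (comm_le_r (h.le.trans hK))

/-- n5: abelian normal subgroups are trivial -/
theorem n5 (c : YC Y M' M) (hab : ¬ ⁅M, M⁆ ≤ M') {K : Subgroup G} (hK : M ≤ normalizer (K : Set G)) (h1 : M' ≤ K)
    (h2 : K ≤ M) (hKK : ⁅K, K⁆ ≤ M') : K = M' := by
  by_contra hne
  obtain ⟨N, h3, h4⟩ := n3 (c.le.trans c.nM') hK (lt_of_le_of_ne h1 (Ne.symm hne)) h2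
  exact n2 c hab h3 ((commutator_mono h4 h4).trans hKK)

/-- the centre of a normal subgroup is trivial -/
theorem n5' (c : YC Y M' M) (hab : ¬ ⁅M, M⁆ ≤ M') {K : Subgroup G} (hK : M ≤ normalizer (K : Set G)) (h1 : M' ≤ K)
    (h2 : K ≤ M) : CF K M' K ≤ M' := by
  have hMn : M ≤ normalizer (M' : Set G) := c.le.trans c.nM'
  refine (n5 c hab (nrm_CF hK hMn hK) ?_ ((CF_le _ _ _).trans h2) ?_).le
  · exact le_CF h1 le_normalizer (comm_le_l (h2.trans hMn))
  · exact (commutator_mono le_rfl (CF_le _ _ _)).trans (CF_comm _ _ _)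

/-- n6 -/
theorem n6 (c : YC Y M' M) (hab : ¬ ⁅M, M⁆ ≤ M') {K' K : Subgroup G} (hK' : M ≤ normalizer (K' : Set G))
    (hK : M ≤ normalizer (K : Set G)) (h0 : M' ≤ K') (h1 : K' < K) (h2 : K ≤ M) :
    ∃ N, Chf M M' N ∧ N ≤ K ∧ ¬ N ≤ K' := by
  by_contra hcon
  push Not at hcon
  apply h1.not_ge
  have hMn : M ≤ normalizer (M' : Set G) := c.le.trans c.nM'
  set C := CF M M' K with hC
  have hCn : M ≤ normalizer (C : Set G) := nrm_CF le_normalizer hMn hK
  obtain ⟨N0, hN0, -⟩ := n3 hMn le_normalizer c.lt le_rfl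
  have hM : M ≤ K' ⊔ C := by
    rw [← c.iSup hN0]
    refine iSup_le fun g => ?_
    have hg := c.conj hN0 g.2
    by_cases h3 : N0.map (MulAut.conj (g : G)).toMonoidHom ≤ K
    · exact (hcon _ hg h3).trans le_sup_left
    · refine le_trans ?_ le_sup_right
      exact le_CF hg.le (hg.le.trans hMn) (n4 hg hK (h0.trans h1.le) h2 h3).2
  intro k hk
  obtain ⟨k', hk', x, hx, hkx⟩ := (mem_sup_nl ((h1.le.trans h2).trans hCn)).1 (hM (h2 hk))
  have hxK : x ∈ K := by
    have : x = k'⁻¹ * k := by rw [← hkx]; group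
    rw [this]
    exact K.mul_mem (K.inv_mem (h1.le hk')) hk
  have hxC : x ∈ CF K M' K := ⟨hxK, hx.2⟩
  have hxM : x ∈ M' := n5' c hab hK (h0.trans h1.le) h2 hxC
  rw [← hkx]
  exact K'.mul_mem hk' (h0 hxM)

end NonAb

/-! ### generalities -/

/-- coprimality of the index of a join -/
theorem coprime_iSup {ι : Type*} {M' M : Subgroup G} {K : ι → Subgroup G} {d : ℕ}
    (h0 : M ≤ normalizer (M' : Set G)) (h0' : M' ≤ M) (h1 : ∀ i, M' ≤ K i) (h2 : ∀ i, K i ≤ M)
    (h3 : ∀ i, M ≤ normalizer (K i : Set G)) (h4 : ∀ i, (M'.relIndex (K i)).Coprime d) (h5 : ⨆ i, K i = M) :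
    (M'.relIndex M).Coprime d := by
  obtain ⟨J, ⟨g1, g2, g3, g4⟩, g5⟩ := Set.Finite.exists_maximal
    (s := {K : Subgroup G | M' ≤ K ∧ K ≤ M ∧ M ≤ normalizer (K : Set G) ∧ (M'.relIndex K).Coprime d})
    (Set.toFinite _) ⟨M', le_rfl, h0', h0, by rw [relIndex_self]; exact Nat.coprime_one_left _⟩
  have hJ : J = M := by
    apply le_antisymm g2
    rw [← h5]
    refine iSup_le fun i => ?_
    have hcop : (M'.relIndex (K i ⊔ J)).Coprime d := by
      rw [← relIndex_mul_relIndex M' J (K i ⊔ J) g1 le_sup_right, relIndex_sup_nl ((h2 i).trans g3)]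
      exact Nat.Coprime.mul_left g4 (Nat.Coprime.coprime_dvd_left (relIndex_dvd_of_le_left (L := K i) g1) (h4 i))
    exact le_sup_left.trans (g5 ⟨g1.trans le_sup_right, sup_le (h2 i) g2, nrm_sup (h3 i) g3, hcop⟩ le_sup_right)
  rwa [← hJ]

/-- Cauchy in `H/L` -/
theorem exists_order {L H : Subgroup G} (hn : H ≤ normalizer (L : Set G)) {q : ℕ} (hq : q.Prime) (h : q ∣ L.relIndex H) :
    ∃ b ∈ H, b ∉ L ∧ b ^ q ∈ L := by
  have hnn : (L.subgroupOf H).Normal := normal_subgroupOf_of_le_normalizer hn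
  haveI := Fact.mk hq
  have h3 : q ∣ (L.subgroupOf H).index := h
  obtain ⟨x, hx⟩ := exists_prime_orderOf_dvd_card' (G := H ⧸ L.subgroupOf H) q (by rwa [← index_eq_card])
  obtain ⟨b, rfl⟩ := QuotientGroup.mk_surjective x
  refine ⟨b, b.2, ?_, ?_⟩
  · intro hb
    have : (QuotientGroup.mk b : H ⧸ L.subgroupOf H) = 1 := (QuotientGroup.eq_one_iff _).2 hb
    rw [this, orderOf_one] at hx
    exact hq.one_lt.ne hx
  · have h4 := pow_orderOf_eq_one (QuotientGroup.mk b : H ⧸ L.subgroupOf H)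
    rw [hx, ← QuotientGroup.mk_pow] at h4
    have h5 : b ^ q ∈ L.subgroupOf H := (QuotientGroup.eq_one_iff _).1 h4
    exact h5

theorem pw {L H : Subgroup G} (hn : H ≤ normalizer (L : Set G)) {q v : ℕ} (hq : q.Prime) (h : q ∣ L.relIndex H)
    (hv : q.Coprime v) (hall : ∀ b ∈ H, b ^ v ∈ L) : False := by
  obtain ⟨b, h1, h2, h3⟩ := exists_order hn hq h
  exact h2 (mem_of_pow_coprime hv h3 (hall b h1))

/-- a version of the factor `(L, H)` with `H` minimal -/
theorem exists_version {A' N2 C L H : Subgroup G} (hLH : Chf A' L H) (hC : C ≤ L) (hH : H ≤ N2) :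
    ∃ L' H', Chf A' L' H' ∧ C ≤ L' ∧ H' ≤ N2 ∧ wt A' L' H' = wt A' L H ∧ L'.relIndex H' = L.relIndex H ∧
      ∀ D : Subgroup G, A' ≤ normalizer (D : Set G) → C ≤ D → H' ≤ D ∨ H' ⊓ D ≤ L' := by
  obtain ⟨H', ⟨L', h1, h2, h3, h4, h5⟩, h6⟩ := Set.Finite.exists_minimal
    (s := {H' : Subgroup G | ∃ L', Chf A' L' H' ∧ C ≤ L' ∧ H' ≤ N2 ∧ wt A' L' H' = wt A' L H ∧
      L'.relIndex H' = L.relIndex H}) (Set.toFinite _) ⟨H, L, hLH, hC, hH, rfl, rfl⟩
  refine ⟨L', H', h1, h2, h3, h4, h5, fun D hD hCD => ?_⟩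
  rcases h1.alt hD with e | e
  · right
    exact (inf_le_inf_left _ le_sup_right).trans e.le
  · left
    have e1 := h1.iso_down hD e
    have := h6 ⟨L' ⊓ D, h1.down hD e, le_inf h2 hCD, inf_le_left.trans h3, by rw [← e1.wt, h4],
      by rw [← e1.relIndex, h5]⟩ inf_le_left
    exact this.trans inf_le_right

end Cfsg.Agent.R2.T3544
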