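import Cfsg.Agent.R2.T3544.LemE

/-!
# S3544: Lemma E, main part
-/

set_option autoImplicit false
set_option linter.unusedSectionVars false

namespace Cfsg.Agent.R2.T3544

open Subgroup
open scoped commutatorElement

variable {G : Type*} [Group G] [Finite G]

namespace ESet

variable {Y O X V P N1 A A' N2 : Subgroup G} {d1 d2 : ℕ}

theorem A'Y (h : ESet Y O X V P N1 A A' N2 d1 d2) : A' ≤ Y := h.A'V.trans h.VY

theorem N1Y (h : ESet Y O X V P N1 A A' N2 d1 d2) : N1 ≤ Y := h.N1O.trans h.OY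

theorem AO (h : ESet Y O X V P N1 A A' N2 d1 d2) : A ≤ O := by rw [h.A_eq]; exact inf_le_left

theorem AX (h : ESet Y O X V P N1 A A' N2 d1 d2) : ⁅A, X⁆ = ⊥ := by
  rw [commutator_eq_bot_iff_le_centralizer, h.A_eq]
  exact inf_le_right

theorem XA' (h : ESet Y O X V P N1 A A' N2 d1 d2) : ⁅X, A'⁆ = ⊥ := by
  rw [commutator_comm]
  exact commutator_eq_bot_iff_le_centralizer.2 h.A'X

theorem conjA' (h : ESet Y O X V P N1 A A' N2 d1 d2) {x a : G} (hx : x ∈ X) (ha : a ∈ A') : x * a * x⁻¹ = a := by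
  have h1 := mem_centralizer_iff.1 (h.A'X ha) x hx
  rw [h1, mul_inv_cancel_right]

theorem conjA (h : ESet Y O X V P N1 A A' N2 d1 d2) {x a : G} (hx : x ∈ X) (ha : a ∈ A) : x * a * x⁻¹ = a := by
  rw [h.A_eq] at ha
  have h1 := mem_centralizer_iff.1 ha.2 x hx
  rw [h1, mul_inv_cancel_right]

theorem OP (h : ESet Y O X V P N1 A A' N2 d1 d2) : O ≤ normalizer (P : Set G) := by
  rw [h.P_eq]
  exact normalizer_commutator_ge_left _ _

theorem XP (h : ESet Y O X V P N1 A A' N2 d1 d2) : X ≤ normalizer (P : Set G) := by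
  rw [h.P_eq]
  exact normalizer_commutator_ge_right _ _

theorem A'P (h : ESet Y O X V P N1 A A' N2 d1 d2) : A' ≤ normalizer (P : Set G) := by
  rw [h.P_eq]
  refine nrm_comm (h.A'Y.trans h.nO) ?_
  exact h.A'X.trans (centralizer_le_normalizer _)

theorem PO (h : ESet Y O X V P N1 A A' N2 d1 d2) : P ≤ O := h.PN1.trans h.N1O

theorem idx' (h : ESet Y O X V P N1 A A' N2 d1 d2) {M : Subgroup G} (hM : M ≤ O) (hn : O ≤ normalizer (M : Set G)) :
    A.relIndex M ∣ d1 := (relIndex_dvd_nr h.AO hM hn).trans h.idx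

/-- the centraliser `C_{N2}(P)` is contained in the centralisers of sections of `P` -/
theorem C_le (h : ESet Y O X V P N1 A A' N2 d1 d2) {K' K : Subgroup G} (hK' : A' ≤ normalizer (K' : Set G))
    (hK : K ≤ P) : N2 ⊓ centralizer (P : Set G) ≤ CF A' K' K := by
  refine le_CF (inf_le_left.trans h.N2A') ((inf_le_left.trans h.N2A').trans hK') ?_
  refine le_trans (commutator_mono inf_le_right hK) ?_
  rw [commutator_eq_bot_iff_le_centralizer.2 le_rfl]
  exact bot_le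

end ESet

section Main

variable {Y O X V P N1 A A' N2 : Subgroup G} {d1 d2 : ℕ}

/-- (2): `X` acts nontrivially on `M/M'` -/
theorem e2 (h : ESet Y O X V P N1 A A' N2 d1 d2) {M' M : Subgroup G} (c : YC Y M' M) (hMN : M ≤ N1)
    (h1 : ¬ ⁅P ⊓ M, X⁆ ≤ M') : Act d1 M' M := by
  intro hc
  apply h1
  have hMO : M ≤ O := hMN.trans h.N1O
  have hOM : O ≤ normalizer (M : Set G) := h.OY.trans c.nM
  have hle : (A ⊓ M) ⊔ M' ≤ M := sup_le inf_le_right c.lt.le
  have e1 : ((A ⊓ M) ⊔ M').relIndex M ∣ d1 := by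
    refine (relIndex_dvd_of_le_left (L := M) (le_sup_left : A ⊓ M ≤ (A ⊓ M) ⊔ M')).trans ?_
    rw [inf_relIndex_right]
    exact h.idx' hMO hOM
  have e2 : ((A ⊓ M) ⊔ M').relIndex M ∣ M'.relIndex M := relIndex_dvd_of_le_left (L := M) le_sup_right
  have e3 := Nat.eq_one_of_dvd_coprimes hc e2 e1
  have e4 : M ≤ (A ⊓ M) ⊔ M' := relIndex_eq_one.1 e3
  refine (commutator_mono (inf_le_right.trans e4) le_rfl).trans ?_
  refine H231.sup_commutator_le ((inf_le_right.trans c.le).trans c.nM') le_normalizer ?_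
    (comm_le_l (h.XY.trans c.nM'))
  exact (commutator_mono inf_le_left le_rfl).trans (by rw [h.AX]; exact bot_le)

/-- exponents in the abelian case -/
theorem e2b (h : ESet Y O X V P N1 A A' N2 d1 d2) {M' M : Subgroup G} (c : YC Y M' M) (hMN : M ≤ N1)
    (h1 : ¬ ⁅P ⊓ M, X⁆ ≤ M') (hab : ⁅M, M⁆ ≤ M') {q : ℕ} (hq : q.Prime) (hqd : q ∣ d2) :
    ∃ v : ℕ, q.Coprime v ∧ ∀ m ∈ M, m ^ v ∈ M' := by
  have hMO : M ≤ O := hMN.trans h.N1O
  have hOM : O ≤ normalizer (M : Set G) := h.OY.trans c.nM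
  have hMn : M ≤ normalizer (M' : Set G) := c.le.trans c.nM'
  obtain ⟨a, v, hv, hn⟩ := Nat.exists_eq_pow_mul_and_not_dvd (relIndex_pos M' M).ne' q hq.ne_one
  have hqv : q.Coprime v := (Nat.Prime.coprime_iff_not_dvd hq).2 hv
  refine ⟨v, hqv, ?_⟩
  rcases c.min (powSub M' M hMn hab v) (nrm_powSub hMn hab v c.nM c.nM')
    (fun m hm => ⟨c.lt.le hm, M'.pow_mem hm v⟩) (fun m hm => hm.1) with e | e
  · exfalso
    apply h1
    have hp : ∀ m ∈ M, m ^ (q ^ a) ∈ M' := by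
      intro m hm
      rw [← e]
      refine ⟨M.pow_mem hm _, ?_⟩
      rw [← pow_mul, ← hn]
      exact pow_relIndex_mem hMn hm
    have e4 : M ≤ (A ⊓ M) ⊔ M' := by
      intro m hm
      have hM0 : M ≤ normalizer (((A ⊓ M) ⊔ M' : Subgroup G) : Set G) := by
        refine le_normalizer_iff_commutator_le_right.2 ?_
        exact ((commutator_mono le_rfl (sup_le inf_le_right c.lt.le)).trans hab).trans le_sup_right
      have hd : ((A ⊓ M) ⊔ M').relIndex M ∣ d1 := by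
        refine (relIndex_dvd_of_le_left (L := M) (le_sup_left : A ⊓ M ≤ (A ⊓ M) ⊔ M')).trans ?_
        rw [inf_relIndex_right]
        exact h.idx' hMO hOM
      have hcop : (((A ⊓ M) ⊔ M').relIndex M).Coprime (q ^ a) := by
        apply Nat.Coprime.pow_right
        exact (h.cop.coprime_dvd_left hd).coprime_dvd_right hqd
      exact mem_of_pow_coprime hcop (pow_relIndex_mem hM0 hm) (le_sup_right (a := A ⊓ M) (hp m hm))
    refine (commutator_mono (inf_le_right.trans e4) le_rfl).trans ?_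
    refine H231.sup_commutator_le ((inf_le_right.trans c.le).trans c.nM') le_normalizer ?_
      (comm_le_l (h.XY.trans c.nM'))
    exact (commutator_mono inf_le_left le_rfl).trans (by rw [h.AX]; exact bot_le)
  · intro m hm
    rw [← e] at hm
    exact hm.2

/-- the group `H` of a minimal version is not contained in the stabiliser of a chain `K ≥ K' ≥ M'` -/
theorem e34 (h : ESet Y O X V P N1 A A' N2 d1 d2) {M' M L H : Subgroup G} (c : YC Y M' M) (hMN : M ≤ N1)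
    (h1 : ¬ ⁅P ⊓ M, X⁆ ≤ M') (hLH : Chf A' L H) (hact : Act d2 L H)
    (dich : ∀ D : Subgroup G, A' ≤ normalizer (D : Set G) → N2 ⊓ centralizer (P : Set G) ≤ D → H ≤ D ∨ H ⊓ D ≤ L)
    {K' K : Subgroup G} (hK'M : K' ≤ M) (hM'K' : M' ≤ K') (hnK' : M ≤ normalizer (K' : Set G))
    (hKP : K ≤ P) (hKA : A' ≤ normalizer (K : Set G)) (hK'A : A' ≤ normalizer (K' : Set G))
    (hKn : K ≤ normalizer (K' : Set G)) (hKM' : K ≤ normalizer (M' : Set G))
    (h2 : ⁅H, K⁆ ≤ P ⊓ K') (h3 : ⁅H, P ⊓ K'⁆ ≤ M') : ⁅H, K⁆ ≤ M' := by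
  have hHA : H ≤ A' := hLH.le
  have hMn : M ≤ normalizer (M' : Set G) := c.le.trans c.nM'
  have hA'M' : A' ≤ normalizer (M' : Set G) := h.A'Y.trans c.nM'
  have hMP : M ≤ normalizer (P : Set G) := (hMN.trans h.N1O).trans h.OP
  by_cases hab : ⁅M, M⁆ ≤ M'
  · by_contra hcon
    set D := CF A' M' K with hD
    have hDn : A' ≤ normalizer (D : Set G) := nrm_CF le_normalizer hA'M' hKA
    have hHD : ¬ H ≤ D := fun h4 => hcon ((commutator_mono h4 le_rfl).trans (CF_comm _ _ _))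
    have hHDL : H ⊓ D ≤ L := (dich D hDn (h.C_le hA'M' hKP)).resolve_left hHD
    obtain ⟨q, hq, hq1, hq2⟩ := Nat.Prime.not_coprime_iff_dvd.1 hact
    obtain ⟨v, hv, hv2⟩ := e2b h c hMN h1 hab hq hq2
    refine pw (hLH.le.trans hLH.nL) hq hq1 hv fun b hb => hHDL ⟨H.pow_mem hb v, ?_⟩
    refine ⟨A'.pow_mem (hHA hb) v, A'.pow_mem (hHA hb) v |> fun h4 => hA'M' h4, fun n hn => ?_⟩
    have h5 := pow_comm (M' := M') (M := P ⊓ K') ((inf_le_right.trans hK'M).trans hMn) (b := b) (n := n)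
      (fun m hm => h3 (commutator_mem_commutator hb hm)) (h2 (commutator_mem_commutator hb hn))
      ((nrm_inf h.A'P hK'A) (hHA hb)) v
    have h6 := hv2 _ (hK'M (h2 (commutator_mem_commutator hb hn)).2)
    have h7 := M'.mul_mem h5.2 h6
    rwa [inv_mul_cancel_right] at h7
  · set Q := (P ⊓ K') ⊔ M' with hQ
    have hPK'M : P ⊓ K' ≤ M := inf_le_right.trans hK'M
    have hQM : Q ≤ M := sup_le hPK'M c.lt.le
    have hQn : M ≤ normalizer (Q : Set G) := nrm_sup (nrm_inf hMP hnK') hMn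
    refine le_trans (le_CF (h2.trans le_sup_left) (h2.trans (hPK'M.trans hMn)) ?_)
      (n5' c hab hQn le_sup_right hQM)
    have h2' : ⁅H, K⁆ ≤ M := h2.trans hPK'M
    refine H231.commutator_sup_le (hPK'M.trans hMn) le_normalizer ?_ (comm_le_r (h2'.trans hMn))
    refine H231.three_subgroups (P := M') (hHA.trans hA'M') hKM' (hPK'M.trans hMn) ?_ ?_
    · refine le_trans (commutator_mono (comm_le_r (nrm_inf (hKP.trans le_normalizer) hKn)) le_rfl) ?_
      rw [commutator_comm]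
      exact h3
    · rw [commutator_comm (P ⊓ K')]
      exact (commutator_mono h3 le_rfl).trans (comm_le_l hKM')

/-- the chief factor `(K', K)` of `V` -/
structure KK (Y X V P N1 H M' M K' K : Subgroup G) : Prop where
  c : YC Y M' M
  hMN : M ≤ N1
  hX : ¬ ⁅P ⊓ M, X⁆ ≤ M'
  hMV : M ≤ V ⊔ M'
  h1 : M' ≤ K'
  lt : K' < K
  h2 : K ≤ M
  nK' : V ≤ normalizer (K' : Set G)
  nK : V ≤ normalizer (K : Set G)
  min : ∀ J : Subgroup G, V ≤ normalizer (J : Set G) → K' ≤ J → J ≤ K → J = K' ∨ J = K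
  act : ¬ ⁅H, P ⊓ K⁆ ≤ K'

theorem exists_KK (h : ESet Y O X V P N1 A A' N2 d1 d2) {L H : Subgroup G}
    (hC : N2 ⊓ centralizer (P : Set G) ≤ L) (hLH : Chf A' L H) (hH : H ≤ N2) (hact : Act d2 L H)
    (dich : ∀ D : Subgroup G, A' ≤ normalizer (D : Set G) → N2 ⊓ centralizer (P : Set G) ≤ D → H ≤ D ∨ H ⊓ D ≤ L) :
    ∃ M' M K' K, KK Y X V P N1 H M' M K' K := by
  have hHA : H ≤ A' := hLH.le
  obtain ⟨M, ⟨hM1, hM2, hM3⟩, hM4⟩ := Set.Finite.exists_minimal
    (s := {M : Subgroup G | Y ≤ normalizer (M : Set G) ∧ M ≤ N1 ∧ ⁅H, P⁆ ≤ M}) (Set.toFinite _)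
    ⟨N1, h.nN1, le_rfl, (comm_le_r (hHA.trans h.A'P)).trans h.PN1⟩
  have hMb : M ≠ ⊥ := by
    rintro rfl
    apply hLH.lt.not_ge
    refine le_trans (le_inf hH ?_) hC
    rw [← commutator_eq_bot_iff_le_centralizer]
    exact le_bot_iff.1 hM3
  obtain ⟨M', c⟩ := exists_YC (hM2.trans h.N1Y) hM1 hMb
  have hHP : ¬ ⁅H, P⁆ ≤ M' := fun e => c.lt.not_ge (hM4 ⟨c.nM', c.lt.le.trans hM2, e⟩ c.lt.le)
  have hMO : M ≤ O := hM2.trans h.N1O
  have hMn : M ≤ normalizer (M' : Set G) := c.le.trans c.nM'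
  have hPM' : P ≤ normalizer (M' : Set G) := (h.PO.trans h.OY).trans c.nM'
  have hPM : P ≤ normalizer (M : Set G) := (h.PO.trans h.OY).trans c.nM
  have hA'M' : A' ≤ normalizer (M' : Set G) := h.A'Y.trans c.nM'
  have hA'M : A' ≤ normalizer (M : Set G) := h.A'Y.trans c.nM
  have hHPM : ⁅H, P⁆ ≤ P ⊓ M := le_inf (comm_le_r (hHA.trans h.A'P)) hM3
  -- `X` acts nontrivially
  have hX : ¬ ⁅P ⊓ M, X⁆ ≤ M' := by
    intro e
    apply hHP
    have h3 := H231.three_subgroups (P := M') (A := P) (B := X) (C := H) hPM' (h.XY.trans c.nM')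
      (hHA.trans hA'M') ?_ ?_
    · rw [h.PX] at h3
      rwa [commutator_comm]
    · have e1 : ⁅X, H⁆ = ⊥ := by
        rw [eq_bot_iff, ← h.XA']
        exact commutator_mono le_rfl hHA
      rw [e1, commutator_bot_left]
      exact bot_le
    · exact (commutator_mono hHPM le_rfl).trans e
  -- faithful on `P ⊓ M`
  have hf : ¬ ⁅H, P ⊓ M⁆ ≤ M' := fun e => hHP
    (e34 h c hM2 hX hLH hact dich le_rfl c.lt.le le_normalizer le_rfl h.A'P hA'M hPM hPM' hHPM e)
  have hMV : M ≤ V ⊔ M' := by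
    have hV : Y ≤ normalizer ((⁅M, V⁆ ⊔ M' : Subgroup G) : Set G) := nrm_sup (nrm_comm c.nM h.nV) c.nM'
    rcases c.min (⁅M, V⁆ ⊔ M') hV le_sup_right (sup_le (comm_le_l (h.VY.trans c.nM)) c.lt.le) with e | e
    · exfalso
      apply hf
      have e1 : ⁅M, V⁆ ≤ M' := by rw [← e]; exact le_sup_left
      refine le_trans ?_ e1
      rw [commutator_comm]
      exact commutator_mono inf_le_right (hHA.trans h.A'V)
    · rw [← e]
      exact sup_le_sup_right (comm_le_r (c.le.trans h.nV)) _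
  obtain ⟨K, ⟨hK1, hK2, hK3, hK4⟩, hK5⟩ := Set.Finite.exists_minimal
    (s := {K : Subgroup G | V ≤ normalizer (K : Set G) ∧ M' ≤ K ∧ K ≤ M ∧ ¬ ⁅H, P ⊓ K⁆ ≤ M'}) (Set.toFinite _)
    ⟨M, h.VY.trans c.nM, c.lt.le, le_rfl, hf⟩
  have hKM' : M' < K := by
    refine lt_of_le_of_ne hK2 fun e => hK4 ?_
    rw [← e]
    exact (commutator_mono le_rfl inf_le_right).trans (comm_le_r (hHA.trans hA'M'))
  obtain ⟨K', ⟨hK'1, hK'2, hK'3⟩, hK'4⟩ := Set.Finite.exists_maximal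
    (s := {J : Subgroup G | V ≤ normalizer (J : Set G) ∧ M' ≤ J ∧ J < K}) (Set.toFinite _)
    ⟨M', h.VY.trans c.nM', le_rfl, hKM'⟩
  have hHK' : ⁅H, P ⊓ K'⁆ ≤ M' := by
    by_contra e
    exact hK'3.not_ge (hK5 ⟨hK'1, hK'2, hK'3.le.trans hK3, e⟩ hK'3.le)
  have hMK' : M ≤ normalizer (K' : Set G) := hMV.trans (sup_le hK'1 (hK'2.trans le_normalizer))
  refine ⟨M', M, K', K, c, hM2, hX, hMV, hK'2, hK'3, hK3, hK'1, hK1, fun J hJ hJ1 hJ2 => ?_, fun e => hK4 ?_⟩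
  · rcases eq_or_lt_of_le hJ2 with e | e
    · exact Or.inr e
    · exact Or.inl (le_antisymm (hK'4 ⟨hJ, hK'2.trans hJ1, e⟩ hJ1) hJ1)
  · have hA'K : A' ≤ normalizer ((P ⊓ K : Subgroup G) : Set G) := nrm_inf h.A'P (h.A'V.trans hK1)
    refine e34 h c hM2 hX hLH hact dich (hK'3.le.trans hK3) hK'2 hMK' inf_le_left hA'K
      (h.A'V.trans hK'1) ((inf_le_right.trans hK3).trans hMK') ((inf_le_right.trans hK3).trans hMn) ?_ hHK'
    exact le_inf ((comm_le_r (hHA.trans hA'K)).trans inf_le_left) e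

end Main

end Cfsg.Agent.R2.T3544
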