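import Cfsg.Agent.R2.T3544.LemE2

/-!
# S3544: Lemma E, the weights
-/

set_option autoImplicit false
set_option linter.unusedSectionVars false

namespace Cfsg.Agent.R2.T3544

open Subgroup
open scoped commutatorElement

variable {G : Type*} [Group G] [Finite G]

section Main

variable {Y O X V P N1 A A' N2 : Subgroup G} {d1 d2 : ℕ} {L H M' M K' K : Subgroup G}

theorem KK.nMK' (k : KK Y X V P N1 H M' M K' K) : M ≤ normalizer (K' : Set G) :=
  k.hMV.trans (sup_le k.nK' (k.h1.trans le_normalizer))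

theorem KK.nMK (k : KK Y X V P N1 H M' M K' K) : M ≤ normalizer (K : Set G) :=
  k.hMV.trans (sup_le k.nK ((k.h1.trans k.lt.le).trans le_normalizer))

theorem KK.nKK' (k : KK Y X V P N1 H M' M K' K) : K ≤ normalizer (K' : Set G) := k.h2.trans k.nMK'

theorem KK.nMM' (k : KK Y X V P N1 H M' M K' K) : M ≤ normalizer (M' : Set G) := k.c.le.trans k.c.nM'

/-- (6): the factor `K/K'` is not coprime to `d1` -/
theorem e6 (h : ESet Y O X V P N1 A A' N2 d1 d2) (k : KK Y X V P N1 H M' M K' K) : Act d1 K' K := by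
  have ha := e2 h k.c k.hMN k.hX
  have hMn := k.nMM'
  intro hc
  by_cases hab : ⁅M, M⁆ ≤ M'
  · obtain ⟨p, hp, hp1, hp2⟩ := Nat.Prime.not_coprime_iff_dvd.1 ha
    obtain ⟨a, v, hv, hn⟩ := Nat.exists_eq_pow_mul_and_not_dvd (relIndex_pos M' M).ne' p hp.ne_one
    have hpv : p.Coprime v := (Nat.Prime.coprime_iff_not_dvd hp).2 hv
    rcases k.c.min (powSub M' M hMn hab v) (nrm_powSub hMn hab v k.c.nM k.c.nM')
      (fun m hm => ⟨k.c.lt.le hm, M'.pow_mem hm v⟩) (fun m hm => hm.1) with e | e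
    · have hpow : ∀ m ∈ M, m ^ (p ^ a) ∈ M' := by
        intro m hm
        rw [← e]
        refine ⟨M.pow_mem hm _, ?_⟩
        rw [← pow_mul, ← hn]
        exact pow_relIndex_mem hMn hm
      have h1 : K'.relIndex K ≠ 1 := fun h1 => k.lt.not_ge (relIndex_eq_one.1 h1)
      obtain ⟨q, hq, hq1⟩ := Nat.exists_prime_and_dvd h1
      have hqp : q.Coprime (p ^ a) := by
        apply Nat.Coprime.pow_right
        rw [Nat.coprime_primes hq hp]
        rintro rfl
        exact Nat.Prime.not_coprime_iff_dvd.2 ⟨q, hq, hq1, hp2⟩ hc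
      exact pw k.nKK' hq hq1 hqp fun b hb => k.h1 (hpow b (k.h2 hb))
    · exact pw hMn hp hp1 hpv fun b hb => by
        rw [← e] at hb
        exact hb.2
  · obtain ⟨N, hN, hNK, hNK'⟩ := n6 k.c hab k.nMK' k.nMK k.h1 k.lt k.h2
    have h4 := n4 hN k.nMK' k.h1 (k.lt.le.trans k.h2) hNK'
    have h5 : M'.relIndex N = K'.relIndex N := by
      rw [← inf_relIndex_right K' N, inf_comm, h4.1]
    have h6 : (M'.relIndex N).Coprime d1 := by
      rw [h5]
      exact Nat.Coprime.coprime_dvd_left (relIndex_dvd_nl hNK k.nKK') hc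
    apply ha
    refine coprime_iSup (K := fun g : Y => N.map (MulAut.conj (g : G)).toMonoidHom) hMn k.c.lt.le
      (fun g => (k.c.conj hN g.2).lt.le) (fun g => (k.c.conj hN g.2).le) (fun g => (k.c.conj hN g.2).nH) (fun g => ?_)
      (k.c.iSup hN)
    have e1 := card_rel (k.c.conj hN g.2).lt.le
    have e2 := card_rel hN.lt.le
    have e3 : Nat.card (N.map (MulAut.conj (g : G)).toMonoidHom) = Nat.card N :=
      card_map_of_injective (MulAut.conj (g : G)).injective
    have e4 : 0 < Nat.card M' := Nat.card_pos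
    have e5 : M'.relIndex (N.map (MulAut.conj (g : G)).toMonoidHom) = M'.relIndex N := by
      apply Nat.eq_of_mul_eq_mul_left e4
      rw [e1, e2, e3]
    rwa [e5]

/-- (5), first part -/
theorem e5a (h : ESet Y O X V P N1 A A' N2 d1 d2) (k : KK Y X V P N1 H M' M K' K) (hLH : Chf A' L H)
    (dich : ∀ D : Subgroup G, A' ≤ normalizer (D : Set G) → N2 ⊓ centralizer (P : Set G) ≤ D → H ≤ D ∨ H ⊓ D ≤ L) :
    H ⊓ CF A' K' K ≤ L := by
  have hA'K' : A' ≤ normalizer (K' : Set G) := h.A'V.trans k.nK'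
  have hA'K : A' ≤ normalizer (K : Set G) := h.A'V.trans k.nK
  have h1 := dich (CF A' K' (P ⊓ K)) (nrm_CF le_normalizer hA'K' (nrm_inf h.A'P hA'K)) (h.C_le hA'K' inf_le_left)
  rcases h1 with h1 | h1
  · exact absurd ((commutator_mono h1 le_rfl).trans (CF_comm _ _ _)) k.act
  · refine le_trans (inf_le_inf_left _ ?_) h1
    refine le_CF (CF_le _ _ _) ((CF_le _ _ _).trans hA'K') ?_
    exact (commutator_mono le_rfl inf_le_right).trans (CF_comm _ _ _)

/-- `K = (K ⊓ ⁅K, V⁆) K'` -/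
theorem KK.eq (h : ESet Y O X V P N1 A A' N2 d1 d2) (k : KK Y X V P N1 H M' M K' K) (hH : H ≤ A') :
    K ≤ ⁅K, V⁆ ⊔ K' := by
  have h1 : V ≤ normalizer ((⁅K, V⁆ ⊔ K' : Subgroup G) : Set G) := nrm_sup (nrm_comm k.nK le_normalizer) k.nK'
  rcases k.min _ h1 le_sup_right (sup_le (comm_le_l k.nK) k.lt.le) with e | e
  · exfalso
    apply k.act
    rw [commutator_comm]
    refine (commutator_mono inf_le_right (hH.trans h.A'V)).trans ?_
    rw [← e]
    exact le_sup_left
  · exact e.ge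

/-- X does not move -/
theorem e7a (h : ESet Y O X V P N1 A A' N2 d1 d2) (k : KK Y X V P N1 H M' M K' K) (hH : H ≤ A')
    (hV : V ≤ A' ⊔ CF V K' K) (hna : ¬ ⁅K, K⁆ ≤ K')
    (hX : ∀ N, Chf M M' N → X ≤ normalizer (N : Set G)) : False := by
  have hab : ¬ ⁅M, M⁆ ≤ M' := fun e => hna (((commutator_mono k.h2 k.h2).trans e).trans k.h1)
  have hMn := k.nMM'
  have hA'K' : A' ≤ normalizer (K' : Set G) := h.A'V.trans k.nK'
  have hA'K : A' ≤ normalizer (K : Set G) := h.A'V.trans k.nK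
  have hPY : P ≤ Y := h.PO.trans h.OY
  -- `P` normalises all
  have hP : ∀ N, Chf M M' N → P ≤ normalizer (N : Set G) := by
    intro N hN
    rw [← h.PX]
    rw [commutator_le]
    intro p hp x hx
    have h1 := k.c.conj hN (g := p⁻¹) (Y.inv_mem (hPY hp))
    have h2 := nrm_iff.1 (hX _ h1) x hx
    have h3 := nrm_iff.1 (hX _ hN) x⁻¹ (X.inv_mem hx)
    have h4 : N.map (MulAut.conj ⁅p, x⁆).toMonoidHom = N := by
      have e : (MulAut.conj ⁅p, x⁆).toMonoidHom = (MulAut.conj p).toMonoidHom.comp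
          ((MulAut.conj x).toMonoidHom.comp ((MulAut.conj p⁻¹).toMonoidHom.comp (MulAut.conj x⁻¹).toMonoidHom)) := by
        ext y
        show ⁅p, x⁆ * y * ⁅p, x⁆⁻¹ = p * (x * (p⁻¹ * (x⁻¹ * y * x⁻¹⁻¹) * p⁻¹⁻¹) * x⁻¹) * p⁻¹
        simp only [commutatorElement_def]
        group
      rw [e, ← Subgroup.map_map, ← Subgroup.map_map, ← Subgroup.map_map, h3, h2, Subgroup.map_map]
      have : (MulAut.conj p).toMonoidHom.comp (MulAut.conj p⁻¹).toMonoidHom = MonoidHom.id G := by
        ext y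
        simp [mul_assoc]
      rw [this, Subgroup.map_id]
    rw [mem_normalizer_iff]
    intro y
    constructor
    · intro hy
      rw [← h4]
      exact ⟨y, hy, rfl⟩
    · intro hy
      rw [← h4] at hy
      obtain ⟨z, hz, hzy⟩ := hy
      have : z = y := mul_left_cancel (mul_right_cancel (show ⁅p, x⁆ * z * ⁅p, x⁆⁻¹ = ⁅p, x⁆ * y * ⁅p, x⁆⁻¹ from hzy))
      rwa [← this]
  -- `K = (P ⊓ K) K'`
  have hVn : V ≤ normalizer (((P ⊓ K) ⊔ K' : Subgroup G) : Set G) := by
    refine hV.trans (sup_le (nrm_sup (nrm_inf h.A'P hA'K) hA'K') ?_)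
    rw [le_normalizer_iff_commutator_le_right]
    exact ((commutator_mono le_rfl (sup_le inf_le_right k.lt.le)).trans (CF_comm _ _ _)).trans le_sup_right
  have hKeq : K = (P ⊓ K) ⊔ K' := by
    rcases k.min _ hVn le_sup_right (sup_le inf_le_right k.lt.le) with e | e
    · exfalso
      apply k.act
      have e1 : P ⊓ K ≤ K' := by
        have : P ⊓ K ≤ (P ⊓ K) ⊔ K' := le_sup_left
        rwa [e] at this
      exact (commutator_mono le_rfl e1).trans (comm_le_r (hH.trans hA'K'))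
    · exact e.symm
  obtain ⟨N, hN, hNK, hNK'⟩ := n6 k.c hab k.nMK' k.nMK k.h1 k.lt k.h2
  have h4 := n4 hN k.nMK' k.h1 (k.lt.le.trans k.h2) hNK'
  have hNM' : N ≤ normalizer (M' : Set G) := hN.le.trans hMn
  have hNK'n : N ≤ normalizer (K' : Set G) := hN.le.trans k.nMK'
  -- `CF V K' K` normalises `N` and centralises it modulo `M'`
  have hKVn : CF V K' K ≤ normalizer (N : Set G) := by
    rw [nrm_iff]
    intro g hg
    by_contra hne
    have hgY : g ∈ Y := h.VY hg.1
    have hNg := k.c.conj hN hgY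
    have h5 := n1 hN hNg (Ne.symm hne)
    apply n2 k.c hab hN
    have h6 : N ≤ N.map (MulAut.conj g).toMonoidHom ⊔ K' := by
      intro n hn
      have h7 : ⁅g, n⁆ ∈ K' := hg.2.2 n (hNK hn)
      have h8 : n = (n * (⁅g, n⁆⁻¹ * ⁅g, n⁆) * n⁻¹) * n := by group
      have h9 : g * n * g⁻¹ ∈ N.map (MulAut.conj g).toMonoidHom := ⟨n, hn, rfl⟩
      have h10 : n = ⁅g, n⁆⁻¹ * (g * n * g⁻¹) := by
        simp only [commutatorElement_def]
        group
      rw [h10]
      exact mul_mem (mem_sup_right (K'.inv_mem h7)) (mem_sup_left h9)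
    refine (commutator_mono le_rfl h6).trans ?_
    refine H231.commutator_sup_le (((k.c.conj hN hgY).le).trans hMn) ((k.lt.le.trans k.h2).trans hMn) h5 h4.2
  have hKVc : ⁅CF V K' K, N⁆ ≤ M' := by
    rw [← h4.1]
    exact le_inf (comm_le_r hKVn) ((commutator_mono le_rfl hNK).trans (CF_comm _ _ _))
  -- the centraliser of `N / M'`
  set C := CF Y M' N with hC
  have hM'C : M' ≤ C := le_CF (k.c.lt.le.trans k.c.le) le_normalizer (comm_le_l hNM')
  have hKVC : CF V K' K ≤ C := le_CF ((CF_le _ _ _).trans h.VY) (((CF_le _ _ _).trans h.VY).trans k.c.nM') hKVc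
  have hCN : C ≤ normalizer (N : Set G) := by
    rw [le_normalizer_iff_commutator_le_right]
    exact (CF_comm _ _ _).trans hN.lt.le
  have hNC : N ≤ normalizer (C : Set G) :=
    nrm_CF ((hN.le.trans k.c.le).trans le_normalizer) hNM' le_normalizer
  have hXC : X ≤ normalizer (C : Set G) :=
    nrm_CF (h.XY.trans le_normalizer) (h.XY.trans k.c.nM') (hX N hN)
  have hKVMn : A' ≤ normalizer ((CF V K' K ⊔ M' : Subgroup G) : Set G) :=
    nrm_sup (nrm_CF (h.A'V.trans le_normalizer) hA'K' hA'K) (h.A'Y.trans k.c.nM')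
  have hNle : N ≤ A' ⊔ (CF V K' K ⊔ M') := by
    refine (hN.le.trans k.hMV).trans ?_
    refine sup_le (hV.trans (sup_le le_sup_left (le_sup_left.trans le_sup_right))) (le_sup_right.trans le_sup_right)
  have hXNC : ⁅N, X⁆ ≤ C := by
    rw [commutator_le]
    intro n hn x hx
    obtain ⟨a, ha, c, hc, rfl⟩ := (mem_sup_nl hKVMn).1 (hNle hn)
    have hcC : c ∈ C := sup_le hKVC hM'C hc
    have haC : a ∈ normalizer (C : Set G) := by
      have h5 := (normalizer (C : Set G)).mul_mem (hNC hn) (inv_mem (le_normalizer hcC))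
      rwa [mul_inv_cancel_right] at h5
    have h6 : ⁅c, x⁆ ∈ C := comm_le_l hXC (commutator_mem_commutator hcC hx)
    have h7 := (mem_normalizer_iff.1 haC _).1 h6
    have h8 := h.conjA' hx ha
    have e : ⁅a * c, x⁆ = a * ⁅c, x⁆ * a⁻¹ := by
      have : ⁅a * c, x⁆ = a * ⁅c, x⁆ * (x * a * x⁻¹)⁻¹ := by
        simp only [commutatorElement_def]
        group
      rw [this, h8]
    rwa [e]
  have hXN : ⁅N, X⁆ ≤ M' := by
    refine le_trans ?_ (n5' k.c hab hN.nH hN.lt.le hN.le)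
    have h5 : ⁅N, X⁆ ≤ N := comm_le_l (hX N hN)
    refine le_CF h5 (h5.trans hNM') ?_
    exact (commutator_mono hXNC le_rfl).trans (CF_comm _ _ _)
  have hPN : ⁅P, N⁆ ≤ M' := by
    have h3 := H231.three_subgroups (P := M') (A := P) (B := X) (C := N) (hPY.trans k.c.nM') (h.XY.trans k.c.nM')
      hNM' ?_ ?_
    · rwa [h.PX] at h3
    · rw [commutator_comm X N]
      exact (commutator_mono hXN le_rfl).trans (comm_le_l (hPY.trans k.c.nM'))
    · exact (commutator_mono (comm_le_l (hP N hN)) le_rfl).trans hXN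
  apply n2 k.c hab hN
  have hKM' : K ≤ normalizer (M' : Set G) := k.h2.trans hMn
  refine (commutator_mono (hNK.trans hKeq.le) le_rfl).trans ?_
  refine H231.sup_commutator_le (inf_le_right.trans hKM') (k.lt.le.trans hKM') ?_ ?_
  · exact (commutator_mono inf_le_left le_rfl).trans hPN
  · rw [commutator_comm]
    exact h4.2

end Main

end Cfsg.Agent.R2.T3544
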