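import Mathlib
import Cfsg.Agent.S0003
import Cfsg.Agent.S0664
import Cfsg.Agent.S0665
import Cfsg.Agent.Lib.Cores
import Cfsg.Agent.Lib.Involves
import Cfsg.Agent.PLocal.QdSection
import Cfsg.Agent.PLocal.ThompsonJA
import Cfsg.Agent.SignalizersComponents.SLQuasisimple
import Cfsg.Agent.SignalizersComponents.ComponentExists

/-!
# S3544, the local theorem for soluble point stabilizers: the characteristic subgroup `W` (helper29)

A nontrivial finite `r`-group `R` has a nontrivial characteristic subgroup `W` such that for every finite soluble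
group `A` of characteristic `r` with Sylow `r`-subgroup `R` the index of `N_A(W)` is a power of `3` for `r = 2`, of
`2` for `r = 3`, and `1` for `r ≥ 5`: `W` is Stellmacher's subgroup for `r = 2` and Glauberman's `Z(J(R))` for `r`
odd, applied in a Hall subgroup of `A` above `R`.
-/

set_option autoImplicit false

namespace Cfsg.Agent.R2.T3544

open Subgroup Cfsg

universe u

/-- a Hall `t'`-subgroup above a given Sylow `r`-subgroup of a soluble group -/
theorem exists_hall_ge {A : Type*} [Group A] [Finite A] [Group.IsSolvable A] {r t : ℕ} [hr : Fact r.Prime]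
    (ht : t.Prime) (hrt : r ≠ t) (P : Sylow r A) :
    ∃ H : Subgroup A, (P : Subgroup A) ≤ H ∧ ¬ t ∣ Nat.card H ∧ ∃ k, H.index = t ^ k := by
  have hA : Nat.card A ≠ 0 := Nat.card_pos.ne'
  set n := t ^ (Nat.card A).factorization t with hn
  have hdvd : n ∣ Nat.card A := Nat.ordProj_dvd _ _
  have hcop : Nat.Coprime (Nat.card A / n) t := (Nat.coprime_ordCompl ht hA).symm
  obtain ⟨H₀, hH₀⟩ := Cfsg.Agent.S0003.result (G := A) (Nat.card A / n) n
    (Nat.div_mul_cancel hdvd).symm (hcop.pow_right _)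
  have hnpos : 0 < n := pow_pos ht.pos _
  have hidx : H₀.index = n := by
    have h1 := H₀.card_mul_index
    rw [hH₀] at h1
    have h2 : Nat.card A / n * n = Nat.card A := Nat.div_mul_cancel hdvd
    have h3 : 0 < Nat.card A / n := Nat.div_pos (Nat.le_of_dvd (Nat.pos_of_ne_zero hA) hdvd) hnpos
    exact Nat.eq_of_mul_eq_mul_left h3 (h1.trans h2.symm)
  obtain ⟨Q⟩ : Nonempty (Sylow r H₀) := inferInstance
  have hQp : IsPGroup r ((Q : Subgroup H₀).map H₀.subtype) := Q.isPGroup'.map _
  have hQi : ¬ r ∣ ((Q : Subgroup H₀).map H₀.subtype).index := by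
    rw [Subgroup.index_map_subtype, hr.out.dvd_mul, not_or]
    refine ⟨Q.not_dvd_index, ?_⟩
    rw [hidx, hn]
    intro h
    exact hrt ((Nat.prime_dvd_prime_iff_eq hr.out ht).1 (hr.out.dvd_of_dvd_pow h))
  let P' : Sylow r A := hQp.toSylow hQi
  obtain ⟨g, hg⟩ := MulAction.exists_smul_eq A P' P
  refine ⟨H₀.map (MulAut.conj g).toMonoidHom, ?_, ?_, (Nat.card A).factorization t, ?_⟩
  · rw [← hg]
    rintro x hx
    have hx2 : x ∈ (P' : Subgroup A).map (MulAut.conj g).toMonoidHom := hx
    refine Subgroup.map_mono ?_ hx2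
    intro y hy
    have hy2 : y ∈ (Q : Subgroup H₀).map H₀.subtype := hy
    obtain ⟨z, _, rfl⟩ := hy2
    exact z.2
  · rw [Subgroup.card_map_of_injective (MulAut.conj g).injective, hH₀]
    intro h
    have := Nat.Coprime.eq_one_of_dvd hcop.symm h
    exact ht.one_lt.ne' this
  · rw [← hn, ← hidx]
    exact Subgroup.index_map_equiv H₀ (MulAut.conj g)

/-- characteristic `r` is inherited by the subgroups above a Sylow `r`-subgroup -/
theorem centralizer_pCore_restr {A : Type*} [Group A] [Finite A] {r : ℕ} [Fact r.Prime] (P : Sylow r A)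
    (H : Subgroup A) (hPH : (P : Subgroup A) ≤ H)
    (hc : Subgroup.centralizer (Cfsg.pCore r A : Set A) ≤ Cfsg.pCore r A) :
    Subgroup.centralizer (Cfsg.pCore r H : Set H) ≤ Cfsg.pCore r H := by
  have hle : Cfsg.pCore r A ≤ (P : Subgroup A) :=
    IsPGroup.le_sylow_of_normal (Cfsg.Agent.Lib.Cores.pCore_isPGroup r) P
  have h1 : (Cfsg.pCore r A).subgroupOf H ≤ Cfsg.pCore r H := by
    refine Cfsg.Agent.Lib.Cores.le_pCore inferInstance ?_
    exact (Cfsg.Agent.Lib.Cores.pCore_isPGroup (G := A) r).comap_of_injective H.subtype H.subtype_injective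
  intro x hx
  apply h1
  rw [Subgroup.mem_subgroupOf]
  apply hc
  rw [Subgroup.mem_centralizer_iff]
  intro y hy
  have hyH : y ∈ H := hPH (hle hy)
  have h2 := Subgroup.mem_centralizer_iff.1 hx ⟨y, hyH⟩ (h1 (Subgroup.mem_subgroupOf.2 hy))
  exact congrArg Subtype.val h2

/-- `W` normal in `H` for every embedding gives `H ≤ N_A(W)` -/
theorem le_normalizer_of_restr {A R : Type*} [Group A] [Group R] [Finite A] {r : ℕ} [Fact r.Prime]
    (W : Subgroup R) (τ : R →* A) (hτ : Function.Injective τ) (P : Sylow r A) (hP : (P : Subgroup A) = τ.range)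
    (H : Subgroup A) (hPH : (P : Subgroup A) ≤ H)
    (hn : ∀ τ' : R →* H, Function.Injective τ' → (∃ Q : Sylow r H, (Q : Subgroup H) = τ'.range) →
      (W.map τ').Normal) :
    H ≤ Subgroup.normalizer (W.map τ : Set A) := by
  have hmem : ∀ x, τ x ∈ H := fun x => hPH (by rw [hP]; exact ⟨x, rfl⟩)
  have h1 := hn (τ.codRestrict H hmem) (fun a b h => hτ (congrArg Subtype.val h)) ⟨P.subtype hPH, by
    ext y
    rw [Sylow.coe_subtype, Subgroup.mem_subgroupOf, hP]
    constructor
    · rintro ⟨x, hx⟩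
      exact ⟨x, Subtype.ext hx⟩
    · rintro ⟨x, hx⟩
      exact ⟨x, congrArg Subtype.val hx⟩⟩
  intro h hh
  rw [Subgroup.mem_normalizer_iff]
  have key : ∀ (g : A), g ∈ H → ∀ x, x ∈ W.map τ → g * x * g⁻¹ ∈ W.map τ := by
    rintro g hg _ ⟨w, hw, rfl⟩
    obtain ⟨w', hw', hw2⟩ := h1.conj_mem (τ.codRestrict H hmem w) ⟨w, hw, rfl⟩ ⟨g, hg⟩
    exact ⟨w', hw', congrArg Subtype.val hw2⟩
  intro x
  refine ⟨key h hh x, fun hx => ?_⟩
  have := key h⁻¹ (H.inv_mem hh) _ hx
  simpa [mul_assoc] using this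

/-- the order of a section divides the order -/
theorem card_section_dvd {H Y : Type*} [Group H] [Finite H] [Group Y]
    (h : ∃ (K R : Subgroup H) (_ : (R.subgroupOf K).Normal), Nonempty ((K ⧸ R.subgroupOf K) ≃* Y)) :
    Nat.card Y ∣ Nat.card H := by
  obtain ⟨K, R, hR, ⟨e⟩⟩ := h
  rw [← Nat.card_congr e.toEquiv]
  exact (Subgroup.card_quotient_dvd_card _).trans (Subgroup.card_subgroup_dvd_card K)

/-- a section of a soluble group is soluble -/
theorem isSolvable_of_section {H Y : Type*} [Group H] [hs : Group.IsSolvable H] [Group Y]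
    (h : ∃ (K R : Subgroup H) (_ : (R.subgroupOf K).Normal), Nonempty ((K ⧸ R.subgroupOf K) ≃* Y)) :
    Group.IsSolvable Y := by
  obtain ⟨K, R, hR, ⟨e⟩⟩ := h
  exact Group.isSolvable_of_surjective (f := e.toMonoidHom) e.surjective

/-- the embedding of `SL(2,r)` into `Qd(r)` -/
def qdDiag (r : ℕ) : Cfsg.Agent.PLocal.QdSection.S2 r →* Cfsg.qd r :=
  (Cfsg.Agent.PLocal.QdSection.diag (p := r)).codRestrict (Cfsg.qd r)
    Cfsg.Agent.PLocal.QdSection.diag_mem_qd

theorem qdDiag_injective (r : ℕ) : Function.Injective (qdDiag r) := by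
  intro A B h
  have h1 : Cfsg.Agent.PLocal.QdSection.diag A = Cfsg.Agent.PLocal.QdSection.diag B :=
    congrArg Subtype.val h
  have h2 : ((Cfsg.Agent.PLocal.QdSection.diag A : Matrix.SpecialLinearGroup (Fin 3) (ZMod r)) :
      Matrix (Fin 3) (Fin 3) (ZMod r)) = (Cfsg.Agent.PLocal.QdSection.diag B :
        Matrix.SpecialLinearGroup (Fin 3) (ZMod r)) := congrArg Subtype.val h1
  rw [Cfsg.Agent.PLocal.QdSection.diag_apply, Cfsg.Agent.PLocal.QdSection.diag_apply] at h2
  ext i j
  have h00 := congrFun (congrFun h2 0) 0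
  have h01 := congrFun (congrFun h2 0) 1
  have h10 := congrFun (congrFun h2 1) 0
  have h11 := congrFun (congrFun h2 1) 1
  simp at h00 h01 h10 h11
  fin_cases i <;> fin_cases j <;> simp [h00, h01, h10, h11]

theorem qd_not_isSolvable {r : ℕ} [hr : Fact r.Prime] (h4 : 4 ≤ r) : ¬ Group.IsSolvable (Cfsg.qd r) := by
  intro h
  have h1 : Group.IsSolvable (Cfsg.Agent.PLocal.QdSection.S2 r) :=
    Group.isSolvable_of_isSolvable_injective (f := qdDiag r) (qdDiag_injective r)
  refine Cfsg.Agent.SignalizersComponents.ComponentExists.not_isSolvable_of_isQuasisimple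
    (Cfsg.Agent.SignalizersComponents.SLQuasisimple.isQuasisimple_two (F := ZMod r) ?_) h1
  rwa [Nat.card_zmod]

theorem two_dvd_card_qd_three : 2 ∣ Nat.card (Cfsg.qd 3) := by
  have h1 : (-1 : Cfsg.Agent.PLocal.QdSection.S2 3) ≠ 1 := by decide
  have h2 : orderOf (-1 : Cfsg.Agent.PLocal.QdSection.S2 3) = 2 := by
    refine orderOf_eq_prime (by decide) h1
  have h3 : orderOf (qdDiag 3 (-1)) = 2 := by
    rw [orderOf_injective _ (qdDiag_injective 3), h2]
  rw [← h3]
  exact orderOf_dvd_natCard _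

/-- **the characteristic subgroup of the local theorem for soluble point stabilizers** -/
theorem exists_charW {r : ℕ} [hr : Fact r.Prime] {R : Type u} [Group R] [Finite R] [Nontrivial R]
    (hR : IsPGroup r R) :
    ∃ W : Subgroup R, W ≠ ⊥ ∧ W.Characteristic ∧
      ∀ (A : Type u) [Group A] [Finite A] [Group.IsSolvable A] (τ : R →* A), Function.Injective τ →
        (∃ P : Sylow r A, (P : Subgroup A) = τ.range) →
        Subgroup.centralizer (Cfsg.pCore r A : Set A) ≤ Cfsg.pCore r A →
        ∀ s : ℕ, s.Prime → s ∣ (Subgroup.normalizer (W.map τ : Set A)).index →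
          (r = 2 ∧ s = 3) ∨ (r = 3 ∧ s = 2) := by
  by_cases h2 : r = 2
  · subst h2
    obtain ⟨W, hW1, hW2, hW3⟩ := Cfsg.Agent.S0665.result hR
    refine ⟨W, hW1, hW2, ?_⟩
    rintro A _ _ _ τ hτ ⟨P, hP⟩ hc s hs hsd
    obtain ⟨H, hPH, hH3, k, hk⟩ := exists_hall_ge (r := 2) Nat.prime_three (by decide) P
    have hle := le_normalizer_of_restr W τ hτ P hP H hPH (fun τ' hτ' hQ => hW3 H τ' hτ' hQ (by
      intro h
      apply hH3
      refine dvd_trans ?_ (card_section_dvd h)
      rw [Nat.card_eq_fintype_card, Fintype.card_perm, Fintype.card_fin]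
      decide) (centralizer_pCore_restr P H hPH hc))
    have h1 : s ∣ 3 ^ k := by
      rw [← hk]
      exact hsd.trans (Subgroup.index_dvd_of_le hle)
    exact Or.inl ⟨rfl, (Nat.prime_dvd_prime_iff_eq hs Nat.prime_three).1 (hs.dvd_of_dvd_pow h1)⟩
  · have htop : (⊤ : Subgroup R) ≠ ⊥ := top_ne_bot
    refine ⟨centerThompsonAOf (⊤ : Subgroup R),
      Cfsg.Agent.PLocal.ThompsonJA.centerThompsonAOf_ne_bot ⊤
        (hR.of_injective (⊤ : Subgroup R).subtype (Subgroup.subtype_injective _)) htop, ?_, ?_⟩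
    · rw [Subgroup.characteristic_iff_map_eq]
      intro φ
      have := Cfsg.Agent.PLocal.ThompsonJA.map_centerThompsonAOf φ.toMonoidHom φ.injective ⊤
      rw [this, Subgroup.map_top_of_surjective _ φ.surjective]
    · rintro A _ _ _ τ hτ ⟨P, hP⟩ hc s hs hsd
      have hWmap : ∀ (B : Type u) [Group B] (τ' : R →* B), Function.Injective τ' →
          (centerThompsonAOf (⊤ : Subgroup R)).map τ' = centerThompsonAOf τ'.range := by
        intro B _ τ' hτ'
        rw [Cfsg.Agent.PLocal.ThompsonJA.map_centerThompsonAOf τ' hτ', ← MonoidHom.range_eq_map]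
      by_cases h3 : r = 3
      · subst h3
        obtain ⟨H, hPH, hH2, k, hk⟩ := exists_hall_ge (r := 3) Nat.prime_two (by decide) P
        have hle := le_normalizer_of_restr (centerThompsonAOf (⊤ : Subgroup R)) τ hτ P hP H hPH
          (fun τ' hτ' hQ => by
            obtain ⟨Q, hQ⟩ := hQ
            rw [hWmap H τ' hτ', ← hQ]
            refine Cfsg.Agent.S0664.result h2 ?_ (centralizer_pCore_restr P H hPH hc) Q
            intro h
            exact hH2 (two_dvd_card_qd_three.trans (card_section_dvd h)))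
        have h1 : s ∣ 2 ^ k := by
          rw [← hk]
          exact hsd.trans (Subgroup.index_dvd_of_le hle)
        exact Or.inr ⟨rfl, (Nat.prime_dvd_prime_iff_eq hs Nat.prime_two).1 (hs.dvd_of_dvd_pow h1)⟩
      · exfalso
        have hn : ((centerThompsonAOf (⊤ : Subgroup R)).map τ).Normal := by
          rw [hWmap A τ hτ, ← hP]
          refine Cfsg.Agent.S0664.result h2 ?_ hc P
          intro h
          have h4 : 4 ≤ r := by
            have := hr.out.two_le
            omega
          exact qd_not_isSolvable h4 (isSolvable_of_section h)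
        rw [Subgroup.normalizer_eq_top, Subgroup.index_top] at hsd
        exact hs.one_lt.ne' (Nat.dvd_one.1 hsd)

end Cfsg.Agent.R2.T3544
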