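import Mathlib
import Cfsg.Agent.R2.T3544.Sys

/-!
# S3544: the intensive measure (helper18, helper10)

Two directions and functors `E`, `N₁`, `N₂`, `F₁`, `F₂`: `E(x) = N_i(x) (E(x) ∩ E(y))` for `y ~_i x`,
`F_j` nilpotent, centralised by `N_i` and contained in `E(y)`, no element `≠ 1` of `F_j(x)` centralises `F_i(y)` for
all `y ~_i x`.  The measure of `F` is the least `m` such that `E(x) / C(F(x))` is a subdirect product of groups of order
at most `m`: it decreases strictly from `F_i` to `F_j`, in both directions.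
-/

set_option autoImplicit false
set_option linter.unusedSectionVars false

namespace Cfsg.Agent.R2.T3544

open Subgroup MulAction
open scoped commutatorElement

variable {G : Type*} [Group G]

/-- the elements of `E` acting trivially on `F` modulo `D` -/
def actK (E F D : Subgroup G) (hD : E ≤ normalizer (D : Set G)) : Subgroup G where
  carrier := {t | t ∈ E ∧ ∀ g ∈ F, ⁅t, g⁆ ∈ D}
  mul_mem' := by
    rintro t s ⟨ht, ht'⟩ ⟨hs, hs'⟩
    refine ⟨E.mul_mem ht hs, fun g hg => ?_⟩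
    have e : ⁅t * s, g⁆ = (t * ⁅s, g⁆ * t⁻¹) * ⁅t, g⁆ := by
      simp only [commutatorElement_def]; group
    rw [e]
    exact D.mul_mem ((mem_normalizer_iff.1 (hD ht) _).1 (hs' g hg)) (ht' g hg)
  one_mem' := ⟨E.one_mem, fun g _ => by simp [D.one_mem]⟩
  inv_mem' := by
    rintro t ⟨ht, ht'⟩
    refine ⟨E.inv_mem ht, fun g hg => ?_⟩
    have e : ⁅t⁻¹, g⁆ = t⁻¹ * ⁅t, g⁆⁻¹ * t⁻¹⁻¹ := by
      simp only [commutatorElement_def]; group
    rw [e]
    exact (mem_normalizer_iff.1 (hD (E.inv_mem ht)) _).1 (D.inv_mem (ht' g hg))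

theorem mem_actK {E F D : Subgroup G} {hD : E ≤ normalizer (D : Set G)} {t : G} :
    t ∈ actK E F D hD ↔ t ∈ E ∧ ∀ g ∈ F, ⁅t, g⁆ ∈ D := Iff.rfl

theorem actK_norm {E F D : Subgroup G} (hD : E ≤ normalizer (D : Set G))
    (hF : E ≤ normalizer (F : Set G)) : E ≤ normalizer (actK E F D hD : Set G) := by
  have key : ∀ s ∈ E, ∀ t ∈ actK E F D hD, s * t * s⁻¹ ∈ actK E F D hD := by
    rintro s hs t ⟨ht, ht'⟩
    refine ⟨E.mul_mem (E.mul_mem hs ht) (E.inv_mem hs), fun g hg => ?_⟩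
    have e : ⁅s * t * s⁻¹, g⁆ = s * ⁅t, s⁻¹ * g * s⁻¹⁻¹⁆ * s⁻¹ := by
      simp only [commutatorElement_def]; group
    rw [e]
    exact (mem_normalizer_iff.1 (hD hs) _).1 (ht' _ ((mem_normalizer_iff.1 (hF (E.inv_mem hs)) _).1 hg))
  intro s hs
  rw [mem_normalizer_iff]
  intro t
  refine ⟨fun h => key s hs t h, fun h => ?_⟩
  have := key s⁻¹ (E.inv_mem hs) _ h
  have e : s⁻¹ * (s * t * s⁻¹) * s⁻¹⁻¹ = t := by group
  rwa [e] at this

/-- a proper normal subgroup `D` of the nilpotent group `F`: a nontrivial central element of `F/D` -/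
theorem exists_central {F D : Subgroup G} (hn : Group.IsNilpotent F) (hDF : D ≤ F)
    (hD : F ≤ normalizer (D : Set G)) {c : G} (hc : c ∈ F) (hcD : c ∉ D) :
    ∃ z ∈ F, z ∉ D ∧ ∀ g ∈ F, ⁅z, g⁆ ∈ D := by
  have hnor : (D.subgroupOf F).Normal := normal_subgroupOf_of_le_normalizer hD
  have hnt : Nontrivial (F ⧸ D.subgroupOf F) := by
    refine ⟨⟨QuotientGroup.mk ⟨c, hc⟩, 1, ?_⟩⟩
    intro h
    rw [QuotientGroup.eq_one_iff] at h
    exact hcD h
  have h1 : center (F ⧸ D.subgroupOf F) ≠ ⊥ := Group.IsNilpotent.center_ne_bot _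
  obtain ⟨q, hq1⟩ := Subgroup.ne_bot_iff_exists_ne_one.1 h1
  have hq := q.2
  obtain ⟨z, hz⟩ := QuotientGroup.mk_surjective q.1
  refine ⟨z, z.2, ?_, ?_⟩
  · intro h
    apply hq1
    apply Subtype.ext
    rw [← hz]
    exact (QuotientGroup.eq_one_iff _).2 h
  · intro g hg
    have h2 := mem_center_iff.1 hq (QuotientGroup.mk ⟨g, hg⟩)
    rw [← hz, ← QuotientGroup.mk_mul, ← QuotientGroup.mk_mul, QuotientGroup.eq] at h2
    have h3 : ((⟨g, hg⟩ * z : F)⁻¹ * (z * ⟨g, hg⟩) : F) ∈ D.subgroupOf F := h2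
    rw [mem_subgroupOf] at h3
    have h4 : (z : G)⁻¹ * g⁻¹ * (z * g) ∈ D := by simpa using h3
    have h5 := (mem_normalizer_iff.1 (hD (F.mul_mem z.2 hg)) _).1 h4
    have e : (z : G) * g * ((z : G)⁻¹ * g⁻¹ * (z * g)) * ((z : G) * g)⁻¹ = ⁅(z : G), g⁆ := by
      simp only [commutatorElement_def]; group
    rwa [e] at h5

variable {Ω : Type*} [MulAction G Ω]

/-- one of the two directions: `N` is moved by the direction, `F` is centralised by `N` and acts on the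
groups `F'(y)` of the neighbours -/
structure Half (r : Ω → Ω → Prop) (E N F F' : Ω → Subgroup G) : Prop where
  Nle : ∀ x, N x ≤ E x
  Fnorm : ∀ x, E x ≤ normalizer (F x : Set G)
  Fnil : ∀ x, Group.IsNilpotent (F x)
  fac : ∀ x y, r x y → ∀ e ∈ E x, ∃ n ∈ N x, ∃ e₀ ∈ E x ⊓ E y, n * e₀ = e
  cen : ∀ x, ∀ n ∈ N x, ∀ f ∈ F x, n * f = f * n
  Fle : ∀ x y, r x y → F x ≤ E x ⊓ E y
  sep : ∀ x, ∀ f ∈ F x, (∀ y, r x y → ∀ g ∈ F' y, f * g = g * f) → f = 1

/-- the measure of `F` is less than `m` -/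
def MuLt (E F : Ω → Subgroup G) (m : ℕ) : Prop :=
  ∀ x, ∀ e ∈ E x, (∃ f ∈ F x, e * f ≠ f * e) →
    ∃ K : Subgroup G, K ≤ E x ∧ E x ≤ normalizer (K : Set G) ∧
      (∀ t ∈ E x, (∀ f ∈ F x, t * f = f * t) → t ∈ K) ∧ e ∉ K ∧ K.relIndex (E x) < m

theorem MuLt.step [Finite G] {r : Ω → Ω → Prop} {E N F F' : Ω → Subgroup G} (H : Half r E N F F') {m : ℕ}
    (h : MuLt E F' (m + 1)) : MuLt E F m := by
  rintro x e he ⟨f, hf, hef⟩
  have hconjF : ∀ t ∈ E x, ∀ g ∈ F x, t * g * t⁻¹ ∈ F x := fun t ht g hg =>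
    (mem_normalizer_iff.1 (H.Fnorm x ht) g).1 hg
  have hcommF : ∀ t ∈ E x, ∀ g ∈ F x, ⁅t, g⁆ ∈ F x := fun t ht g hg =>
    (F x).mul_mem (hconjF t ht g hg) ((F x).inv_mem hg)
  have hc1 : ⁅e, f⁆ ≠ 1 := by
    intro h1
    exact hef (commutatorElement_eq_one_iff_mul_comm.1 h1)
  obtain ⟨y, hy, g, hg, hcg⟩ : ∃ y, r x y ∧ ∃ g ∈ F' y, ⁅e, f⁆ * g ≠ g * ⁅e, f⁆ := by
    by_contra hcon
    push Not at hcon
    exact hc1 (H.sep x _ (hcommF e he f hf) fun y hy g hg => hcon y hy g hg)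
  obtain ⟨n, hn, e₀, he₀, rfl⟩ := H.fac x y hy e he
  have hFE := H.Fle x y hy
  have hce : ⁅n * e₀, f⁆ = ⁅e₀, f⁆ := by
    have h1 : ⁅n * e₀, f⁆ = n * ⁅e₀, f⁆ * n⁻¹ * ⁅n, f⁆ := by
      simp only [commutatorElement_def]; group
    have h2 : ⁅n, f⁆ = 1 := commutatorElement_eq_one_iff_mul_comm.2 (H.cen x n hn f hf)
    rw [h1, h2, mul_one, H.cen x n hn _ (hcommF e₀ he₀.1 f hf), mul_inv_cancel_right]
  rw [hce] at hcg hc1
  have hcE : ⁅e₀, f⁆ ∈ E y := by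
    have h1 : e₀ ∈ E y := he₀.2
    have h2 : f ∈ E y := (hFE hf).2
    exact (E y).mul_mem ((E y).mul_mem ((E y).mul_mem h1 h2) ((E y).inv_mem h1)) ((E y).inv_mem h2)
  obtain ⟨K, hKE, hKn, -, hcK, hKi⟩ := h y ⁅e₀, f⁆ hcE ⟨g, hg, hcg⟩
  have hKconj : ∀ t ∈ E y, ∀ k ∈ K, t * k * t⁻¹ ∈ K := fun t ht k hk =>
    (mem_normalizer_iff.1 (hKn ht) k).1 hk
  -- `D = K ∩ F(x)` is normal in `E(x)`
  have hDkey : ∀ t ∈ E x, ∀ d ∈ K ⊓ F x, t * d * t⁻¹ ∈ K ⊓ F x := by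
    intro t ht d hd
    obtain ⟨n', hn', t₀, ht₀, rfl⟩ := H.fac x y hy t ht
    have h1 : t₀ * d * t₀⁻¹ ∈ K ⊓ F x := ⟨hKconj t₀ ht₀.2 d hd.1, hconjF t₀ ht₀.1 d hd.2⟩
    have h2 : n' * t₀ * d * (n' * t₀)⁻¹ = t₀ * d * t₀⁻¹ := by
      have h3 : n' * t₀ * d * (n' * t₀)⁻¹ = n' * (t₀ * d * t₀⁻¹) * n'⁻¹ := by group
      rw [h3, H.cen x n' hn' _ h1.2, mul_inv_cancel_right]
    rw [h2]
    exact h1
  have hD : E x ≤ normalizer ((K ⊓ F x : Subgroup G) : Set G) := by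
    intro s hs
    rw [mem_normalizer_iff]
    intro t
    refine ⟨fun h => hDkey s hs t h, fun h => ?_⟩
    have := hDkey s⁻¹ ((E x).inv_mem hs) _ h
    have e : s⁻¹ * (s * t * s⁻¹) * s⁻¹⁻¹ = t := by group
    rwa [e] at this
  set K₂ := actK (E x) (F x) (K ⊓ F x) hD with hK₂
  have hK₂E : K₂ ≤ E x := fun t ht => ht.1
  have hK₂n : E x ≤ normalizer (K₂ : Set G) := actK_norm hD (H.Fnorm x)
  have hNK₂ : N x ≤ K₂ := by
    intro t ht
    refine ⟨H.Nle x ht, fun g hg => ?_⟩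
    rw [commutatorElement_eq_one_iff_mul_comm.2 (H.cen x t ht g hg)]
    exact one_mem _
  refine ⟨K₂, hK₂E, hK₂n, ?_, ?_, ?_⟩
  · intro t ht h1
    refine ⟨ht, fun g hg => ?_⟩
    rw [commutatorElement_eq_one_iff_mul_comm.2 (h1 g hg)]
    exact one_mem _
  · intro h1
    have h2 := h1.2 f hf
    rw [hce] at h2
    exact hcK h2.1
  · -- the index
    set E₀ := E x ⊓ E y with hE₀
    have h1 : K₂.relIndex (E x) = K₂.relIndex E₀ := by
      have hnor : (K₂.subgroupOf (E x)).Normal := normal_subgroupOf_of_le_normalizer hK₂n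
      have h2 : E₀.subgroupOf (E x) ⊔ K₂.subgroupOf (E x) = ⊤ := by
        rw [eq_top_iff]
        rintro ⟨t, ht⟩ -
        obtain ⟨n', hn', t₀, ht₀, rfl⟩ := H.fac x y hy t ht
        have h3 : (⟨n' * t₀, ht⟩ : E x) = ⟨n', H.Nle x hn'⟩ * ⟨t₀, ht₀.1⟩ := rfl
        rw [h3]
        refine mul_mem ?_ ?_
        · exact mem_sup_right (hNK₂ hn')
        · exact mem_sup_left (mem_subgroupOf.2 ht₀)
      have h3 := relIndex_sup_right (H := E₀.subgroupOf (E x)) (K := K₂.subgroupOf (E x))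
      rw [h2, relIndex_top_right, relIndex_subgroupOf inf_le_left] at h3
      exact h3
    rw [h1]
    obtain ⟨z, hz, hzD, hzc⟩ := exists_central (F := F x) (D := K ⊓ F x) (H.Fnil x) inf_le_right
      (fun t ht => hD (hFE ht).1) (hcommF e₀ he₀.1 f hf) (fun h => hcK h.1)
    have hlt : K ⊓ E₀ ≤ K₂ ⊓ E₀ := by
      rintro t ⟨ht, ht₀⟩
      refine ⟨⟨ht₀.1, fun g hg => ⟨?_, hcommF t ht₀.1 g hg⟩⟩, ht₀⟩
      have hgy : g ∈ E y := (hFE hg).2
      have e : ⁅t, g⁆ = t * (g * t⁻¹ * g⁻¹) := by simp only [commutatorElement_def]; group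
      rw [e]
      exact K.mul_mem ht (hKconj g hgy _ (K.inv_mem ht))
    have hne : ¬ K₂ ⊓ E₀ ≤ K ⊓ E₀ := by
      intro h2
      have hz₀ : z ∈ E₀ := hFE hz
      have h3 : z ∈ K₂ ⊓ E₀ := ⟨⟨hz₀.1, hzc⟩, hz₀⟩
      exact hzD ⟨(h2 h3).1, hz⟩
    have h2 := relIndex_mul_relIndex (K ⊓ E₀) (K₂ ⊓ E₀) E₀ hlt inf_le_right
    rw [inf_relIndex_right, inf_relIndex_right] at h2
    have h3 : 1 < (K ⊓ E₀).relIndex (K₂ ⊓ E₀) := by
      have h4 : (K ⊓ E₀).relIndex (K₂ ⊓ E₀) ≠ 1 := fun h => hne (relIndex_eq_one.1 h)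
      have h5 : (K ⊓ E₀).relIndex (K₂ ⊓ E₀) ≠ 0 := by
        rw [relIndex]; exact index_ne_zero_of_finite
      omega
    have h4 : K.relIndex E₀ ≤ K.relIndex (E y) := by
      refine relIndex_le_of_le_right inf_le_right ?_
      rw [relIndex]; exact index_ne_zero_of_finite
    have h5 : K₂.relIndex E₀ ≠ 0 := by
      rw [relIndex]; exact index_ne_zero_of_finite
    have h6 : K₂.relIndex E₀ < (K ⊓ E₀).relIndex (K₂ ⊓ E₀) * K₂.relIndex E₀ := by
      nlinarith [Nat.pos_of_ne_zero h5]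
    omega

/-- **The abstract contradiction.** -/
theorem false_of_half [Finite G] {r₁ r₂ : Ω → Ω → Prop} {E N₁ N₂ F₁ F₂ : Ω → Subgroup G}
    (H₁ : Half r₁ E N₁ F₂ F₁) (H₂ : Half r₂ E N₂ F₁ F₂) (x : Ω) (hx : F₂ x ≠ ⊥) : False := by
  have step : ∀ m, MuLt E F₁ m → MuLt E F₁ 0 := by
    intro m
    induction m using Nat.strong_induction_on with
    | _ m ih =>
      intro h
      rcases m with _ | m
      · exact h
      · have h1 := MuLt.step H₁ h
        rcases m with _ | m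
        · -- `MuLt E F₂ 0`
          intro z e he hz
          exfalso
          have h2 : MuLt E F₂ 1 := by
            intro z e he hz
            obtain ⟨K, -, -, -, -, hK⟩ := h1 z e he hz
            omega
          have h3 := MuLt.step H₂ h2
          obtain ⟨K, -, -, -, -, hK⟩ := h3 z e he hz
          omega
        · have h2 := MuLt.step H₂ h1
          exact ih m (by omega) h2
  have h0 : MuLt E F₁ (Nat.card G + 1) := by
    rintro z e he ⟨f, hf, hef⟩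
    have hb : E z ≤ normalizer ((⊥ : Subgroup G) : Set G) := by
      intro t _
      rw [mem_normalizer_iff]
      intro s
      simp only [mem_bot]
      constructor
      · rintro rfl; group
      · intro h
        have : s = t⁻¹ * (t * s * t⁻¹) * t := by group
        rw [this, h]; group
    refine ⟨actK (E z) (F₁ z) ⊥ hb, fun t ht => ht.1, ?_, ?_, ?_, ?_⟩
    · exact actK_norm _ (H₂.Fnorm z)
    · intro t ht h1
      refine ⟨ht, fun g hg => ?_⟩
      rw [mem_bot]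
      exact commutatorElement_eq_one_iff_mul_comm.2 (h1 g hg)
    · intro h1
      exact hef (commutatorElement_eq_one_iff_mul_comm.1 (mem_bot.1 (h1.2 f hf)))
    · rw [relIndex, Nat.lt_succ_iff]
      exact (Nat.le_of_dvd Nat.card_pos (index_dvd_card _)).trans
        (Nat.le_of_dvd Nat.card_pos (card_subgroup_dvd_card _))
  have h1 := step _ h0
  -- `E(z)` centralises `F₁(z)` for all `z`
  apply hx
  rw [eq_bot_iff]
  intro f hf
  rw [mem_bot]
  refine H₁.sep x f hf fun y hy g hg => ?_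
  by_contra hcon
  obtain ⟨K, -, -, -, -, hK⟩ := h1 y f ((H₁.Fle x y hy hf).2) ⟨g, hg, hcon⟩
  omega

end Cfsg.Agent.R2.T3544
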