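import Mathlib

/-!
# S3544: the descent for the intensive measure (helper18's and helper10's idea), abstract form

`MuLe O V m`: the group `O / C_O(V)` is a subdirect product of groups of order at most `m`.
-/

set_option autoImplicit false
set_option linter.unusedSectionVars false

namespace Cfsg.Agent.R2.T3544

open Subgroup

variable {G : Type*} [Group G]

/-- `O / C_O(V)` is a subdirect product of groups of order at most `m` -/
def MuLe (O V : Subgroup G) (m : ℕ) : Prop :=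
  ∀ g ∈ O, (∃ v ∈ V, g * v * g⁻¹ ≠ v) →
    ∃ K : Subgroup G, O ≤ normalizer (K : Set G) ∧ (∀ k ∈ O, (∀ v ∈ V, k * v * k⁻¹ = v) → k ∈ K) ∧
      g ∉ K ∧ K.relIndex O ≤ m

/-- a nilpotent group has a noncentral-free step below every proper normal subgroup -/
theorem exists_ucs {V K : Subgroup G} [Group.IsNilpotent V] {v₀ : G} (h0 : v₀ ∈ V) (hK : v₀ ∉ K) :
    ∃ z ∈ V, z ∉ K ∧ ∀ v ∈ V, z * v * z⁻¹ * v⁻¹ ∈ K := by
  classical
  have h1 : ∃ n, ¬ (Subgroup.upperCentralSeries V n) ≤ K.subgroupOf V := by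
    obtain ⟨n, hn⟩ := Group.IsNilpotent.nilpotent V
    refine ⟨n, fun h => hK ?_⟩
    have : (⟨v₀, h0⟩ : V) ∈ Subgroup.upperCentralSeries V n := by rw [hn]; trivial
    exact mem_subgroupOf.1 (h this)
  have h2 := Nat.find_spec h1
  have h3 : Nat.find h1 ≠ 0 := by
    intro h
    rw [h] at h2
    apply h2
    rw [Subgroup.upperCentralSeries_zero]
    exact bot_le
  obtain ⟨n, hn⟩ := Nat.exists_eq_succ_of_ne_zero h3
  have h4 : Subgroup.upperCentralSeries V n ≤ K.subgroupOf V := by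
    by_contra hc
    exact Nat.find_min h1 (m := n) (by omega) hc
  rw [hn] at h2
  obtain ⟨z, hz, hzK⟩ := SetLike.not_le_iff_exists.1 h2
  refine ⟨z, z.2, fun h => hzK (mem_subgroupOf.2 h), fun v hv => ?_⟩
  have h5 := (Subgroup.mem_upperCentralSeries_succ_iff.1 hz) ⟨v, hv⟩
  exact mem_subgroupOf.1 (h4 h5)

/-- elements acting on `V` modulo `K` trivially -/
def actKer (O V K : Subgroup G) (hV : O ≤ normalizer (V : Set G)) : Subgroup G where
  carrier := {g | g ∈ O ∧ ∀ v ∈ V, g * v * g⁻¹ * v⁻¹ ∈ K}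
  one_mem' := ⟨O.one_mem, fun v _ => by simp⟩
  mul_mem' := by
    rintro a b ⟨ha, ha'⟩ ⟨hb, hb'⟩
    refine ⟨O.mul_mem ha hb, fun v hv => ?_⟩
    have h1 : b * v * b⁻¹ ∈ V := (mem_normalizer_iff.1 (hV hb) v).1 hv
    have h2 := K.mul_mem (ha' _ h1) (hb' v hv)
    have e : a * (b * v * b⁻¹) * a⁻¹ * (b * v * b⁻¹)⁻¹ * (b * v * b⁻¹ * v⁻¹) = a * b * v * (a * b)⁻¹ * v⁻¹ := by
      group
    rwa [e] at h2
  inv_mem' := by
    rintro a ⟨ha, ha'⟩
    refine ⟨O.inv_mem ha, fun v hv => ?_⟩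
    have h1 : a⁻¹ * v * a ∈ V := (mem_normalizer_iff''.1 (hV ha) v).1 hv
    have h2 := K.inv_mem (ha' _ h1)
    have e : (a * (a⁻¹ * v * a) * a⁻¹ * (a⁻¹ * v * a)⁻¹)⁻¹ = a⁻¹ * v * a⁻¹⁻¹ * v⁻¹ := by
      group
    rwa [e] at h2

theorem mem_actKer {O V K : Subgroup G} {hV : O ≤ normalizer (V : Set G)} {g : G} :
    g ∈ actKer O V K hV ↔ g ∈ O ∧ ∀ v ∈ V, g * v * g⁻¹ * v⁻¹ ∈ K := Iff.rfl

theorem relIndex_le_of_cover [Finite G] {O T L : Subgroup G} (hTO : T ≤ O)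
    (h : ∀ g ∈ O, ∃ t ∈ T, t⁻¹ * g ∈ L) : L.relIndex O ≤ L.relIndex T := by
  let f : T ⧸ L.subgroupOf T → O ⧸ L.subgroupOf O :=
    Quotient.map' (fun t => (⟨t.1, hTO t.2⟩ : O)) (by
      intro a b hab
      rw [QuotientGroup.leftRel_apply] at hab ⊢
      exact mem_subgroupOf.1 hab)
  have hf : Function.Surjective f := by
    intro q
    induction q using Quotient.inductionOn' with
    | h g =>
      obtain ⟨t, ht, htg⟩ := h g.1 g.2
      refine ⟨Quotient.mk'' ⟨t, ht⟩, ?_⟩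
      apply Quotient.sound'
      rw [QuotientGroup.leftRel_apply]
      exact mem_subgroupOf.2 htg
  exact Nat.card_le_card_of_surjective f hf

/-- the descent step -/
theorem mu_step [Finite G] {Ω : Type*} (r : Ω → Ω → Prop) (O N V W : Ω → Subgroup G)
    (h1 : ∀ x y, r x y → ∀ g ∈ O x, ∃ n ∈ N x, ∃ o ∈ O x ⊓ O y, g = n * o)
    (h2 : ∀ x, ∀ n ∈ N x, ∀ v ∈ V x, n * v * n⁻¹ = v)
    (h3 : ∀ x, O x ≤ normalizer (V x : Set G))
    (h4 : ∀ x y, r x y → V x ≤ O x ⊓ O y)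
    (h5 : ∀ x, Group.IsNilpotent (V x))
    (h6 : ∀ x, ∀ v ∈ V x, v ≠ 1 → ∃ y, r x y ∧ ∃ w ∈ W y, v * w * v⁻¹ ≠ w)
    (h7 : ∀ x, N x ≤ O x) {m : ℕ} (hm : ∀ y, MuLe (O y) (W y) m) (x : Ω) : MuLe (O x) (V x) (m - 1) := by
  rintro g hg ⟨v₀, hv₀, hgv⟩
  have hc : g * v₀ * g⁻¹ * v₀⁻¹ ∈ V x :=
    (V x).mul_mem ((mem_normalizer_iff.1 (h3 x hg) v₀).1 hv₀) ((V x).inv_mem hv₀)
  have hc1 : g * v₀ * g⁻¹ * v₀⁻¹ ≠ 1 := fun h => hgv (mul_inv_eq_one.1 h)
  obtain ⟨y, hy, w, hw, hcw⟩ := h6 x _ hc hc1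
  have hcO : g * v₀ * g⁻¹ * v₀⁻¹ ∈ O y := (h4 x y hy hc).2
  obtain ⟨K, hK1, hK2, hK3, hK4⟩ := hm y _ hcO ⟨w, hw, hcw⟩
  set T : Subgroup G := O x ⊓ O y with hT
  set L : Subgroup G := actKer (O x) (V x) K (h3 x) with hL
  -- elements of `O x` act on `V x` like elements of `T`
  have hact : ∀ k ∈ O x, ∃ n ∈ N x, ∃ o ∈ T, k = n * o ∧ ∀ v ∈ V x, k * v * k⁻¹ = o * v * o⁻¹ := by
    intro k hk
    obtain ⟨n, hn, o, ho, rfl⟩ := h1 x y hy k hk
    refine ⟨n, hn, o, ho, rfl, fun v hv => ?_⟩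
    have h : o * v * o⁻¹ ∈ V x := (mem_normalizer_iff.1 (h3 x ho.1) v).1 hv
    have h' := h2 x n hn _ h
    rw [← h']
    conv_rhs => rw [h']
    rw [← h']
    group
  have hVT : V x ≤ T := h4 x y hy
  -- conjugation by `T` on `K`
  have hTK : ∀ t ∈ T, ∀ k ∈ K, t * k * t⁻¹ ∈ K := fun t ht k hk => (mem_normalizer_iff.1 (hK1 ht.2) k).1 hk
  have hNL : N x ≤ L := by
    intro n hn
    refine mem_actKer.2 ⟨h7 x hn, fun v hv => ?_⟩
    rw [h2 x n hn v hv, mul_inv_cancel]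
    exact K.one_mem
  have hLn : ∀ h ∈ O x, ∀ k ∈ L, h * k * h⁻¹ ∈ L := by
    intro h hh k hk
    obtain ⟨hkO, hkK⟩ := mem_actKer.1 hk
    refine mem_actKer.2 ⟨(O x).mul_mem ((O x).mul_mem hh hkO) ((O x).inv_mem hh), fun v hv => ?_⟩
    have h8 : h⁻¹ * v * h ∈ V x := (mem_normalizer_iff''.1 (h3 x hh) v).1 hv
    have h9 := hkK _ h8
    have h10 : k * (h⁻¹ * v * h) * k⁻¹ * (h⁻¹ * v * h)⁻¹ ∈ V x :=
      (V x).mul_mem ((mem_normalizer_iff.1 (h3 x hkO) _).1 h8) ((V x).inv_mem h8)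
    obtain ⟨n, -, o, ho, -, hno⟩ := hact h hh
    have h11 := hno _ h10
    have h12 := hTK o ho _ h9
    rw [← h11] at h12
    have e : h * (k * (h⁻¹ * v * h) * k⁻¹ * (h⁻¹ * v * h)⁻¹) * h⁻¹ = h * k * h⁻¹ * v * (h * k * h⁻¹)⁻¹ * v⁻¹ := by
      group
    rwa [e] at h12
  refine ⟨L, ?_, ?_, ?_, ?_⟩
  · intro h hh
    rw [mem_normalizer_iff]
    intro k
    refine ⟨hLn h hh k, fun hk => ?_⟩
    have := hLn h⁻¹ ((O x).inv_mem hh) _ hk
    have e : h⁻¹ * (h * k * h⁻¹) * h⁻¹⁻¹ = k := by group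
    rwa [e] at this
  · intro k hk hkv
    refine mem_actKer.2 ⟨hk, fun v hv => ?_⟩
    rw [hkv v hv, mul_inv_cancel]
    exact K.one_mem
  · intro h
    exact hK3 ((mem_actKer.1 h).2 v₀ hv₀)
  · -- the index
    have i1 : L.relIndex (O x) ≤ L.relIndex T := by
      refine relIndex_le_of_cover inf_le_left fun k hk => ?_
      obtain ⟨n, hn, o, ho, rfl, -⟩ := hact k hk
      refine ⟨o, ho, ?_⟩
      have := hLn o⁻¹ ((O x).inv_mem ho.1) n (hNL hn)
      rwa [inv_inv, mul_assoc] at this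
    have i2 : K.relIndex T ≤ K.relIndex (O y) :=
      Subgroup.relIndex_le_of_le_right inf_le_right (Subgroup.index_ne_zero_of_finite)
    have hv0K : v₀ ∉ K := by
      intro h
      obtain ⟨n, -, o, ho, -, hno⟩ := hact g hg
      have h8 := hTK o ho v₀ h
      rw [← hno v₀ hv₀] at h8
      exact hK3 (K.mul_mem h8 (K.inv_mem h))
    obtain ⟨z, hz, hzK, hzv⟩ := exists_ucs (K := K) hv₀ hv0K
    have hKL : K ⊓ T ≤ L ⊓ T := by
      rintro k ⟨hk, hkT⟩
      refine ⟨mem_actKer.2 ⟨hkT.1, fun v hv => ?_⟩, hkT⟩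
      have h8 := hTK v (hVT hv) _ (K.inv_mem hk)
      have h9 := K.mul_mem hk h8
      have e : k * (v * k⁻¹ * v⁻¹) = k * v * k⁻¹ * v⁻¹ := by group
      rwa [e] at h9
    have hlt : K ⊓ T < L ⊓ T := by
      refine lt_of_le_of_ne hKL fun h => hzK ?_
      have h8 : z ∈ L ⊓ T := ⟨mem_actKer.2 ⟨(hVT hz).1, hzv⟩, hVT hz⟩
      rw [← h] at h8
      exact h8.1
    have i3 : L.relIndex T < K.relIndex T := by
      have c1 := Subgroup.card_mul_index ((K ⊓ T).subgroupOf T)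
      have c2 := Subgroup.card_mul_index ((L ⊓ T).subgroupOf T)
      rw [Subgroup.inf_subgroupOf_right] at c1 c2
      have c3 : Nat.card (K.subgroupOf T) < Nat.card (L.subgroupOf T) := by
        rw [← Subgroup.inf_subgroupOf_right K, ← Subgroup.inf_subgroupOf_right L,
          Nat.card_congr (Subgroup.subgroupOfEquivOfLe inf_le_right).toEquiv,
          Nat.card_congr (Subgroup.subgroupOfEquivOfLe (inf_le_right : L ⊓ T ≤ T)).toEquiv]
        exact Set.Finite.card_lt_card (Set.toFinite _) hlt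
      change Nat.card (K.subgroupOf T) * K.relIndex T = _ at c1
      change Nat.card (L.subgroupOf T) * L.relIndex T = _ at c2
      by_contra hcon
      push Not at hcon
      have c4 : 0 < K.relIndex T := Nat.pos_of_ne_zero (by
        intro h0
        rw [h0, mul_zero] at c1
        have : 0 < Nat.card T := Nat.card_pos
        omega)
      have c5 : Nat.card (K.subgroupOf T) * K.relIndex T < Nat.card (L.subgroupOf T) * L.relIndex T :=
        calc _ < Nat.card (L.subgroupOf T) * K.relIndex T := Nat.mul_lt_mul_of_pos_right c3 c4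
          _ ≤ _ := Nat.mul_le_mul_left _ hcon
      omega
    omega

/-- the data for one direction of the descent -/
structure MuData {Ω : Type*} (r : Ω → Ω → Prop) (O N V W : Ω → Subgroup G) : Prop where
  fac : ∀ x y, r x y → ∀ g ∈ O x, ∃ n ∈ N x, ∃ o ∈ O x ⊓ O y, g = n * o
  cen : ∀ x, ∀ n ∈ N x, ∀ v ∈ V x, n * v * n⁻¹ = v
  norm : ∀ x, O x ≤ normalizer (V x : Set G)
  sh : ∀ x y, r x y → V x ≤ O x ⊓ O y
  nil : ∀ x, Group.IsNilpotent (V x)
  faith : ∀ x, ∀ v ∈ V x, v ≠ 1 → ∃ y, r x y ∧ ∃ w ∈ W y, v * w * v⁻¹ ≠ w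
  le : ∀ x, N x ≤ O x

theorem MuLe.mono {O V : Subgroup G} {m n : ℕ} (h : MuLe O V m) (hmn : m ≤ n) : MuLe O V n := by
  intro g hg hv
  obtain ⟨K, h1, h2, h3, h4⟩ := h g hg hv
  exact ⟨K, h1, h2, h3, h4.trans hmn⟩

theorem MuLe.card [Finite G] {O V : Subgroup G} (h : O ≤ normalizer (V : Set G)) :
    MuLe O V (Nat.card G) := by
  rintro g hg ⟨v, hv, hgv⟩
  refine ⟨centralizer (V : Set G), ?_, ?_, ?_, ?_⟩
  · refine h.trans ?_
    intro a ha
    rw [mem_normalizer_iff]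
    have key : ∀ a ∈ normalizer (V : Set G), ∀ c ∈ centralizer (V : Set G), a * c * a⁻¹ ∈ centralizer (V : Set G) := by
      intro a ha c hc
      rw [mem_centralizer_iff] at hc ⊢
      intro v hv
      have h1 : a⁻¹ * v * a ∈ V := (mem_normalizer_iff''.1 ha v).1 hv
      have h2 := hc _ h1
      calc v * (a * c * a⁻¹) = a * ((a⁻¹ * v * a) * c) * a⁻¹ := by group
        _ = a * (c * (a⁻¹ * v * a)) * a⁻¹ := by rw [h2]
        _ = a * c * a⁻¹ * v := by group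
    intro c
    refine ⟨key a ha c, fun hc => ?_⟩
    have := key a⁻¹ (inv_mem ha) _ hc
    have e : a⁻¹ * (a * c * a⁻¹) * a⁻¹⁻¹ = c := by group
    rwa [e] at this
  · intro k _ hk
    rw [mem_centralizer_iff]
    intro v hv
    have := hk v hv
    rw [mul_inv_eq_iff_eq_mul] at this
    exact this.symm
  · intro hc
    apply hgv
    rw [mem_centralizer_iff] at hc
    rw [← hc v hv, mul_inv_cancel_right]
  · refine le_trans ?_ (Nat.card_le_card_of_injective O.subtype O.subtype_injective)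
    exact Nat.le_of_dvd Nat.card_pos (index_dvd_card _)

/-- the measure principle: no two-sided data with `V_b ≠ 1` -/
theorem mu_false [Finite G] {Ω : Type*} {ra rb : Ω → Ω → Prop} {O Na Nb Va Vb : Ω → Subgroup G}
    (A : MuData ra O Na Vb Va) (B : MuData rb O Nb Va Vb) (x : Ω) : Vb x = ⊥ := by
  have step : ∀ m : ℕ, (∀ y, MuLe (O y) (Va y) m) → ∀ y, MuLe (O y) (Va y) 0 := by
    intro m
    induction m with
    | zero => exact fun h => h
    | succ m ih =>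
      intro h
      apply ih
      have h1 : ∀ y, MuLe (O y) (Vb y) (m + 1 - 1) :=
        mu_step ra O Na Vb Va A.fac A.cen A.norm A.sh A.nil A.faith A.le h
      have h2 : ∀ y, MuLe (O y) (Va y) (m + 1 - 1 - 1) :=
        mu_step rb O Nb Va Vb B.fac B.cen B.norm B.sh B.nil B.faith B.le h1
      exact fun y => (h2 y).mono (by omega)
  have h0 : ∀ y, MuLe (O y) (Va y) 0 := step _ fun y => MuLe.card (B.norm y)
  have h1 : ∀ y, ∀ g ∈ O y, ∀ v ∈ Va y, g * v * g⁻¹ = v := by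
    intro y g hg v hv
    by_contra hne
    obtain ⟨K, -, -, -, h4⟩ := h0 y g hg ⟨v, hv, hne⟩
    have h5 : K.relIndex (O y) ≠ 0 := index_ne_zero_of_finite
    omega
  rw [eq_bot_iff]
  intro v hv
  by_contra hv1
  obtain ⟨y, hy, w, hw, hvw⟩ := A.faith x v hv hv1
  exact hvw (h1 y v (A.sh x y hy hv).2 w hw)

end Cfsg.Agent.R2.T3544
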