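import Mathlib
import Cfsg.Agent.R2.T3544.FOne
import Cfsg.Agent.R2.T3544.Mu
import Cfsg.Agent.S0044
import Cfsg.Agent.Lib.LocalCore
import Cfsg.Agent.Lib.BenderMaximal
import Cfsg.Agent.Lib.CoprimeCommutator
import Cfsg.Agent.Lib.HallHigman
import Cfsg.Agent.SignalizersComponents.CoprimeBasic

/-!
# S3544: two `u'`-directions and a solvable functor `E` (helper18)
-/

set_option autoImplicit false
set_option linter.unusedSectionVars false

namespace Cfsg.Agent.R2.T3544.NLMu

open Subgroup MulAction Cfsg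
open Cfsg.Agent.R2.T3544
open scoped commutatorElement

/-- If the `p'`-group `X` normalises the solvable group `S` and `|S : C_S(X)|` is prime to `p`, then `[S, X]` is
a `p'`-group. -/
theorem coprime_commutator {G : Type*} [Group G] [Finite G] {p : ℕ} [hp : Fact p.Prime] {S X : Subgroup G}
    (hS : Group.IsSolvable S) (hX : Group.IsSolvable X) (hXS : X ≤ normalizer (S : Set G))
    (hXp : (Nat.card X).Coprime p) (h : ¬ p ∣ (S ⊓ centralizer (X : Set G)).relIndex S) :
    (Nat.card (⁅S, X⁆ : Subgroup G)).Coprime p := by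
  set H := S ⊔ X with hH
  have hHs : Group.IsSolvable H := SignalizersComponents.CoprimeBasic.isSolvable_sup hXS hS hX
  set C := S ⊓ centralizer (X : Set G) with hC
  obtain ⟨P₀⟩ : Nonempty (Sylow p C) := inferInstance
  set P₁ := (P₀ : Subgroup C).map C.subtype with hP₁
  have hP₁C : P₁ ≤ C := map_subtype_le _
  have hCH : C ≤ H := inf_le_left.trans le_sup_left
  have hP₁H : P₁ ≤ H := hP₁C.trans hCH
  have h1 : ¬ p ∣ P₁.relIndex C := by
    have h2 : P₁.relIndex C = (P₀ : Subgroup C).index := by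
      rw [relIndex, hP₁, subgroupOf, comap_map_eq_self_of_injective C.subtype_injective]
    rw [h2]
    exact P₀.not_dvd_index
  have h2 : ¬ p ∣ S.relIndex H := by
    intro h3
    have h4 : S.relIndex H ∣ Nat.card X := by
      have h5 : (S.subgroupOf H).Normal := normal_subgroupOf_of_le_normalizer (sup_le le_normalizer hXS)
      have h6 : X.subgroupOf H ⊔ S.subgroupOf H = ⊤ := by
        rw [← subgroupOf_sup le_sup_right le_sup_left, sup_comm X S]
        exact subgroupOf_self _
      have h7 := relIndex_sup_right (H := X.subgroupOf H) (K := S.subgroupOf H)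
      rw [h6, relIndex_top_right, relIndex_subgroupOf le_sup_right] at h7
      have h8 : S.relIndex H = S.relIndex X := h7
      rw [h8, relIndex]
      exact index_dvd_card _
    have h5 := Nat.eq_one_of_dvd_coprimes hXp (h3.trans h4) dvd_rfl
    exact hp.out.one_lt.ne' h5
  have h3 : ¬ p ∣ P₁.relIndex H := by
    rw [← relIndex_mul_relIndex P₁ C H hP₁C hCH, ← relIndex_mul_relIndex C S H inf_le_left le_sup_left]
    intro h4
    rcases (Nat.Prime.dvd_mul hp.out).1 h4 with h4 | h4
    · exact h1 h4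
    · rcases (Nat.Prime.dvd_mul hp.out).1 h4 with h4 | h4
      · exact h h4
      · exact h2 h4
  have hPp : IsPGroup p (P₁.subgroupOf H) :=
    (P₀.isPGroup'.map C.subtype).of_equiv (subgroupOfEquivOfLe hP₁H).symm
  let P : Sylow p H := hPp.toSylow h3
  have hPc : (P : Subgroup H) = P₁.subgroupOf H := rfl
  -- `X ≤ O_{p'}(H)`
  have hXH : X.subgroupOf H ≤ pPrimeCore p H := by
    have hn : (pPrimeCore p H).Normal := Lib.Cores.pPrimeCore_normal p
    set N := pPrimeCore p H with hN
    have hf : Function.Surjective (QuotientGroup.mk' N) := QuotientGroup.mk'_surjective N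
    have hb : pPrimeCore p (H ⧸ N) = ⊥ := Lib.HallHigman.pPrimeCore_quotient_eq_bot p N hN
    have hsq : Group.IsSolvable (H ⧸ N) := Group.isSolvable_of_surjective hf
    have hcen := Lib.HallHigman.centralizer_pCore_le_of_solvable p hb
    let R : Sylow p (H ⧸ N) := P.mapSurjective hf
    have hR : (R : Subgroup (H ⧸ N)) = (P : Subgroup H).map (QuotientGroup.mk' N) := rfl
    have hle := Lib.HallHigman.pCore_le_sylow p R
    intro t ht
    have htc : (QuotientGroup.mk' N t) ∈ centralizer (pCore p (H ⧸ N) : Set (H ⧸ N)) := by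
      rw [mem_centralizer_iff]
      intro q hq
      have hq2 := hle hq
      rw [hR] at hq2
      obtain ⟨c, hc, rfl⟩ := hq2
      rw [← map_mul, ← map_mul]
      congr 1
      have hc1 : (c : G) ∈ C := hP₁C hc
      exact Subtype.ext (mem_centralizer_iff.1 hc1.2 t ht).symm
    have htp := hcen htc
    have hpg : IsPGroup p (pCore p (H ⧸ N)) := Lib.Cores.pCore_isPGroup p
    obtain ⟨k, hk⟩ := hpg ⟨_, htp⟩
    have hk' : (QuotientGroup.mk' N t) ^ p ^ k = 1 := congrArg Subtype.val hk
    have hX' : (QuotientGroup.mk' N t) ^ Nat.card X = 1 := by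
      rw [← map_pow]
      have : t ^ Nat.card X = 1 := by
        apply Subtype.ext
        have h5 : (⟨(t : G), ht⟩ : X) ^ Nat.card X = 1 := pow_card_eq_one'
        have h7 : (t : G) ^ Nat.card X = 1 := congrArg Subtype.val h5
        exact h7
      rw [this, map_one]
    have h6 : orderOf (QuotientGroup.mk' N t) = 1 :=
      Nat.eq_one_of_dvd_coprimes (Nat.Coprime.pow_right k hXp) (orderOf_dvd_of_pow_eq_one hX')
        (orderOf_dvd_of_pow_eq_one hk')
    rw [orderOf_eq_one_iff] at h6
    exact (QuotientGroup.eq_one_iff t).1 h6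
  have hOn : H ≤ normalizer (((pPrimeCore p H).map H.subtype : Subgroup G) : Set G) :=
    Lib.LocalCore.le_normalizer_map_pPrimeCore p H
  have hle : ⁅S, X⁆ ≤ (pPrimeCore p H).map H.subtype := by
    rw [commutator_le]
    intro s hs x hx
    have hxO : x ∈ (pPrimeCore p H).map H.subtype := ⟨⟨x, mem_sup_right hx⟩, hXH (mem_subgroupOf.2 hx), rfl⟩
    have hsH : s ∈ H := mem_sup_left hs
    rw [commutatorElement_def]
    exact mul_mem ((mem_normalizer_iff.1 (hOn hsH) x).1 hxO) (inv_mem hxO)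
  exact (Lib.LocalCore.card_map_pPrimeCore_coprime p H).coprime_dvd_left (card_dvd_of_le hle)

variable {G : Type*} [Group G] {Ω : Type*} [MulAction G Ω]

/-- an equivariant choice of subgroups of the point stabilizers -/
structure Fnc (E : Ω → Subgroup G) : Prop where
  le : ∀ x, E x ≤ stabilizer G x
  eqv : ∀ (g : G) (x : Ω), (E x).map (MulAut.conj g).toMonoidHom = E (g • x)

theorem Fnc.norm {E : Ω → Subgroup G} (F : Fnc E) (x : Ω) : stabilizer G x ≤ normalizer (E x : Set G) := by
  refine le_normalizer_of_map_le fun g hg => ?_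
  rw [F.eqv, mem_stabilizer_iff.1 hg]

theorem Fnc.card (P : PP G Ω) {E : Ω → Subgroup G} (F : Fnc E) (x y : Ω) : Nat.card (E x) = Nat.card (E y) := by
  obtain ⟨g, rfl⟩ := P.trans x y
  rw [← F.eqv, card_map_of_injective (MulAut.conj g).injective]

theorem Fnc.ne_bot (P : PP G Ω) {E : Ω → Subgroup G} (F : Fnc E) {x : Ω} (h : E x ≠ ⊥) (y : Ω) : E y ≠ ⊥ := by
  intro h1
  apply h
  have h2 := F.card P x y
  rw [h1, card_bot] at h2
  exact card_eq_one.1 h2 |>.symm ▸ rfl

/-- the normalizer of a nontrivial functor value -/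
theorem Fnc.normalizer_le (P : PP G Ω) {E : Ω → Subgroup G} (F : Fnc E) {x : Ω} (h : E x ≠ ⊥) :
    normalizer (E x : Set G) ≤ stabilizer G x := P.norm x _ (F.le x) h (F.norm x)

/-- a nontrivial functor takes different values at neighbours -/
theorem Fnc.not_le [Finite G] (P : PP G Ω) {E : Ω → Subgroup G} (F : Fnc E) {r : Ω → Ω → Prop} {d : ℕ}
    (D : Dir G r d) {x y : Ω} (hxy : r x y) (h : E x ≠ ⊥) : ¬ E x ≤ E y := by
  intro h1
  have h2 : E x = E y := eq_of_le_of_card_ge h1 (F.card P y x).le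
  apply D.not_le (D.symm hxy)
  refine (F.norm y).trans ?_
  rw [← h2]
  exact F.normalizer_le P h

theorem mem_map_conj {A : Subgroup G} {g a : G} (ha : a ∈ A) : g * a * g⁻¹ ∈ A.map (MulAut.conj g).toMonoidHom :=
  ⟨a, ha, rfl⟩

/-- the join over the neighbours `y` of `x` of the groups `[E(x), X(y)]` -/
def NN (r : Ω → Ω → Prop) (X E : Ω → Subgroup G) (x : Ω) : Subgroup G := ⨆ y, ⨆ (_ : r x y), ⁅E x, X y⁆

theorem le_NN {r : Ω → Ω → Prop} {X E : Ω → Subgroup G} {x y : Ω} (h : r x y) : ⁅E x, X y⁆ ≤ NN r X E x :=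
  le_iSup₂_of_le y h le_rfl

theorem NN_le_iff {r : Ω → Ω → Prop} {X E : Ω → Subgroup G} {x : Ω} {B : Subgroup G} :
    NN r X E x ≤ B ↔ ∀ y, r x y → ⁅E x, X y⁆ ≤ B := by
  rw [NN, iSup₂_le_iff]

theorem NN_fnc {r : Ω → Ω → Prop} {d : ℕ} (D : Dir G r d) {X E : Ω → Subgroup G} (FX : Fnc X) (FE : Fnc E)
    (hle : ∀ x y, r x y → X y ≤ stabilizer G x) : Fnc (NN r X E) where
  le := by
    intro x
    rw [NN_le_iff]
    intro y hy
    rw [commutator_le]
    intro a ha b hb
    have ha' := FE.le x ha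
    have hb' := hle x y hy hb
    exact mul_mem (mul_mem (mul_mem ha' hb') (inv_mem ha')) (inv_mem hb')
  eqv := by
    have key : ∀ (g : G) (x : Ω), (NN r X E x).map (MulAut.conj g).toMonoidHom ≤ NN r X E (g • x) := by
      intro g x
      rw [map_le_iff_le_comap, NN_le_iff]
      intro y hy
      rw [← map_le_iff_le_comap, map_commutator, FE.eqv, FX.eqv]
      exact le_NN (D.smul g hy)
    intro g x
    apply le_antisymm (key g x)
    have h1 := key g⁻¹ (g • x)
    rw [inv_smul_smul] at h1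
    have h2 := map_mono (f := (MulAut.conj g).toMonoidHom) h1
    have h3 := map_map_conj_inv (NN r X E (g • x)) g⁻¹
    rw [inv_inv] at h3
    rwa [h3] at h2

/-- the Fitting subgroup of the value of a functor -/
def Ft (N : Ω → Subgroup G) (x : Ω) : Subgroup G := (fittingSubgroup (N x)).map (N x).subtype

theorem Ft_le (N : Ω → Subgroup G) (x : Ω) : Ft N x ≤ N x := map_subtype_le _

theorem map_fitting (N : Subgroup G) (g : G) :
    ((fittingSubgroup N).map N.subtype).map (MulAut.conj g).toMonoidHom =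
      (fittingSubgroup (N.map (MulAut.conj g).toMonoidHom : Subgroup G)).map
        (N.map (MulAut.conj g).toMonoidHom).subtype := by
  let e := N.equivMapOfInjective (MulAut.conj g).toMonoidHom (MulAut.conj g).injective
  rw [← Lib.Cores.map_equiv_fittingSubgroup e, map_map, map_map]
  congr 1

theorem Ft_fnc {N : Ω → Subgroup G} (F : Fnc N) : Fnc (Ft N) where
  le := fun x => (Ft_le N x).trans (F.le x)
  eqv := by
    intro g x
    rw [Ft, map_fitting, Ft, F.eqv]

theorem Ft_nil [Finite G] (N : Ω → Subgroup G) (x : Ω) : Group.IsNilpotent (Ft N x) := by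
  have h := Lib.Cores.fittingSubgroup_isNilpotent (G := N x)
  exact Group.nilpotent_of_mulEquiv ((fittingSubgroup (N x)).equivMapOfInjective (N x).subtype
    (N x).subtype_injective)

/-- the data: a `u`-functor `X` and a solvable `u'`-functor `E` -/
structure NLData (G : Type*) [Group G] {Ω : Type*} [MulAction G Ω] (u : ℕ) (X E : Ω → Subgroup G) : Prop where
  P : PP G Ω
  FX : Fnc X
  FE : Fnc E
  Xu : ∀ x, IsPGroup u (X x)
  Xne : ∀ x, X x ≠ ⊥
  Eu : ∀ x, (Nat.card (E x)).Coprime u
  Es : ∀ x, Group.IsSolvable (E x)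
  Ene : ∀ x, E x ≠ ⊥

/-- a direction of length prime to `u` along which `E(x) ∩ G_y ≤ E(y)` -/
structure NLDir (u : ℕ) (E : Ω → Subgroup G) (r : Ω → Ω → Prop) (d : ℕ) : Prop where
  D : Dir G r d
  hu : ¬ u ∣ d
  hE : ∀ x y, r x y → E x ⊓ stabilizer G y ≤ E y

/-- a `u`-group has no proper subgroup of index dividing `d` if `u` does not divide `d` -/
theorem not_hasIdx_of_isPGroup {K : Type*} [Group K] [Finite K] {u d : ℕ} [hu : Fact u.Prime] (hK : IsPGroup u K)
    (h : ¬ u ∣ d) : ¬ HasIdx K d := by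
  rintro ⟨C, hC, hd⟩
  apply hC
  rw [← index_eq_one]
  obtain ⟨n, hn⟩ := hK.index C
  rcases n with _ | n
  · rw [hn, pow_zero]
  · exfalso
    apply h
    refine dvd_trans ?_ hd
    rw [hn]
    exact dvd_pow_self u (Nat.succ_ne_zero n)

/-- subgroups of coprime orders normalising each other commute -/
theorem commute_of_coprime' [Finite G] {A B : Subgroup G} (hAB : A ≤ normalizer (B : Set G))
    (hBA : B ≤ normalizer (A : Set G)) (h : (Nat.card A).Coprime (Nat.card B)) :
    A ≤ centralizer (B : Set G) :=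
  Lib.BenderMaximal.le_centralizer_of_normalize hAB hBA (disjoint_of_coprime_natCard h).eq_bot

section

variable [Finite G] {u : ℕ} [hu : Fact u.Prime] {X E : Ω → Subgroup G}

theorem NLData.cop (T : NLData G u X E) (x y : Ω) : (Nat.card (E x)).Coprime (Nat.card (X y)) := by
  obtain ⟨n, hn⟩ := (T.Xu y).exists_card_eq
  rw [hn]
  exact Nat.Coprime.pow_right n (T.Eu x)

theorem NLData.Xsubn (T : NLData G u X E) (y : Ω) : SubnIn (X y) (stabilizer G y) :=
  SubnIn.of_normal (T.FX.le y) (T.FX.norm y)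

theorem NLData.Esubn (T : NLData G u X E) (y : Ω) : SubnIn (E y) (stabilizer G y) :=
  SubnIn.of_normal (T.FE.le y) (T.FE.norm y)

theorem NLData.Xle (T : NLData G u X E) {r : Ω → Ω → Prop} {d : ℕ} (D : NLDir u E r d) {x y : Ω} (h : r x y) :
    X y ≤ stabilizer G x :=
  (D.D.le_Mk_of_subn (T.Xsubn y) (not_hasIdx_of_isPGroup (T.Xu y) D.hu)).trans (Mk_le_nbr (D.D.symm h))

theorem NLData.comm (T : NLData G u X E) (x : Ω) : E x ≤ centralizer (X x : Set G) :=
  commute_of_coprime' ((T.FE.le x).trans (T.FX.norm x)) ((T.FX.le x).trans (T.FE.norm x)) (T.cop x x)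

theorem NLData.cent_le (T : NLData G u X E) {r : Ω → Ω → Prop} {d : ℕ} (D : NLDir u E r d) {x y : Ω}
    (h : r x y) : E x ⊓ centralizer (X y : Set G) ≤ E x ⊓ E y := by
  refine le_inf inf_le_left (le_trans ?_ (D.hE x y h))
  refine le_inf inf_le_left (inf_le_right.trans ?_)
  exact (centralizer_le_normalizer _).trans (T.FX.normalizer_le T.P (T.Xne y))

theorem NLData.le_cent (T : NLData G u X E) {r : Ω → Ω → Prop} {d : ℕ} (D : NLDir u E r d) {x y : Ω}
    (h : r x y) : E x ⊓ stabilizer G y ≤ centralizer (X y : Set G) := by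
  refine commute_of_coprime' (inf_le_right.trans (T.FX.norm y)) ?_
    ((T.cop x y).coprime_dvd_left (card_dvd_of_le inf_le_left))
  refine le_trans ?_ inf_normalizer_le_normalizer_inf
  exact le_inf ((T.Xle D h).trans (T.FE.norm x)) ((T.FX.le y).trans le_normalizer)

theorem NLData.fac (T : NLData G u X E) {r : Ω → Ω → Prop} {d : ℕ} (D : NLDir u E r d) {x y : Ω}
    (h : r x y) {e : G} (he : e ∈ E x) : ∃ n ∈ (⁅E x, X y⁆ : Subgroup G), ∃ e₀ ∈ E x ⊓ E y, n * e₀ = e := by
  obtain ⟨n, hn, c, hc, rfl⟩ := Lib.CoprimeCommutator.exists_commutator_mul_fixed_of_isPGroup u (X y) (E x)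
    (T.Xu y) ((T.Xle D h).trans (T.FE.norm x))
    (fun h1 => hu.out.one_lt.ne' (Nat.eq_one_of_dvd_coprimes (T.Eu x) h1 dvd_rfl)) e he
  exact ⟨n, hn, c, T.cent_le D h hc, rfl⟩

theorem NLData.comm_le (T : NLData G u X E) {r : Ω → Ω → Prop} {d : ℕ} (D : NLDir u E r d) {x y : Ω}
    (h : r x y) : ⁅E x, X y⁆ ≤ E x :=
  Lib.CoprimeCommutator.commutator_le_left ((T.Xle D h).trans (T.FE.norm x))

theorem NLData.NN_le (T : NLData G u X E) {r : Ω → Ω → Prop} {d : ℕ} (D : NLDir u E r d) (x : Ω) :
    NN r X E x ≤ E x := NN_le_iff.2 fun _ h => T.comm_le D h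

theorem NLData.NN_fnc (T : NLData G u X E) {r : Ω → Ω → Prop} {d : ℕ} (D : NLDir u E r d) : Fnc (NN r X E) :=
  NLMu.NN_fnc D.D T.FX T.FE fun _ _ h => T.Xle D h

/-- `N(x)` is a `π(d)`-group -/
theorem NLData.NN_coprime (T : NLData G u X E) {r : Ω → Ω → Prop} {d : ℕ} (D : NLDir u E r d) (x : Ω)
    {p : ℕ} [hp : Fact p.Prime] (hpd : ¬ p ∣ d) : (Nat.card (NN r X E x)).Coprime p := by
  by_cases hpu : p = u
  · subst hpu
    exact (T.Eu x).coprime_dvd_left (card_dvd_of_le (T.NN_le D x))
  have hle : NN r X E x ≤ (pPrimeCore p (E x)).map (E x).subtype := by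
    rw [NN_le_iff]
    intro y hy
    refine Lib.LocalCore.le_map_pPrimeCore (T.comm_le D hy) ?_
      (Lib.CoprimeCommutator.left_le_normalizer_commutator (E x) (X y))
    have hXn : Group.IsNilpotent (X y) := (T.Xu y).isNilpotent
    refine coprime_commutator (T.Es x) inferInstance ((T.Xle D hy).trans (T.FE.norm x)) ?_ ?_
    · obtain ⟨n, hn⟩ := (T.Xu y).exists_card_eq
      rw [hn]
      exact Nat.Coprime.pow_left n ((Nat.coprime_primes hu.out hp.out).2 (Ne.symm hpu))
    · intro h1
      apply hpd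
      refine h1.trans ?_
      have h3 : (E x ⊓ centralizer (X y : Set G)).relIndex (E x) ∣ (stabilizer G y).relIndex (E x) := by
        have h4 : E x ⊓ stabilizer G y ≤ E x ⊓ centralizer (X y : Set G) :=
          le_inf inf_le_left (T.le_cent D hy)
        have h5 := relIndex_dvd_of_le_left (E x) h4
        have h6 : (E x ⊓ stabilizer G y).relIndex (E x) = (stabilizer G y).relIndex (E x) := inf_relIndex_left _ _
        rwa [h6] at h5
      refine h3.trans ?_
      have h4 := (T.Esubn x).relIndex_dvd (stabilizer G y)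
      rwa [D.D.idx hy] at h4
  exact (Lib.LocalCore.card_map_pPrimeCore_coprime p (E x)).coprime_dvd_left (card_dvd_of_le hle)

/-- `N_a(x)` fixes the `b`-neighbours of `x` -/
theorem NLData.NN_le_Mk (T : NLData G u X E) {ra rb : Ω → Ω → Prop} {da db : ℕ} (A : NLDir u E ra da)
    (B : NLDir u E rb db) (hc : da.Coprime db) (x : Ω) : NN ra X E x ≤ Mk G rb x := by
  rw [NN_le_iff]
  intro y hy
  have h1 : X y ≤ Mk G rb x :=
    A.D.le_Mk_of_subn' B.D hc hy (T.Xsubn y) (T.Xle A hy) (not_hasIdx_of_isPGroup (T.Xu y) B.hu)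
  rw [commutator_le]
  intro a ha b hb
  rw [commutatorElement_def]
  have h2 := B.D.Mk_norm x (T.FE.le x ha)
  exact mul_mem ((mem_normalizer_iff.1 h2 b).1 (h1 hb)) (inv_mem (h1 hb))

theorem NLData.NN_le_nbr (T : NLData G u X E) {ra rb : Ω → Ω → Prop} {da db : ℕ} (A : NLDir u E ra da)
    (B : NLDir u E rb db) (hc : da.Coprime db) {x w : Ω} (hw : rb x w) : NN ra X E x ≤ E x ⊓ stabilizer G w :=
  le_inf (T.NN_le A x) ((T.NN_le_Mk A B hc x).trans (Mk_le_nbr hw))

/-- `[N_a(x), N_b(x)] = 1` -/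
theorem NLData.NN_comm (T : NLData G u X E) {ra rb : Ω → Ω → Prop} {da db : ℕ} (A : NLDir u E ra da)
    (B : NLDir u E rb db) (hc : da.Coprime db) (x : Ω) : NN rb X E x ≤ centralizer (NN ra X E x : Set G) := by
  rw [NN_le_iff]
  intro w hw
  rw [commutator_le]
  intro e he t ht
  rw [mem_centralizer_iff]
  intro n hn
  have hcen : ∀ m ∈ NN ra X E x, t * m = m * t := fun m hm =>
    mem_centralizer_iff.1 (((T.NN_le_nbr A B hc hw).trans (T.le_cent B hw)) hm) t ht
  have hnor := (T.NN_fnc A).norm x (T.FE.le x he)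
  have h1 : e⁻¹ * n * e ∈ NN ra X E x := by
    have := (mem_normalizer_iff.1 (inv_mem hnor) n).1 hn
    rwa [inv_inv] at this
  have h2 := hcen _ h1
  have h3 := hcen n hn
  have h4 : t⁻¹ * n = n * t⁻¹ := by
    rw [inv_mul_eq_iff_eq_mul, ← mul_assoc, h3, mul_inv_cancel_right]
  have h5 : t⁻¹ * (e⁻¹ * n * e) = (e⁻¹ * n * e) * t⁻¹ := by
    rw [inv_mul_eq_iff_eq_mul, ← mul_assoc, h2, mul_inv_cancel_right]
  have h6 : t * n = n * t := h3
  rw [commutatorElement_def]
  calc n * (e * t * e⁻¹ * t⁻¹) = e * ((e⁻¹ * n * e) * t) * e⁻¹ * t⁻¹ := by group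
    _ = e * (t * (e⁻¹ * n * e)) * e⁻¹ * t⁻¹ := by rw [h2]
    _ = e * t * e⁻¹ * (n * t⁻¹) := by group
    _ = e * t * e⁻¹ * (t⁻¹ * n) := by rw [h4]
    _ = e * t * e⁻¹ * t⁻¹ * n := by group

theorem Ft_ne_bot {N : Ω → Subgroup G} {x : Ω} (hs : Group.IsSolvable (N x)) (hne : N x ≠ ⊥) : Ft N x ≠ ⊥ := by
  intro h
  apply hne
  have h1 := Lib.BenderMaximal.inf_centralizer_fitting_le hs
  change N x ⊓ centralizer (Ft N x : Set G) ≤ Ft N x at h1
  rw [h] at h1
  rw [eq_bot_iff]
  intro t ht
  have h2 : t ∈ centralizer ((⊥ : Subgroup G) : Set G) := by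
    rw [mem_centralizer_iff]
    rintro y hy
    have hy' : y = 1 := mem_bot.1 hy
    rw [hy', one_mul, mul_one]
  exact h1 ⟨ht, h2⟩

/-- `E(x)` is not contained in `G_y` -/
theorem NLData.not_le (T : NLData G u X E) {r : Ω → Ω → Prop} {d : ℕ} (D : NLDir u E r d) {x y : Ω}
    (h : r x y) : ¬ E x ≤ stabilizer G y := fun h1 =>
  T.FE.not_le T.P D.D h (T.Ene x) ((le_inf le_rfl h1).trans (D.hE x y h))

theorem NLData.NN_ne_bot (T : NLData G u X E) {r : Ω → Ω → Prop} {d : ℕ} (D : NLDir u E r d) (x : Ω) :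
    NN r X E x ≠ ⊥ := by
  intro h
  obtain ⟨y, hy⟩ := D.D.ex x
  apply T.not_le D hy
  intro e he
  obtain ⟨n, hn, e₀, he₀, rfl⟩ := T.fac D hy he
  have h1 := le_NN (X := X) (E := E) hy hn
  rw [h, mem_bot] at h1
  rw [h1, one_mul]
  exact T.FE.le y he₀.2

theorem NLData.NN_sol (T : NLData G u X E) {r : Ω → Ω → Prop} {d : ℕ} (D : NLDir u E r d) (x : Ω) :
    Group.IsSolvable (NN r X E x) :=
  haveI := T.Es x
  Group.isSolvable_of_isSolvable_injective (inclusion_injective (T.NN_le D x))

/-- **the half for the direction `a`** -/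
theorem NLData.half (T : NLData G u X E) {ra rb : Ω → Ω → Prop} {da db : ℕ} (A : NLDir u E ra da)
    (B : NLDir u E rb db) (hc : da.Coprime db) :
    Half ra E (NN ra X E) (Ft (NN rb X E)) (Ft (NN ra X E)) where
  Nle := T.NN_le A
  Fnorm := fun x => (T.FE.le x).trans ((Ft_fnc (T.NN_fnc B)).norm x)
  Fnil := Ft_nil _
  fac := by
    intro x y hy e he
    obtain ⟨n, hn, e₀, he₀, h⟩ := T.fac A hy he
    exact ⟨n, le_NN hy hn, e₀, he₀, h⟩
  cen := by
    intro x n hn f hf
    exact mem_centralizer_iff.1 (T.NN_comm A B hc x (Ft_le _ x hf)) n hn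
  Fle := by
    intro x y hy
    have h1 := (Ft_le (NN rb X E) x).trans (T.NN_le_nbr B A hc.symm hy)
    exact le_inf (h1.trans inf_le_left) (h1.trans (A.hE x y hy))
  sep := by
    intro x f₀ hf₀ hsep
    set C : Subgroup G := Ft (NN rb X E) x ⊓ ⨅ y, ⨅ (_ : ra x y), centralizer (Ft (NN ra X E) y : Set G)
      with hC
    have hmem : ∀ f, f ∈ C ↔ f ∈ Ft (NN rb X E) x ∧ ∀ y, ra x y → ∀ g ∈ Ft (NN ra X E) y, g * f = f * g := by
      intro f
      rw [hC, mem_inf, mem_iInf]
      refine and_congr_right fun _ => forall_congr' fun y => ?_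
      rw [mem_iInf]
      exact forall_congr' fun _ => mem_centralizer_iff
    have hf₀C : f₀ ∈ C := (hmem f₀).2 ⟨hf₀, fun y hy g hg => (hsep y hy g hg).symm⟩
    by_contra hf1
    have hCne : C ≠ ⊥ := by
      intro h
      rw [h, mem_bot] at hf₀C
      exact hf1 hf₀C
    have FB := Ft_fnc (T.NN_fnc B)
    have FA := Ft_fnc (T.NN_fnc A)
    have hCle : C ≤ Ft (NN rb X E) x := inf_le_left
    have hCN : C ≤ NN rb X E x := hCle.trans (Ft_le _ x)
    have hCG : C ≤ stabilizer G x := hCle.trans (FB.le x)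
    have hCnorm : stabilizer G x ≤ normalizer (C : Set G) := by
      refine le_normalizer_of_map_le fun g hg => ?_
      rintro _ ⟨f, hf, rfl⟩
      have hf' := (hmem f).1 hf
      refine (hmem _).2 ⟨?_, ?_⟩
      · exact (mem_normalizer_iff.1 (FB.norm x hg) f).1 hf'.1
      · intro y hy a ha
        have hy' : ra x (g⁻¹ • y) := A.D.nbr hy (inv_mem hg)
        have ha' : g⁻¹ * a * g ∈ Ft (NN ra X E) (g⁻¹ • y) := by
          rw [← FA.eqv]
          exact ⟨a, ha, by simp⟩
        have h1 := hf'.2 _ hy' _ ha'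
        show a * (g * f * g⁻¹) = g * f * g⁻¹ * a
        calc a * (g * f * g⁻¹) = g * ((g⁻¹ * a * g) * f) * g⁻¹ := by group
          _ = g * (f * (g⁻¹ * a * g)) * g⁻¹ := by rw [h1]
          _ = g * f * g⁻¹ * a := by group
    have hCP := T.P.norm x C hCG hCne hCnorm
    obtain ⟨y, hy⟩ := A.D.ex x
    have hyx := A.D.symm hy
    -- `C` normalises `N_a(y)` and has coprime order
    have hCy : C ≤ stabilizer G y :=
      hCN.trans ((T.NN_le_nbr B A hc.symm hy).trans inf_le_right)
    have hCNy : C ≤ normalizer (NN ra X E y : Set G) := hCy.trans ((T.NN_fnc A).norm y)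
    have hcop : (Nat.card C).Coprime (Nat.card (NN ra X E y)) := by
      rw [Nat.coprime_iff_gcd_eq_one]
      by_contra hg
      obtain ⟨p, hp, hpg⟩ := Nat.exists_prime_and_dvd hg
      have : Fact p.Prime := ⟨hp⟩
      have h1 : p ∣ Nat.card (NN rb X E x) := (hpg.trans (Nat.gcd_dvd_left _ _)).trans (card_dvd_of_le hCN)
      have h2 : p ∣ Nat.card (NN ra X E y) := hpg.trans (Nat.gcd_dvd_right _ _)
      have h3 : p ∣ db := by
        by_contra h4
        exact hp.one_lt.ne' (Nat.eq_one_of_dvd_coprimes (T.NN_coprime B x h4) h1 dvd_rfl)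
      have h4 : p ∣ da := by
        by_contra h5
        exact hp.one_lt.ne' (Nat.eq_one_of_dvd_coprimes (T.NN_coprime A y h5) h2 dvd_rfl)
      exact hp.one_lt.ne' (Nat.eq_one_of_dvd_coprimes hc h4 h3)
    have hCF : C ≤ centralizer (Ft (NN ra X E) y : Set G) := by
      intro f hf
      rw [mem_centralizer_iff]
      intro g hg
      exact ((hmem f).1 hf).2 y hy g hg
    have hNF : ⁅NN ra X E y, C⁆ ≤ Ft (NN ra X E) y := by
      have h1 := Lib.BenderMaximal.inf_centralizer_fitting_le (T.NN_sol A y)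
      refine le_trans (le_inf (Lib.CoprimeCommutator.commutator_le_left hCNy) ?_) h1
      rw [commutator_le]
      intro n hn c hcC
      rw [mem_centralizer_iff]
      intro g hg
      have hNn : NN ra X E y ≤ normalizer (Ft (NN ra X E) y : Set G) := (T.NN_fnc A).le y |>.trans (FA.norm y)
      have hg' : n⁻¹ * g * n ∈ Ft (NN ra X E) y := by
        have := (mem_normalizer_iff.1 (hNn (inv_mem hn)) g).1 hg
        rwa [inv_inv] at this
      have hc1 : ∀ a ∈ Ft (NN ra X E) y, a * c = c * a := fun a ha => mem_centralizer_iff.1 (hCF hcC) a ha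
      have hc2 := hc1 _ hg'
      have hc3 := hc1 g hg
      have hc4 : c⁻¹ * g = g * c⁻¹ := by
        rw [inv_mul_eq_iff_eq_mul, ← mul_assoc, ← hc3, mul_inv_cancel_right]
      rw [commutatorElement_def]
      calc g * (n * c * n⁻¹ * c⁻¹) = n * ((n⁻¹ * g * n) * c) * n⁻¹ * c⁻¹ := by group
        _ = n * (c * (n⁻¹ * g * n)) * n⁻¹ * c⁻¹ := by rw [hc2]
        _ = n * c * n⁻¹ * (g * c⁻¹) := by group
        _ = n * c * n⁻¹ * (c⁻¹ * g) := by rw [hc4]
        _ = n * c * n⁻¹ * c⁻¹ * g := by group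
    have hCc : C ≤ centralizer (NN ra X E y : Set G) :=
      Lib.CoprimeCommutator.le_centralizer_of_commutator_le C (NN ra X E y) (Ft (NN ra X E) y) hCNy hcop hNF hCF
    -- so `E(y) ≤ N(C) ≤ G_x`
    apply T.not_le A hyx
    intro e he
    apply hCP
    obtain ⟨n, hn, e₀, he₀, rfl⟩ := T.fac A hyx he
    refine mul_mem ?_ (hCnorm (T.FE.le x he₀.2))
    have h1 : n ∈ centralizer (C : Set G) :=
      (Lib.BenderMaximal.le_centralizer_symm hCc) (le_NN hyx hn)
    exact centralizer_le_normalizer _ h1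

/-- **Two `u'`-directions of coprime lengths are impossible** for a `u`-functor `X` and a solvable
`u'`-functor `E`, both nontrivial. -/
theorem NLData.false (T : NLData G u X E) {ra rb : Ω → Ω → Prop} {da db : ℕ} (A : NLDir u E ra da)
    (B : NLDir u E rb db) (hc : da.Coprime db) (x : Ω) : False :=
  false_of_half (T.half A B hc) (T.half B A hc.symm) x (Ft_ne_bot (T.NN_sol B x) (T.NN_ne_bot B x))

end

/-! ### Solvable point stabilizers -/

theorem opp_fnc (p : ℕ) : Fnc (Ω := Ω) (fun x => (pPrimeCore p (stabilizer G x)).map (stabilizer G x).subtype) where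
  le := fun x => map_subtype_le _
  eqv := by
    intro g x
    have h := stab_smul g x
    let e := (stabilizer G x).equivMapOfInjective (MulAut.conj g).toMonoidHom (MulAut.conj g).injective
    have h1 : (pPrimeCore p ((stabilizer G x).map (MulAut.conj g).toMonoidHom : Subgroup G)).map
        ((stabilizer G x).map (MulAut.conj g).toMonoidHom).subtype =
        ((pPrimeCore p (stabilizer G x)).map (stabilizer G x).subtype).map (MulAut.conj g).toMonoidHom := by
      rw [← Lib.Cores.map_equiv_pPrimeCore e p, map_map, map_map]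
      congr 1
    rw [← h1, ← h]

theorem op_fnc (p : ℕ) : Fnc (Ω := Ω) (fun x => (pCore p (stabilizer G x)).map (stabilizer G x).subtype) where
  le := fun x => map_subtype_le _
  eqv := by
    intro g x
    have h := stab_smul g x
    let e := (stabilizer G x).equivMapOfInjective (MulAut.conj g).toMonoidHom (MulAut.conj g).injective
    have h1 : (pCore p ((stabilizer G x).map (MulAut.conj g).toMonoidHom : Subgroup G)).map
        ((stabilizer G x).map (MulAut.conj g).toMonoidHom).subtype =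
        ((pCore p (stabilizer G x)).map (stabilizer G x).subtype).map (MulAut.conj g).toMonoidHom := by
      rw [← Lib.Cores.map_equiv_pCore e p, map_map, map_map]
      congr 1
    rw [← h1, ← h]

/-- **Solvable point stabilizers, not of characteristic type**: `O_u(G_x) ≠ 1`, `O_{u'}(G_x) ≠ 1` and two
coprime directions of length prime to `u`. -/
theorem false_of_solvable [Finite G] (P : PP G Ω) {ra rb : Ω → Ω → Prop} {da db : ℕ} (A : Dir G ra da)
    (B : Dir G rb db) (hc : da.Coprime db) {u : ℕ} [hu : Fact u.Prime] (hua : ¬ u ∣ da) (hub : ¬ u ∣ db)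
    (hs : ∀ x : Ω, Group.IsSolvable (stabilizer G x)) (hX : ∀ x : Ω, pCore u (stabilizer G x) ≠ ⊥)
    (hE : ∀ x : Ω, pPrimeCore u (stabilizer G x) ≠ ⊥) (x : Ω) : False := by
  have T : NLData G u (fun x : Ω => (pCore u (stabilizer G x)).map (stabilizer G x).subtype)
      (fun x : Ω => (pPrimeCore u (stabilizer G x)).map (stabilizer G x).subtype) :=
    { P := P
      FX := op_fnc u
      FE := opp_fnc u
      Xu := fun x => Lib.LocalCore.isPGroup_map_pCore u _
      Xne := fun x h => hX x ((map_eq_bot_iff_of_injective _ (stabilizer G x).subtype_injective).1 h)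
      Eu := fun x => Lib.LocalCore.card_map_pPrimeCore_coprime u _
      Es := fun x => by
        have := hs x
        exact Group.isSolvable_of_isSolvable_injective
          (inclusion_injective (map_subtype_le (pPrimeCore u (stabilizer G x))))
      Ene := fun x h => hE x ((map_eq_bot_iff_of_injective _ (stabilizer G x).subtype_injective).1 h) }
  have key : ∀ (r : Ω → Ω → Prop) (d : ℕ), Dir G r d → ¬ u ∣ d →
      NLDir u (fun x : Ω => (pPrimeCore u (stabilizer G x)).map (stabilizer G x).subtype) r d := by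
    intro r d D hd
    refine ⟨D, hd, fun x y hxy => ?_⟩
    refine Lib.LocalCore.pPrimeCoreOf_inf_le u (stabilizer G x) (stabilizer G y)
      ((pCore u (stabilizer G x)).map (stabilizer G x).subtype) (hs y) (Lib.LocalCore.isPGroup_map_pCore u _) ?_
      (Lib.LocalCore.le_normalizer_map_pCore u _) ?_
    · exact (D.le_Mk_of_subn (T.Xsubn x) (not_hasIdx_of_isPGroup (T.Xu x) hd)).trans (Mk_le_nbr hxy)
    · exact inf_le_right.trans (T.FX.normalizer_le P (T.Xne x))
  exact T.false (key ra da A hua) (key rb db B hub) hc x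

end Cfsg.Agent.R2.T3544.NLMu
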