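import Mathlib
import Cfsg.Agent.R2.T3544.Resid
import Cfsg.Agent.S0026

/-!
# S3544, box D: an active chief factor inside `[O, X]`
-/

set_option autoImplicit false

namespace Cfsg.Agent.R2.T3544

open Subgroup
open scoped commutatorElement

variable {G : Type*} [Group G]

/-- If the soluble group `X` acts coprimely on `O`, `|O : C_O(X)|` divides `d` and `[O, X] ≠ 1`, then `|[O, X]|` is not
coprime to `d`. -/
theorem act_comm [Finite G] {O X : Subgroup G} {d : ℕ} (hX : X ≤ normalizer (O : Set G))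
    (hc : (Nat.card X).Coprime (Nat.card O)) (hs : Group.IsSolvable X)
    (hi : (O ⊓ centralizer (X : Set G)).relIndex O ∣ d) (hN : (⁅O, X⁆ : Subgroup G) ≠ ⊥) :
    Act d ⊥ (⁅O, X⁆ : Subgroup G) := by
  intro h
  have h1 := S0026.result X O hX hc (Or.inl hs)
  have h2 : O ⊓ centralizer (X : Set G) ≤ normalizer ((⁅O, X⁆ : Subgroup G) : Set G) :=
    inf_le_left.trans (normalizer_commutator_ge_left O X)
  have h3 : (⁅O, X⁆ : Subgroup G) ≤ O := le_normalizer_iff_commutator_le_left.1 hX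
  have h4 : (O ⊓ centralizer (X : Set G)).relIndex ⁅O, X⁆ = (O ⊓ centralizer (X : Set G)).relIndex O := by
    refine Resid.relIndex_eq_of_cover h3 fun g hg => ?_
    rw [← h1] at hg
    obtain ⟨n, hn, o, ho, rfl⟩ := Resid.exists_mul h2 hg
    exact ⟨n, hn, by rw [inv_mul_cancel_left]; exact ho⟩
  have h5 : (O ⊓ centralizer (X : Set G)).relIndex O ∣ (⊥ : Subgroup G).relIndex ⁅O, X⁆ := by
    rw [← h4, relIndex_bot_left]
    exact relIndex_dvd_card _ _
  have h6 : (O ⊓ centralizer (X : Set G)).relIndex O = 1 := Nat.eq_one_of_dvd_coprimes h h5 hi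
  have h7 : O ≤ centralizer (X : Set G) := (relIndex_eq_one.1 h6).trans inf_le_right
  exact hN (commutator_eq_bot_iff_le_centralizer.2 h7)

/-- Box D: a chief factor of `O` inside `[O, X]` whose order is not coprime to `d`. -/
theorem exists_act [Finite G] {O X : Subgroup G} {d : ℕ} (hX : X ≤ normalizer (O : Set G))
    (hc : (Nat.card X).Coprime (Nat.card O)) (hs : Group.IsSolvable X)
    (hi : (O ⊓ centralizer (X : Set G)).relIndex O ∣ d) (hN : (⁅O, X⁆ : Subgroup G) ≠ ⊥) :
    ∃ L H : Subgroup G, Chf O L H ∧ H ≤ (⁅O, X⁆ : Subgroup G) ∧ Act d L H := by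
  obtain ⟨L, H, h1, -, h3, h4⟩ := Resid.exists_chf_act (O := O) (L := ⊥) (H := ⁅O, X⁆)
    (le_top.trans (normalizer_eq_top_iff.2 (inferInstance : (⊥ : Subgroup G).Normal)).ge)
    (normalizer_commutator_ge_left O X) (le_normalizer_iff_commutator_le_left.1 hX) bot_le
    (act_comm hX hc hs hi hN)
  exact ⟨L, H, h1, h3, h4⟩

end Cfsg.Agent.R2.T3544
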