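import Cfsg.Agent.R2.T3544.NLc
import Cfsg.Agent.R2.T3544.ResFun
import Cfsg.Agent.R2.T3544.Top

/-!
# S3544: the residual and covering statements used in `NLc`
-/

set_option autoImplicit false

namespace Cfsg.Agent.R2.T3544

open Subgroup MulAction
open scoped commutatorElement

variable {G : Type*} [Group G] [Finite G]

theorem residStmt : ResidStmt G := by
  intro O N2 d r hO hN
  have h1 := Resid.resW_noCF hN hO d r
  exact ⟨Resid.resW O N2 d r, h1.1, h1.2.1, fun L H i1 i2 i3 i4 i5 => h1.2.2 L H i1 i2 i3 ⟨i4, i5⟩,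
    fun R' i1 i2 i3 => Resid.res_le_of ⟨i1, i2, fun L H j1 j2 j3 j4 => i3 L H j1 j2 j3 j4.1 j4.2⟩⟩

theorem coverStmt : CoverStmt G := by
  intro O A N2 hAO hNA hcov L H hL hH hC
  have hO : ∀ g ∈ O, ∃ a ∈ A, ∃ c ∈ O ⊓ centralizer (N2 : Set G), g = a * c := by
    intro g hg
    obtain ⟨n, hn, a, ha, e⟩ := hcov g⁻¹ (O.inv_mem hg)
    refine ⟨a⁻¹, A.inv_mem ha, n⁻¹, inv_mem hn, ?_⟩
    rw [← inv_inv g, e, mul_inv_rev]
  exact ⟨(Resid.chf_iff hAO hNA hO hH).2 hC, Resid.wt_eq hAO hO hC.lt.le hH⟩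

theorem topStmt : TopStmt G := by
  intro O X d h1 h2 h3 h4 h5
  exact exists_act h1 h2 h3 h4 h5

end Cfsg.Agent.R2.T3544
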