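import Cfsg.Agent.R2.T3544.NLcFin
import Cfsg.Agent.R2.T3544.NLu
import Cfsg.Agent.R2.T3544.ULow
import Cfsg.Agent.Schreier.KBalance

/-!
# S3544, case NL with components: the context

`NLS G p ra rb da db`: two coprime directions of valency types prime to `p`, `O_p(G_x) ≠ 1`, and
the Schreier property for the composition factors of the point stabilizers.
`Xf G p x = O_p(G_x)`, `Of G p x = O_{p'}(G_x)`.
-/

set_option autoImplicit false
set_option linter.unusedSectionVars false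

namespace Cfsg.Agent.R2.T3544

open Subgroup Cfsg MulAction
open scoped commutatorElement
open Cfsg.Agent.Lib

/-- `X(x) = O_p(G_x)` -/
def Xf (G : Type*) [Group G] {Ω : Type*} [MulAction G Ω] (p : ℕ) (x : Ω) : Subgroup G := OP p (stabilizer G x)

/-- `O(x) = O_{p'}(G_x)` -/
def Of (G : Type*) [Group G] {Ω : Type*} [MulAction G Ω] (p : ℕ) (x : Ω) : Subgroup G := OA p (stabilizer G x)

/-- `W_r(x)`: the join of the `X(y)`, `y` a neighbour of `x` -/
def Wf {G : Type*} [Group G] {Ω : Type*} (r : Ω → Ω → Prop) (X : Ω → Subgroup G) (x : Ω) : Subgroup G :=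
  ⨆ y, ⨆ (_ : r x y), X y

theorem le_Wf {G : Type*} [Group G] {Ω : Type*} {r : Ω → Ω → Prop} {X : Ω → Subgroup G} {x y : Ω} (h : r x y) :
    X y ≤ Wf r X x := le_iSup₂_of_le y h le_rfl

theorem Wf_le {G : Type*} [Group G] {Ω : Type*} {r : Ω → Ω → Prop} {X : Ω → Subgroup G} {x : Ω} {K : Subgroup G}
    (h : ∀ y, r x y → X y ≤ K) : Wf r X x ≤ K := iSup₂_le h

theorem Wf_map_le {G : Type*} [Group G] {Ω : Type*} [MulAction G Ω] {r : Ω → Ω → Prop} {X : Ω → Subgroup G}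
    (FX : Fun G X) (hr : ∀ (g : G) {x y : Ω}, r x y → r (g • x) (g • y)) (g : G) (x : Ω) :
    (Wf r X x).map (MulAut.conj g).toMonoidHom ≤ Wf r X (g • x) := by
  rw [map_le_iff_le_comap]
  refine Wf_le fun y hy => ?_
  rw [← map_le_iff_le_comap, ← FX.smul]
  exact le_Wf (hr g hy)

/-- the context for NL with components -/
structure NLS (G : Type*) [Group G] {Ω : Type*} [MulAction G Ω] (p : ℕ) (ra rb : Ω → Ω → Prop) (da db : ℕ) :
    Prop where
  P : PP G Ω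
  A : Dir G ra da
  B : Dir G rb db
  hab : da.Coprime db
  pa : ¬ p ∣ da
  pb : ¬ p ∣ db
  X1 : ∀ x : Ω, Xf G p x ≠ ⊥
  sch : ∀ x : Ω, Cfsg.Agent.Schreier.KBalance.SchFactors ↥(stabilizer G x)

section

variable {G : Type*} [Group G] {Ω : Type*} [MulAction G Ω] {p : ℕ}

theorem OP_pgroup (p : ℕ) (A : Subgroup G) : IsPGroup p (OP p A) := LocalCore.isPGroup_map_pCore p A

theorem OA_cop [Finite G] (p : ℕ) (A : Subgroup G) : (Nat.card (OA p A)).Coprime p :=
  LocalCore.card_map_pPrimeCore_coprime p A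

/-- order prime to `p` -/
theorem cop_of_pgroup [Finite G] {p : ℕ} [Fact p.Prime] {X : Subgroup G} (hX : IsPGroup p X) {m : ℕ} (h : m.Coprime p) :
    (Nat.card X).Coprime m := by
  obtain ⟨k, hk⟩ := IsPGroup.iff_card.1 hX
  rw [hk]
  exact Nat.Coprime.pow_left _ h.symm

theorem Xf_fun : Fun G (Xf G p : Ω → Subgroup G) := pCore_fun G Ω p

theorem Of_fun : Fun G (Of G p : Ω → Subgroup G) := pPrimeCore_fun G Ω p

theorem Xf_pgroup (x : Ω) : IsPGroup p (Xf G p x) := OP_pgroup p _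

theorem Of_cop [Finite G] (x : Ω) : (Nat.card (Of G p x)).Coprime p := OA_cop p _

theorem XO_cop [Finite G] [Fact p.Prime] (x y : Ω) : (Nat.card (Xf G p x)).Coprime (Nat.card (Of G p y)) :=
  cop_of_pgroup (Xf_pgroup x) (Of_cop y)

theorem Of_inf_Xf [Finite G] [Fact p.Prime] (x y : Ω) : Of G p x ⊓ Xf G p y = ⊥ := by
  rw [inf_comm]
  exact (disjoint_of_coprime_natCard (XO_cop y x)).eq_bot

end

namespace NLS

variable {G : Type*} [Group G] {Ω : Type*} [MulAction G Ω] {p : ℕ} {ra rb : Ω → Ω → Prop} {da db : ℕ}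

theorem symm (h : NLS G p ra rb da db) : NLS G p rb ra db da :=
  ⟨h.P, h.B, h.A, h.hab.symm, h.pb, h.pa, h.X1, h.sch⟩

/-- `N_G(X(y)) ≤ G_y` -/
theorem norm_le (h : NLS G p ra rb da db) (y : Ω) : normalizer (Xf G p y : Set G) ≤ stabilizer G y :=
  Xf_fun.normalizer_le h.P (h.X1 y)

theorem cent_le (h : NLS G p ra rb da db) (y : Ω) : centralizer (Xf G p y : Set G) ≤ stabilizer G y :=
  Xf_fun.centralizer_le h.P (h.X1 y)

theorem norm_eq (h : NLS G p ra rb da db) (y : Ω) : normalizer (Xf G p y : Set G) = stabilizer G y :=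
  le_antisymm (h.norm_le y) (Xf_fun.norm y)

variable [Finite G] [Fact p.Prime]

theorem X_cop (h : NLS G p ra rb da db) (x : Ω) : (Nat.card (Xf G p x)).Coprime da :=
  cop_of_pgroup (Xf_pgroup x) ((Nat.Prime.coprime_iff_not_dvd Fact.out).2 h.pa).symm

theorem X_sub (x : Ω) : SubnIn (Xf G p x) (stabilizer G x) :=
  SubnIn.of_normal (Xf_fun.le x) (Xf_fun.norm x)

theorem X_idx (h : NLS G p ra rb da db) (x : Ω) : ¬ HasIdx (Xf G p x) da :=
  not_hasIdx_of_card_dvd dvd_rfl (h.X_cop x)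

/-- `X(x) ≤ M_a(x)` -/
theorem X_le_Mk (h : NLS G p ra rb da db) (x : Ω) : Xf G p x ≤ Mk G ra x :=
  h.A.le_Mk_of_subn (X_sub x) (h.X_idx x)

/-- `X(y) ≤ G_x` for neighbours -/
theorem X_le (h : NLS G p ra rb da db) {x y : Ω} (hy : ra x y) : Xf G p y ≤ stabilizer G x :=
  (h.X_le_Mk y).trans (Mk_le_nbr (h.A.symm hy))

/-- `X(y) ≤ M_b(x)` for `y ~_a x` -/
theorem X_le_Mk' (h : NLS G p ra rb da db) {x y : Ω} (hy : ra x y) : Xf G p y ≤ Mk G rb x :=
  h.A.le_Mk_of_subn' h.B h.hab hy (X_sub y) (h.X_le hy) (h.symm.X_idx y)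

theorem norm_O (h : NLS G p ra rb da db) {x y : Ω} (hy : ra x y) : Xf G p y ≤ normalizer (Of G p x : Set G) :=
  (h.X_le hy).trans (Of_fun.norm x)

/-- `O(x) ∩ G_y` centralises `X(y)` -/
theorem comm (h : NLS G p ra rb da db) {x y : Ω} (hy : ra x y) :
    ⁅Of G p x ⊓ stabilizer G y, Xf G p y⁆ = ⊥ := by
  rw [eq_bot_iff, ← Of_inf_Xf (G := G) (p := p) x y]
  refine le_inf ?_ ?_
  · exact (commutator_mono inf_le_left le_rfl).trans
      (le_normalizer_iff_commutator_le_left.1 (h.norm_O hy))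
  · exact (commutator_mono inf_le_right le_rfl).trans
      (le_normalizer_iff_commutator_le_right.1 (Xf_fun.norm y))

/-- `[O(x), X(x)] = 1` -/
theorem comm_self (x : Ω) : ⁅Of G p x, Xf G p x⁆ = ⊥ := by
  rw [eq_bot_iff, ← Of_inf_Xf (G := G) (p := p) x x]
  refine le_inf ?_ ?_
  · exact le_normalizer_iff_commutator_le_left.1 ((Xf_fun.le x).trans (Of_fun.norm x))
  · exact le_normalizer_iff_commutator_le_right.1 ((Of_fun.le x).trans (Xf_fun.norm x))

/-- `C_{O(x)}(X(y)) = O(x) ∩ G_y` -/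
theorem inf_cent (h : NLS G p ra rb da db) {x y : Ω} (hy : ra x y) :
    Of G p x ⊓ centralizer (Xf G p y : Set G) = Of G p x ⊓ stabilizer G y := by
  refine le_antisymm (inf_le_inf_left _ (h.cent_le y)) (le_inf inf_le_left ?_)
  exact commutator_eq_bot_iff_le_centralizer.1 (h.comm hy)

/-- the factorization of `O(x)` -/
theorem sup (h : NLS G p ra rb da db) {x y : Ω} (hy : ra x y) :
    ⁅Of G p x, Xf G p y⁆ ⊔ (Of G p x ⊓ centralizer (Xf G p y : Set G)) = Of G p x :=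
  CopLem.sup_eq (h.norm_O hy) (XO_cop y x) (CopLem.solv_of_isPGroup (Xf_pgroup y))

/-- `[O(x), X(y), X(y)] = [O(x), X(y)]` -/
theorem comm_comm (h : NLS G p ra rb da db) {x y : Ω} (hy : ra x y) :
    ⁅⁅Of G p x, Xf G p y⁆, Xf G p y⁆ = ⁅Of G p x, Xf G p y⁆ :=
  CopLem.comm_comm (h.norm_O hy) (XO_cop y x) (CopLem.solv_of_isPGroup (Xf_pgroup y))

/-- the index of `C_{O(x)}(X(y))` in `O(x)` divides `d_a` -/
theorem idx (h : NLS G p ra rb da db) {x y : Ω} (hy : ra x y) :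
    (Of G p x ⊓ centralizer (Xf G p y : Set G)).relIndex (Of G p x) ∣ da := by
  rw [h.inf_cent hy, inf_comm, inf_relIndex_right, ← h.A.idx hy]
  exact (SubnIn.of_normal (Of_fun.le x) (Of_fun.norm x)).relIndex_dvd (stabilizer G y)

/-! ### `N_a(x)`, `N_b(x)` -/

theorem comm_le_O (h : NLS G p ra rb da db) {x y : Ω} (hy : ra x y) : ⁅Of G p x, Xf G p y⁆ ≤ Of G p x :=
  le_normalizer_iff_commutator_le_left.1 (h.norm_O hy)

theorem N_le_O (h : NLS G p ra rb da db) (x : Ω) : Nf ra (Xf G p) (Of G p) x ≤ Of G p x :=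
  Nf_le fun _ hy => h.comm_le_O hy

theorem FN (h : NLS G p ra rb da db) : Fun G (Nf ra (Xf G p) (Of G p)) :=
  Fun.of_map_le (fun x => (h.N_le_O x).trans (Of_fun.le x))
    (Nf_map_le Xf_fun Of_fun fun g {_ _} hxy => h.A.smul g hxy)

theorem fac (h : NLS G p ra rb da db) {x y : Ω} (hy : ra x y) {g : G} (hg : g ∈ Of G p x) :
    ∃ n ∈ Nf ra (Xf G p) (Of G p) x, ∃ o ∈ Of G p x ⊓ stabilizer G y, g = n * o := by
  have h2 : Of G p x ⊓ centralizer (Xf G p y : Set G) ≤ normalizer ((⁅Of G p x, Xf G p y⁆ : Subgroup G) : Set G) :=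
    inf_le_left.trans (normalizer_commutator_ge_left _ _)
  rw [← h.sup hy] at hg
  obtain ⟨n, hn, o, ho, rfl⟩ := exists_mul_of_mem_sup h2 hg
  rw [h.inf_cent hy] at ho
  exact ⟨n, le_Nf hy hn, o, ho, rfl⟩

/-- `N_a(x) ≤ M_b(x)` -/
theorem N_le_Mk (h : NLS G p ra rb da db) (x : Ω) : Nf ra (Xf G p) (Of G p) x ≤ Mk G rb x :=
  Nf_le fun _ hy => (commutator_mono le_rfl (h.X_le_Mk' hy)).trans
    (le_normalizer_iff_commutator_le_right.1 ((Of_fun.le x).trans (h.B.Mk_norm x)))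

/-- `N_a(x) ≤ O(x) ∩ G_w` for `w ~_b x` -/
theorem N_le_inf (h : NLS G p ra rb da db) {x w : Ω} (hw : rb x w) :
    Nf ra (Xf G p) (Of G p) x ≤ Of G p x ⊓ stabilizer G w :=
  le_inf (h.N_le_O x) ((h.N_le_Mk x).trans (Mk_le_nbr hw))

/-- `[N_a(x), X(w)] = 1` for `w ~_b x` -/
theorem N_comm_X (h : NLS G p ra rb da db) {x w : Ω} (hw : rb x w) :
    ⁅Nf ra (Xf G p) (Of G p) x, Xf G p w⁆ = ⊥ := by
  rw [eq_bot_iff, ← h.symm.comm hw]
  exact commutator_mono (h.N_le_inf hw) le_rfl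

/-- `[N_b(x), N_a(x)] = 1` -/
theorem N_comm (h : NLS G p ra rb da db) (x : Ω) :
    ⁅Nf rb (Xf G p) (Of G p) x, Nf ra (Xf G p) (Of G p) x⁆ = ⊥ := by
  rw [commutator_eq_bot_iff_le_centralizer]
  refine Nf_le fun w hw => ?_
  rw [← commutator_eq_bot_iff_le_centralizer]
  have h1 := h.N_comm_X hw
  apply commutator_commutator_eq_bot_of_rotate
  · rw [commutator_comm (Xf G p w), h1, commutator_bot_left]
  · rw [eq_bot_iff, ← h1]
    refine commutator_mono ?_ le_rfl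
    exact le_normalizer_iff_commutator_le_left.1 ((Of_fun.le x).trans (h.FN.norm x))

/-! ### `W_a(x)`, `W_b(x)` -/

theorem W_le (h : NLS G p ra rb da db) (x : Ω) : Wf ra (Xf G p) x ≤ stabilizer G x := Wf_le fun _ hy => h.X_le hy

theorem FW (h : NLS G p ra rb da db) : Fun G (Wf ra (Xf G p)) :=
  Fun.of_map_le h.W_le (Wf_map_le Xf_fun fun g {_ _} hxy => h.A.smul g hxy)

/-- `W_a(x) ≤ M_b(x)` -/
theorem W_le_Mk (h : NLS G p ra rb da db) (x : Ω) : Wf ra (Xf G p) x ≤ Mk G rb x := Wf_le fun _ hy => h.X_le_Mk' hy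

/-- `[W_a(x), N_b(x)] = 1` -/
theorem W_comm (h : NLS G p ra rb da db) (x : Ω) : ⁅Wf ra (Xf G p) x, Nf rb (Xf G p) (Of G p) x⁆ = ⊥ := by
  rw [commutator_eq_bot_iff_le_centralizer]
  refine Wf_le fun y hy => ?_
  rw [← commutator_eq_bot_iff_le_centralizer, commutator_comm]
  exact h.symm.N_comm_X hy

end NLS

end Cfsg.Agent.R2.T3544
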