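import Cfsg.Agent.R2.T3544.UDef
import Cfsg.Agent.R2.T3544.NLu
import Cfsg.Agent.Schreier.KBalance
import Cfsg.Agent.SignalizersComponents.PLayerAut

/-!
# S3544, case NL with components: the end game (helper25's (e))

If a nontrivial functor `R` with `R x ≤ G_y` centralises `[O(y), X(x)]` and, modulo `O(y)`, the `p`-components of `G_y` moved by
`X(x)`, then `G_y` is of characteristic `p`.
-/

set_option autoImplicit false
set_option linter.unusedSectionVars false

namespace Cfsg.Agent.R2.T3544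

open Subgroup Cfsg MulAction
open scoped commutatorElement

/-! ### The statements used -/

/-- Box 2 -/
def BalStmt (G : Type*) [Group G] (p : ℕ) : Prop :=
  ∀ {H X K : Subgroup G}, Schreier.KBalance.SchFactors H → X ≤ H → IsPGroup p X →
    ¬ p ∣ (normalizer (X : Set G)).relIndex H → UC p K (H ⊓ normalizer (X : Set G)) → ∃ J, UC p J H ∧ K ≤ J

/-- Box 3 (i) -/
def CommNormStmt (G : Type*) [Group G] (p : ℕ) : Prop :=
  ∀ {K H D : Subgroup G}, UC p K H → D ≤ H → (IsPGroup p D ∨ (Nat.card D).Coprime p) →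
    K ≤ OA p H ⊔ (H ⊓ normalizer (D : Set G)) → ⁅K, D⁆ ≤ OA p H

/-- Box 3 (ii) -/
def CoreCommStmt (G : Type*) [Group G] (p : ℕ) : Prop :=
  ∀ {H D R : Subgroup G}, D ≤ H → (Nat.card D).Coprime p → R ≤ H → IsPGroup p R → ¬ p ∣ R.relIndex H →
    R ≤ normalizer (D : Set G) → (∀ K, UC p K H → ⁅K, D⁆ ≤ OA p H) → D ≤ OA p H

/-- Box 1, the parts used here -/
structure UCBasic (G : Type*) [Group G] (p : ℕ) : Prop where
  perfect : ∀ {K A : Subgroup G}, UC p K A → ⁅K, K⁆ = K
  not_comm : ∀ {K A : Subgroup G}, UC p K A → ¬ ⁅K, K⁆ ≤ OA p A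
  le_or_comm : ∀ {K A N : Subgroup G}, UC p K A → SubnIn N A → K ≤ N ∨ ⁅K, N⁆ ≤ OA p A
  mono_sub : ∀ {K A B : Subgroup G}, UC p K A → K ≤ B → B ≤ A → UC p K B

section

variable {G : Type*} [Group G] [Finite G]

/-- `[J, X] ≤ O`, `[O, X] = 1`, coprime orders: `[J, X] = 1` -/
theorem comm_bot_of_coprime {J X O : Subgroup G} (h1 : ⁅J, X⁆ ≤ O) (h2 : ⁅O, X⁆ = ⊥)
    (hc : (Nat.card X).Coprime (Nat.card O)) : ⁅J, X⁆ = ⊥ := by
  rw [eq_bot_iff, commutator_le]
  intro j hj t ht
  rw [mem_bot]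
  have hO : ∀ s ∈ X, ⁅j, s⁆ ∈ O := fun s hs => h1 (commutator_mem_commutator hj hs)
  have hcom : ∀ o ∈ O, t * o * t⁻¹ = o := by
    intro o ho
    have h3 : ⁅o, t⁆ ∈ ⁅O, X⁆ := commutator_mem_commutator ho ht
    rw [h2, mem_bot, commutatorElement_eq_one_iff_mul_comm] at h3
    rw [← h3, mul_inv_cancel_right]
  have hz : ∀ n : ℕ, ⁅j, t ^ n⁆ = ⁅j, t⁆ ^ n := by
    intro n
    induction n with
    | zero => simp
    | succ n ih =>
      have e : ⁅j, t * t ^ n⁆ = ⁅j, t⁆ * (t * ⁅j, t ^ n⁆ * t⁻¹) := by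
        simp only [commutatorElement_def]; group
      rw [pow_succ', e, hcom _ (hO _ (X.pow_mem ht n)), ih, pow_succ']
  have h3 : ⁅j, t⁆ ^ Nat.card X = 1 := by
    have h4 : (⟨t, ht⟩ : X) ^ Nat.card X = 1 := pow_card_eq_one'
    have h5 : t ^ Nat.card X = 1 := congrArg Subtype.val h4
    rw [← hz, h5, commutatorElement_one_right]
  have h4 : ⁅j, t⁆ ^ Nat.card O = 1 := by
    have h4 : (⟨⁅j, t⁆, hO t ht⟩ : O) ^ Nat.card O = 1 := pow_card_eq_one'
    exact congrArg Subtype.val h4
  have h5 : orderOf ⁅j, t⁆ ∣ 1 := by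
    rw [← hc]
    exact Nat.dvd_gcd (orderOf_dvd_of_pow_eq_one h3) (orderOf_dvd_of_pow_eq_one h4)
  exact orderOf_eq_one_iff.1 (Nat.dvd_one.1 h5)

theorem UC.le_pLayerOf {p : ℕ} {J H : Subgroup G} (h : UC p J H) : J ≤ pLayerOf p H := by
  have h1 : J.subgroupOf H ≤ pLayer p H := le_sSup h.2
  have h2 := map_mono (f := H.subtype) h1
  rw [map_subgroupOf_eq_of_le h.1] at h2
  exact h2

theorem pLayerOf_le_iff {p : ℕ} {H B : Subgroup G} : pLayerOf p H ≤ B ↔ ∀ J, UC p J H → J ≤ B := by
  constructor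
  · intro h J hJ
    exact hJ.le_pLayerOf.trans h
  · intro h
    unfold pLayerOf pLayer
    rw [map_le_iff_le_comap]
    refine sSup_le fun K hK => ?_
    rw [← map_le_iff_le_comap]
    refine h _ ⟨map_subtype_le _, ?_⟩
    have e : (K.map H.subtype).subgroupOf H = K := comap_map_eq_self_of_injective H.subtype_injective K
    rw [e]
    exact hK

end

section

universe u v

variable {G : Type u} [Group G] [Finite G] {Ω : Type v} [MulAction G Ω]

theorem OP_fun (p : ℕ) : Fun G (fun x : Ω => OP p (stabilizer G x)) := pCore_fun G Ω p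

theorem OA_fun (p : ℕ) : Fun G (fun x : Ω => OA p (stabilizer G x)) := pPrimeCore_fun G Ω p

theorem OPf_isPGroup (p : ℕ) (H : Subgroup G) : IsPGroup p (OP p H) := Lib.LocalCore.isPGroup_map_pCore p _

theorem OA_card_coprime (p : ℕ) (H : Subgroup G) : (Nat.card (OA p H)).Coprime p :=
  Lib.LocalCore.card_map_pPrimeCore_coprime p _

theorem OP_OA_coprime (p : ℕ) [Fact p.Prime] (H K : Subgroup G) :
    (Nat.card (OP p H)).Coprime (Nat.card (OA p K)) := by
  obtain ⟨k, hk⟩ := IsPGroup.iff_card.1 (OPf_isPGroup p H)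
  rw [hk]
  exact Nat.Coprime.pow_left _ (OA_card_coprime p K).symm

theorem OP_card_coprime (p : ℕ) [hp : Fact p.Prime] (H : Subgroup G) {d : ℕ} (hd : ¬ p ∣ d) :
    (Nat.card (OP p H)).Coprime d := by
  obtain ⟨k, hk⟩ := IsPGroup.iff_card.1 (OPf_isPGroup p H)
  rw [hk]
  exact Nat.Coprime.pow_left _ ((Nat.Prime.coprime_iff_not_dvd hp.out).2 hd)

/-- `O_p(G_x) ≤ G_y` -/
theorem OP_le_nbr {r : Ω → Ω → Prop} {d : ℕ} (D : Dir G r d) {p : ℕ} [Fact p.Prime] (hpd : ¬ p ∣ d) {x y : Ω}
    (hxy : r x y) : OP p (stabilizer G x) ≤ stabilizer G y := by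
  have h1 : SubnIn (OP p (stabilizer G x)) (stabilizer G x) :=
    SubnIn.of_normal ((OP_fun p).le x) ((OP_fun p).norm x)
  exact (D.le_Mk_of_subn h1 (not_hasIdx_of_card_dvd dvd_rfl (OP_card_coprime p _ hpd))).trans (Mk_le_nbr hxy)

/-- **End game.** -/
theorem endgame (P : PP G Ω) {r : Ω → Ω → Prop} {d : ℕ} (D : Dir G r d) {p : ℕ} [Fact p.Prime] (hpd : ¬ p ∣ d)
    (U : UCBasic G p) (BS : BalStmt G p) (CN : CommNormStmt G p) (CC : CoreCommStmt G p)
    (hSch : ∀ z : Ω, Schreier.KBalance.SchFactors (stabilizer G z))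
    (hX1 : ∀ z : Ω, OP p (stabilizer G z) ≠ ⊥)
    (hNL : ∀ z : Ω, OA p (stabilizer G z) ≠ ⊥ ∨ ∃ J, UC p J (stabilizer G z))
    {x y : Ω} (hxy : r x y) {R : Ω → Subgroup G} (FR : Fun G R) (hR1 : R x ≠ ⊥)
    (h1 : ⁅R x, ⁅OA p (stabilizer G y), OP p (stabilizer G x)⁆⁆ = ⊥)
    (h2 : ∀ J, UC p J (stabilizer G y) → ¬ ⁅J, OP p (stabilizer G x)⁆ ≤ OA p (stabilizer G y) →
      ⁅R x, J⁆ ≤ OA p (stabilizer G y)) : False := by
  have FX := OP_fun (G := G) (Ω := Ω) p
  have FO := OA_fun (G := G) (Ω := Ω) p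
  have hyx := D.symm hxy
  have hXy : OP p (stabilizer G x) ≤ stabilizer G y := OP_le_nbr D hpd hxy
  have hX'x : OP p (stabilizer G y) ≤ stabilizer G x := OP_le_nbr D hpd hyx
  have hXn : OP p (stabilizer G x) ≤ normalizer (OA p (stabilizer G y) : Set G) := hXy.trans (FO.norm y)
  have hc := OP_OA_coprime p (stabilizer G x) (stabilizer G y)
  have hRc : centralizer (R x : Set G) ≤ stabilizer G x := FR.centralizer_le P hR1
  have hXc : centralizer (OP p (stabilizer G x) : Set G) ≤ stabilizer G x := FX.centralizer_le P (hX1 x)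
  -- `P = [O(y), X(x)] = 1`
  have hP : ⁅OA p (stabilizer G y), OP p (stabilizer G x)⁆ = ⊥ := by
    have h3 : ⁅OA p (stabilizer G y), OP p (stabilizer G x)⁆ ≤ stabilizer G x := by
      refine le_trans ?_ hRc
      rw [commutator_comm] at h1
      exact commutator_eq_bot_iff_le_centralizer.1 h1
    have h4 : ⁅⁅OA p (stabilizer G y), OP p (stabilizer G x)⁆, OP p (stabilizer G x)⁆ = ⊥ := by
      rw [eq_bot_iff]
      have h5 : OA p (stabilizer G y) ⊓ OP p (stabilizer G x) = ⊥ := by
        rw [inf_comm]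
        exact (disjoint_of_coprime_natCard hc).eq_bot
      rw [← h5]
      refine le_inf ?_ ?_
      · exact (commutator_mono (CopLem.comm_le hXn) le_rfl).trans (CopLem.comm_le hXn)
      · exact comm_le_r (h3.trans (FX.norm x))
    rwa [CopLem.comm_comm hXn hc (CopLem.solv_of_isPGroup (OPf_isPGroup p _))] at h4
  have hOX : OP p (stabilizer G x) ≤ centralizer (OA p (stabilizer G y) : Set G) := by
    rw [commutator_comm] at hP
    exact commutator_eq_bot_iff_le_centralizer.1 hP
  have hOx : OA p (stabilizer G y) ≤ stabilizer G x :=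
    (commutator_eq_bot_iff_le_centralizer.1 hP).trans hXc
  -- no moved `p`-component
  have hJ : ∀ J, UC p J (stabilizer G y) → ⁅J, OP p (stabilizer G x)⁆ ≤ OA p (stabilizer G y) := by
    intro J hJ
    by_contra hcon
    have hCn : SubnIn (centralizer (OA p (stabilizer G y) : Set G) ⊓ stabilizer G y) (stabilizer G y) :=
      SubnIn.of_normal inf_le_right (Resid.norm_inf (nrm_centralizer (FO.norm y)) le_normalizer)
    rcases U.le_or_comm hJ hCn with h3 | h3
    · have h4 : ⁅J, OA p (stabilizer G y)⁆ = ⊥ :=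
        commutator_eq_bot_iff_le_centralizer.2 (h3.trans inf_le_left)
      have h5 := h2 J hJ hcon
      have h6 : ⁅⁅J, J⁆, R x⁆ = ⊥ := by
        apply commutator_commutator_eq_bot_of_rotate
        · rw [eq_bot_iff, commutator_comm J (R x)]
          rw [commutator_comm] at h4
          rw [← h4]
          exact commutator_mono h5 le_rfl
        · rw [eq_bot_iff]
          rw [commutator_comm] at h4
          rw [← h4]
          exact commutator_mono h5 le_rfl
      rw [U.perfect hJ] at h6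
      have h7 : J ≤ stabilizer G x := (commutator_eq_bot_iff_le_centralizer.1 h6).trans hRc
      exact hcon (CN hJ hXy (Or.inl (OPf_isPGroup p _)) ((le_inf hJ.1 (h7.trans (FX.norm x))).trans le_sup_right))
    · exact hcon ((commutator_mono le_rfl (le_inf hOX hXy)).trans h3)
  -- the `p`-components of `G_y` lie in `G_x`
  have hJx : ∀ J, UC p J (stabilizer G y) → J ≤ stabilizer G x := by
    intro J h
    have h3 := comm_bot_of_coprime (hJ J h) hP hc
    exact (commutator_eq_bot_iff_le_centralizer.1 h3).trans hXc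
  have hn : normalizer (OP p (stabilizer G y) : Set G) = stabilizer G y :=
    le_antisymm (FX.normalizer_le P (hX1 y)) (FX.norm y)
  have FT : Fun G (fun z : Ω => pLayerOf p (stabilizer G z)) :=
    Fun.of_iso (fun K _ => pLayer p K) (fun K L _ _ e => by
      unfold pLayer
      rw [map_le_iff_le_comap]
      refine sSup_le fun E hE => ?_
      rw [← map_le_iff_le_comap]
      exact le_sSup (Cfsg.Agent.SignalizersComponents.PLayerAut.isPComponent_map_equiv p e hE))
  have hT : pLayerOf p (stabilizer G y) ≤ pLayerOf p (stabilizer G x) := by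
    rw [pLayerOf_le_iff]
    intro J h
    have h3 : UC p J (stabilizer G x ⊓ normalizer (OP p (stabilizer G y) : Set G)) := by
      rw [hn]
      exact U.mono_sub h (le_inf (hJx J h) h.1) inf_le_right
    obtain ⟨J', h4, h5⟩ := BS (hSch x) hX'x (OPf_isPGroup p _) (by rw [hn, D.idx hxy]; exact hpd) h3
    exact h5.trans h4.le_pLayerOf
  have hTy : pLayerOf p (stabilizer G y) = ⊥ := by
    by_contra hcon
    exact FT.not_le P D hyx hcon hT
  have hno : ∀ z : Ω, ¬ ∃ J, UC p J (stabilizer G z) := by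
    rintro z ⟨J, h⟩
    have h3 : pLayerOf p (stabilizer G z) = ⊥ := by
      by_contra hcon
      exact FT.ne_bot P hcon y hTy
    have h4 : J = ⊥ := eq_bot_iff.2 (h.le_pLayerOf.trans h3.le)
    apply U.not_comm h
    rw [h4, commutator_bot_left]
    exact bot_le
  -- `O(y) ≤ O(x)`
  have hOO : OA p (stabilizer G y) ≤ OA p (stabilizer G x) := by
    obtain ⟨S⟩ : Nonempty (Sylow p (stabilizer G x ⊓ stabilizer G y : Subgroup G)) := inferInstance
    have hSle : (S : Subgroup _).map (stabilizer G x ⊓ stabilizer G y).subtype ≤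
        stabilizer G x ⊓ stabilizer G y := map_subtype_le _
    have hSp : IsPGroup p ((S : Subgroup _).map (stabilizer G x ⊓ stabilizer G y).subtype) := S.isPGroup'.map _
    have hi1 : ¬ p ∣ ((S : Subgroup _).map (stabilizer G x ⊓ stabilizer G y).subtype).relIndex
        (stabilizer G x ⊓ stabilizer G y) := by
      rw [relIndex, subgroupOf, comap_map_eq_self_of_injective (subtype_injective _)]
      exact S.not_dvd_index
    have hi2 : (stabilizer G x ⊓ stabilizer G y).relIndex (stabilizer G x) = d := by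
      rw [inf_relIndex_left]
      exact D.idx hxy
    have hi : ¬ p ∣ ((S : Subgroup _).map (stabilizer G x ⊓ stabilizer G y).subtype).relIndex (stabilizer G x) := by
      rw [← relIndex_mul_relIndex _ _ _ hSle inf_le_left, hi2]
      intro h
      rcases (Nat.Prime.dvd_mul Fact.out).1 h with h | h
      · exact hi1 h
      · exact hpd h
    refine CC hOx (OA_card_coprime p _) (hSle.trans inf_le_left) hSp hi
      ((hSle.trans inf_le_right).trans (FO.norm y)) ?_
    intro K hK
    exact absurd ⟨K, hK⟩ (hno x)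
  rcases hNL y with h | h
  · exact FO.not_le P D hyx h hOO
  · exact hno y h

end

end Cfsg.Agent.R2.T3544
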