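import Cfsg.Agent.R2.T3544.Chief2
import Cfsg.Agent.R2.T3544.OffV
import Cfsg.Agent.R2.T3544.OffB

/-!
# S3544, LOC: the size lemma (best offenders and commuting normal subgroups)
-/

set_option autoImplicit false

namespace Cfsg.Agent.R2.T3544

open Subgroup
open scoped commutatorElement

variable {G : Type*} [Group G]

/-- minimal non-trivial `X`-invariant subgroup -/
def MinInv (X N : Subgroup G) : Prop :=
  N ≠ ⊥ ∧ X ≤ normalizer (N : Set G) ∧ ∀ K ≤ N, X ≤ normalizer (K : Set G) → K = ⊥ ∨ K = N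

theorem norm_map_conj {X N : Subgroup G} (h : X ≤ normalizer (N : Set G)) {g : G}
    (hg : g ∈ normalizer (X : Set G)) :
    X ≤ normalizer ((N.map (MulAut.conj g).toMonoidHom : Subgroup G) : Set G) := by
  refine le_normalizer_of_map_le fun x hx => ?_
  have h1 : g⁻¹ * x * g ∈ X := by
    have := (mem_normalizer_iff.1 (inv_mem hg) x).1 hx
    rwa [inv_inv] at this
  have e : x * g = g * (g⁻¹ * x * g) := by group
  rw [← map_conj_mul, e, map_conj_mul, map_conj_of_mem_normalizer (h h1)]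

theorem norm_inf_off {X A B : Subgroup G} (hA : X ≤ normalizer (A : Set G)) (hB : X ≤ normalizer (B : Set G)) :
    X ≤ normalizer ((A ⊓ B : Subgroup G) : Set G) :=
  le_normalizer_of_map_le fun g hg => le_inf
    ((map_mono inf_le_left).trans (map_conj_of_mem_normalizer (hA hg)).le)
    ((map_mono inf_le_right).trans (map_conj_of_mem_normalizer (hB hg)).le)

theorem norm_sup_off {X A B : Subgroup G} (hA : X ≤ normalizer (A : Set G)) (hB : X ≤ normalizer (B : Set G)) :
    X ≤ normalizer ((A ⊔ B : Subgroup G) : Set G) :=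
  le_normalizer_of_map_le fun g hg => by
    rw [Subgroup.map_sup, map_conj_of_mem_normalizer (hA hg), map_conj_of_mem_normalizer (hB hg)]

theorem norm_comm_off {X A B : Subgroup G} (hA : X ≤ normalizer (A : Set G)) (hB : X ≤ normalizer (B : Set G)) :
    X ≤ normalizer ((⁅A, B⁆ : Subgroup G) : Set G) :=
  le_normalizer_of_map_le fun g hg => by
    rw [Subgroup.map_commutator, map_conj_of_mem_normalizer (hA hg), map_conj_of_mem_normalizer (hB hg)]

theorem map_conj_inv_conj (K : Subgroup G) (g : G) :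
    (K.map (MulAut.conj g⁻¹).toMonoidHom).map (MulAut.conj g).toMonoidHom = K := by
  rw [← map_conj_mul, mul_inv_cancel]
  exact map_conj_of_mem_normalizer (one_mem _)

theorem MinInv.conj {X N : Subgroup G} (h : MinInv X N) {g : G} (hg : g ∈ normalizer (X : Set G)) :
    MinInv X (N.map (MulAut.conj g).toMonoidHom) := by
  refine ⟨fun h1 => h.1 ((map_eq_bot_iff_of_injective _ (MulAut.conj g).injective).1 h1),
    norm_map_conj h.2.1 hg, fun K hK hn => ?_⟩
  have h1 : K.map (MulAut.conj g⁻¹).toMonoidHom ≤ N := by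
    have h2 := map_mono (f := (MulAut.conj g⁻¹).toMonoidHom) hK
    rw [← map_conj_mul, inv_mul_cancel, map_conj_of_mem_normalizer (one_mem _)] at h2
    exact h2
  rcases h.2.2 _ h1 (norm_map_conj hn (inv_mem hg)) with h3 | h3
  · left
    exact (map_eq_bot_iff_of_injective _ (MulAut.conj g⁻¹).injective).1 h3
  · right
    rw [← h3, map_conj_inv_conj]

/-- Clifford -/
theorem MinInv.le_of_conj_le {S V N W : Subgroup G} (hV : MinInv S V) (hNV : N ≤ V) (hN : N ≠ ⊥)
    (h : ∀ s ∈ S, N.map (MulAut.conj s).toMonoidHom ≤ W) : V ≤ W := by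
  set K : Subgroup G := ⨆ s : S, N.map (MulAut.conj (s : G)).toMonoidHom with hK
  have h1 : K ≤ V := iSup_le fun s => by
    have := map_mono (f := (MulAut.conj (s : G)).toMonoidHom) hNV
    rwa [map_conj_of_mem_normalizer (hV.2.1 s.2)] at this
  have h2 : S ≤ normalizer (K : Set G) := by
    refine le_normalizer_of_map_le fun t ht => ?_
    rw [hK, Subgroup.map_iSup]
    refine iSup_le fun s => ?_
    rw [← map_conj_mul]
    exact le_iSup (fun s : S => N.map (MulAut.conj (s : G)).toMonoidHom) (⟨t, ht⟩ * s)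
  have h3 : N ≤ K := by
    have h4 : N.map (MulAut.conj ((1 : S) : G)).toMonoidHom ≤ K :=
      le_iSup (fun s : S => N.map (MulAut.conj (s : G)).toMonoidHom) 1
    have h5 : N.map (MulAut.conj ((1 : S) : G)).toMonoidHom = N := map_conj_of_mem_normalizer (one_mem _)
    rwa [h5] at h4
  rcases hV.2.2 K h1 h2 with h4 | h4
  · exact absurd (le_bot_iff.1 (h4 ▸ h3)) hN
  · rw [← h4]
    exact iSup_le fun s => h s s.2

theorem card_sup_inf_le {A B : Subgroup G} [Finite G] (h : A ≤ normalizer (B : Set G)) :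
    Nat.card (A ⊔ B : Subgroup G) * Nat.card (A ⊓ B : Subgroup G) = Nat.card A * Nat.card B := by
  have h1 := relIndex_sup_nl h
  have h2 : Nat.card B * B.relIndex (A ⊔ B) = Nat.card (A ⊔ B : Subgroup G) := by
    have := card_mul_index (B.subgroupOf (A ⊔ B))
    rw [Nat.card_congr (subgroupOfEquivOfLe (le_sup_right : B ≤ A ⊔ B)).toEquiv] at this
    exact this
  have h3 : Nat.card (A ⊓ B : Subgroup G) * B.relIndex A = Nat.card A := by
    have := card_mul_index (B.subgroupOf A)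
    rw [← inf_subgroupOf_left, Nat.card_congr (subgroupOfEquivOfLe (inf_le_left : A ⊓ B ≤ A)).toEquiv] at this
    rw [← this]
    congr 1
    rw [relIndex, inf_subgroupOf_left]
  rw [← h2, h1, ← h3]
  ring

/-- quotients of submodules are at least as large as the irreducible submodules -/
theorem MinInv.card_quot_le [Finite G] {S V X N U₁ U₂ : Subgroup G} (hV : MinInv S V)
    (hc : ∀ a ∈ V, ∀ b ∈ V, a * b = b * a) (hSX : S ≤ normalizer (X : Set G)) (hXV : X ≤ normalizer (V : Set G))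
    (hN : MinInv X N) (hNV : N ≤ V)
    (h1 : X ≤ normalizer (U₁ : Set G)) (h2 : X ≤ normalizer (U₂ : Set G)) (h12 : U₁ ≤ U₂) (hne : ¬ U₂ ≤ U₁)
    (h2V : U₂ ≤ V) : Nat.card N * Nat.card U₁ ≤ Nat.card U₂ := by
  have hcn : ∀ {A B : Subgroup G}, A ≤ V → B ≤ V → A ≤ normalizer (B : Set G) := fun {A B} hA hB =>
    le_trans (fun a ha => mem_centralizer_iff.2 fun b hb => hc b (hB hb) a (hA ha)) (cent_le_norm B)
  obtain ⟨W, hW, hmax⟩ := (Set.toFinite {W : Subgroup G | W ≤ V ∧ X ≤ normalizer (W : Set G) ∧ U₁ ≤ W ∧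
    W ⊓ U₂ ≤ U₁}).exists_le_maximal (a := U₁) ⟨h12.trans h2V, h1, le_rfl, inf_le_left⟩
  obtain ⟨hWV, hWX, hUW, hWU⟩ := hmax.prop
  -- a conjugate of `N` outside `W`
  have h3 : ∃ s ∈ S, ¬ N.map (MulAut.conj s).toMonoidHom ≤ W := by
    by_contra hcon
    push Not at hcon
    have h4 := hV.le_of_conj_le hNV hN.1 hcon
    exact hne (le_trans (le_inf (h2V.trans h4) le_rfl) hWU)
  obtain ⟨s, hs, hsW⟩ := h3
  set M := N.map (MulAut.conj s).toMonoidHom with hM
  have hMm : MinInv X M := hN.conj (hSX hs)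
  have hMV : M ≤ V := by
    have := map_mono (f := (MulAut.conj s).toMonoidHom) hNV
    rwa [map_conj_of_mem_normalizer (hV.2.1 hs)] at this
  have hMW : M ⊓ W = ⊥ := by
    rcases hMm.2.2 (M ⊓ W) inf_le_left (norm_inf_off hMm.2.1 hWX) with h4 | h4
    · exact h4
    · exact absurd (inf_eq_left.1 h4) hsW
  have h5 : ¬ ((M ⊔ W) ⊓ U₂ ≤ U₁) := by
    intro hcon
    have h6 : M ⊔ W ≤ W := hmax.le_of_ge ⟨sup_le hMV hWV, norm_sup_off hMm.2.1 hWX, hUW.trans le_sup_right, hcon⟩
      le_sup_right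
    exact hsW (le_sup_left.trans h6)
  obtain ⟨u, ⟨hu1, hu2⟩, hu3⟩ := SetLike.not_le_iff_exists.1 h5
  obtain ⟨m, hm, w, hw, rfl⟩ := (mem_sup_nl (hcn hMV hWV)).1 hu1
  have hm1 : m ≠ 1 := by
    rintro rfl
    rw [one_mul] at hu2 hu3
    exact hu3 (hWU ⟨hw, hu2⟩)
  have hmU : m ∈ W ⊔ U₂ := by
    have e : m = (m * w) * w⁻¹ := by group
    rw [e]
    exact mul_mem (mem_sup_right hu2) (mem_sup_left (inv_mem hw))
  have h7 : M ≤ W ⊔ U₂ := by
    rcases hMm.2.2 (M ⊓ (W ⊔ U₂)) inf_le_left (norm_inf_off hMm.2.1 (norm_sup_off hWX h2)) with h8 | h8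
    · exact absurd (mem_bot.1 (h8 ▸ (⟨hm, hmU⟩ : m ∈ M ⊓ (W ⊔ U₂)))) hm1
    · exact inf_eq_left.1 h8
  have h9 := card_sup_inf_le (hcn hMV hWV)
  rw [hMW, card_bot, mul_one] at h9
  have h10 := card_sup_inf_le (hcn hWV h2V)
  have h11 : W ⊓ U₂ = U₁ := le_antisymm hWU (le_inf hUW h12)
  rw [h11] at h10
  have h12' : Nat.card (M ⊔ W : Subgroup G) ≤ Nat.card (W ⊔ U₂ : Subgroup G) :=
    Nat.le_of_dvd Nat.card_pos (card_dvd_of_le (sup_le h7 le_sup_left))
  have h13 : Nat.card M = Nat.card N := card_map_of_injective (MulAut.conj s).injective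
  have hWpos : 0 < Nat.card W := Nat.card_pos
  have h14 : (Nat.card N * Nat.card U₁) * Nat.card W ≤ Nat.card U₂ * Nat.card W := by
    calc (Nat.card N * Nat.card U₁) * Nat.card W = (Nat.card M * Nat.card W) * Nat.card U₁ := by rw [h13]; ring
      _ ≤ Nat.card (W ⊔ U₂ : Subgroup G) * Nat.card U₁ := by rw [← h9]; exact Nat.mul_le_mul_right _ h12'
      _ = Nat.card U₂ * Nat.card W := by rw [h10]; ring
  exact Nat.le_of_mul_le_mul_right h14 hWpos

/-- all irreducible submodules have the same order -/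
theorem MinInv.card_eq [Finite G] {S V X N N' : Subgroup G} (hV : MinInv S V)
    (hc : ∀ a ∈ V, ∀ b ∈ V, a * b = b * a) (hSX : S ≤ normalizer (X : Set G)) (hXV : X ≤ normalizer (V : Set G))
    (hN : MinInv X N) (hNV : N ≤ V) (hN' : MinInv X N') (hNV' : N' ≤ V) : Nat.card N = Nat.card N' := by
  have hb : ∀ Y : Subgroup G, Y ≤ normalizer ((⊥ : Subgroup G) : Set G) := fun Y =>
    le_normalizer_of_map_le fun g _ => by rw [Subgroup.map_bot]
  have h1 := hV.card_quot_le hc hSX hXV hN hNV (hb X) hN'.2.1 bot_le (fun h => hN'.1 (le_bot_iff.1 h)) hNV'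
  have h2 := hV.card_quot_le hc hSX hXV hN' hNV' (hb X) hN.2.1 bot_le (fun h => hN.1 (le_bot_iff.1 h)) hNV
  rw [card_bot, mul_one] at h1 h2
  exact le_antisymm h1 h2

/-- an `r`-group acting on an `r`-group: elements with central commutator -/
theorem exists_comm_cent [Finite G] {r : ℕ} [Fact r.Prime] {A : Subgroup G} (hA : IsPGroup r A) :
    ∀ (n : ℕ) (U : Subgroup G), Nat.card U ≤ n → IsPGroup r U → A ≤ normalizer (U : Set G) →
      ¬ U ≤ centralizer (A : Set G) →
      ∃ v ∈ U, v ∉ centralizer (A : Set G) ∧ ∀ a ∈ A, ⁅v, a⁆ ∈ U ⊓ centralizer (A : Set G) := by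
  intro n
  induction n with
  | zero =>
    intro U hU
    have : 0 < Nat.card U := Nat.card_pos
    omega
  | succ n ih =>
    intro U hUn hU hn h
    have h0 : ⁅U, A⁆ ≤ U := comm_le_l hn
    by_cases h1 : ⁅U, A⁆ ≤ centralizer (A : Set G)
    · obtain ⟨v, hv, hvc⟩ := SetLike.not_le_iff_exists.1 h
      exact ⟨v, hv, hvc, fun a ha => ⟨h0 (commutator_mem_commutator hv ha), h1 (commutator_mem_commutator hv ha)⟩⟩
    · have h2 : ¬ U ≤ ⁅U, A⁆ := by
        intro h3
        have hP : IsPGroup r (U ⊔ A : Subgroup G) := hU.to_sup_of_normal_left' hA hn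
        have hnil : Group.IsNilpotent (U ⊔ A : Subgroup G) := hP.isNilpotent
        obtain ⟨k, hk⟩ := (isNilpotent_iff_lowerCentralSeries _).1 hnil
        have key : ∀ k : ℕ, U ≤ (U ⊔ A).lowerCentralSeries k := by
          intro k
          induction k with
          | zero => exact le_sup_left
          | succ k ihk =>
            rw [Subgroup.lowerCentralSeries_succ]
            exact h3.trans (commutator_mono ihk le_sup_right)
        have h4 := key k
        rw [hk] at h4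
        exact h (h4.trans bot_le)
      have h5 : Nat.card (⁅U, A⁆ : Subgroup G) < Nat.card U := by
        refine lt_of_le_of_ne (Nat.le_of_dvd Nat.card_pos (card_dvd_of_le h0)) fun h6 => h2 ?_
        exact (eq_of_le_of_card_ge h0 h6.ge).ge
      obtain ⟨v, hv, hvc, hva⟩ := ih ⁅U, A⁆ (by omega) (hU.to_le h0) (norm_comm_off hn le_normalizer) h1
      exact ⟨v, h0 hv, hvc, fun a ha => ⟨h0 (hva a ha).1, (hva a ha).2⟩⟩

/-- the orbit of `v`: `|A : C_A(v)| ≤ |C_U(A)|` -/
theorem card_le_cent [Finite G] {A U : Subgroup G} {v : G}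
    (h : ∀ a ∈ A, ⁅v, a⁆ ∈ U ⊓ centralizer (A : Set G)) :
    Nat.card A ≤ Nat.card (A ⊓ centralizer ({v} : Set G) : Subgroup G) *
      Nat.card (U ⊓ centralizer (A : Set G) : Subgroup G) := by
  let φ : A →* G :=
    { toFun := fun a => ⁅v, (a : G)⁆
      map_one' := by simp
      map_mul' := by
        intro a b
        have h1 := mem_centralizer_iff.1 (h b b.2).2 a a.2
        have e : ⁅v, ((a * b : A) : G)⁆ = ⁅v, (a : G)⁆ * ((a : G) * ⁅v, (b : G)⁆ * (a : G)⁻¹) := by
          simp only [commutatorElement_def, Subgroup.coe_mul]; group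
        rw [e, h1, mul_inv_cancel_right] }
  have h1 := Subgroup.card_eq_card_quotient_mul_card_subgroup φ.ker
  have h2 : Nat.card (A ⧸ φ.ker) = Nat.card φ.range := Nat.card_congr (QuotientGroup.quotientKerEquivRange φ).toEquiv
  have h3 : φ.range ≤ U ⊓ centralizer (A : Set G) := by
    rintro _ ⟨a, rfl⟩
    exact h a a.2
  have h4 : Nat.card φ.ker ≤ Nat.card (A ⊓ centralizer ({v} : Set G) : Subgroup G) := by
    have h5 : φ.ker.map A.subtype ≤ A ⊓ centralizer ({v} : Set G) := by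
      rintro _ ⟨a, ha, rfl⟩
      refine ⟨a.2, mem_centralizer_iff.2 fun y hy => ?_⟩
      rw [Set.mem_singleton_iff.1 hy]
      have h6 : ⁅v, (a : G)⁆ = 1 := ha
      exact commutatorElement_eq_one_iff_mul_comm.1 h6
    have h6 : Nat.card (φ.ker.map A.subtype) = Nat.card φ.ker := card_map_of_injective A.subtype_injective
    rw [← h6]
    exact Nat.le_of_dvd Nat.card_pos (card_dvd_of_le h5)
  rw [h1, h2, mul_comm]
  exact Nat.mul_le_mul h4 (Nat.le_of_dvd Nat.card_pos (card_dvd_of_le h3))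

/-- `D ⊓ C(B)` is `X₂`-invariant -/
theorem norm_inf_cent {V X₁ X₂ B D : Subgroup G} (hcomm : ⁅X₁, X₂⁆ ≤ centralizer (V : Set G)) (hB : B ≤ X₁)
    (hDV : D ≤ V) (hD : X₂ ≤ normalizer (D : Set G)) :
    X₂ ≤ normalizer ((D ⊓ centralizer (B : Set G) : Subgroup G) : Set G) := by
  refine le_normalizer_of_map_le fun x hx => ?_
  rintro _ ⟨d, ⟨hd1, hd2⟩, rfl⟩
  have h1 : x * d * x⁻¹ ∈ D := (mem_normalizer_iff.1 (hD hx) d).1 hd1
  refine ⟨h1, mem_centralizer_iff.2 fun b hb => ?_⟩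
  have h2 : ⁅b, x⁆ ∈ centralizer (V : Set G) := hcomm (commutator_mem_commutator (hB hb) hx)
  have h3 : x * d * x⁻¹ * ⁅b, x⁆ = ⁅b, x⁆ * (x * d * x⁻¹) := mem_centralizer_iff.1 h2 _ (hDV h1)
  have h4 : b * d = d * b := mem_centralizer_iff.1 hd2 b hb
  show b * (x * d * x⁻¹) = x * d * x⁻¹ * b
  have e1 : b * (x * d * x⁻¹) * b⁻¹ = ⁅b, x⁆ * (x * (b * d * b⁻¹) * x⁻¹) * ⁅b, x⁆⁻¹ := by
    rw [commutatorElement_def]; group
  have e2 : b * d * b⁻¹ = d := by rw [h4, mul_inv_cancel_right]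
  rw [e2, ← h3, mul_inv_cancel_right] at e1
  exact mul_inv_eq_iff_eq_mul.1 e1

/-- **the size lemma**, for one irreducible constituent -/
theorem size_aux [Finite G] {r : ℕ} [Fact r.Prime] {S V X₁ X₂ A D N N₂ : Subgroup G}
    (hV : MinInv S V) (hEA : IsEA r V) (hS2 : S ≤ normalizer (X₂ : Set G)) (hX2 : X₂ ≤ S)
    (hcomm : ⁅X₁, X₂⁆ ≤ centralizer (V : Set G)) (hAX : A ≤ X₁) (hA : IsPGroup r A) (hDV : D ≤ V)
    (hDA : A ≤ normalizer (D : Set G)) (hD2 : X₂ ≤ normalizer (D : Set G)) (hbest : BestOff A D)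
    (hN : MinInv X₁ N) (hnc : ¬ N ⊓ D ≤ centralizer (A : Set G)) (hN2 : MinInv X₂ N₂) (hN2V : N₂ ≤ V) :
    Nat.card N₂ < Nat.card N := by
  have hU : IsPGroup r (N ⊓ D : Subgroup G) := (hEA.mono (inf_le_right.trans hDV)).isPGroup
  obtain ⟨v, hv, hvc, hva⟩ := exists_comm_cent hA _ (N ⊓ D) le_rfl hU (norm_inf_off (hAX.trans hN.2.1) hDA) hnc
  have h1 := card_le_cent hva
  set B := A ⊓ centralizer ({v} : Set G) with hB
  have h2 := hbest B inf_le_left
  have h3 : Nat.card N₂ * Nat.card (D ⊓ centralizer (A : Set G) : Subgroup G) ≤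
      Nat.card (D ⊓ centralizer (B : Set G) : Subgroup G) := by
    refine hV.card_quot_le hEA.1 hS2 (hX2.trans hV.2.1) hN2 hN2V (norm_inf_cent hcomm hAX hDV hD2)
      (norm_inf_cent hcomm (inf_le_left.trans hAX) hDV hD2)
      (inf_le_inf_left D (centralizer_le (inf_le_left : B ≤ A))) (fun h4 => hvc ?_) (inf_le_left.trans hDV)
    refine (h4 ⟨hv.2, mem_centralizer_iff.2 fun b hb => ?_⟩).2
    have := mem_centralizer_iff.1 hb.2 v rfl
    exact this.symm
  have h4 : Nat.card ((N ⊓ D) ⊓ centralizer (A : Set G) : Subgroup G) < Nat.card N := by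
    refine lt_of_lt_of_le ?_ (Nat.le_of_dvd Nat.card_pos (card_dvd_of_le (inf_le_left : N ⊓ D ≤ N)))
    refine lt_of_le_of_ne (Nat.le_of_dvd Nat.card_pos (card_dvd_of_le inf_le_left)) fun h6 => hnc ?_
    exact inf_eq_left.1 (eq_of_le_of_card_ge inf_le_left h6.ge)
  have hBpos : 0 < Nat.card B := Nat.card_pos
  have hCpos : 0 < Nat.card (D ⊓ centralizer (A : Set G) : Subgroup G) := Nat.card_pos
  have h5 : (Nat.card N₂) * (Nat.card B * Nat.card (D ⊓ centralizer (A : Set G) : Subgroup G)) ≤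
      Nat.card ((N ⊓ D) ⊓ centralizer (A : Set G) : Subgroup G) *
        (Nat.card B * Nat.card (D ⊓ centralizer (A : Set G) : Subgroup G)) := by
    calc (Nat.card N₂) * (Nat.card B * Nat.card (D ⊓ centralizer (A : Set G) : Subgroup G))
        = Nat.card B * (Nat.card N₂ * Nat.card (D ⊓ centralizer (A : Set G) : Subgroup G)) := by ring
      _ ≤ Nat.card B * Nat.card (D ⊓ centralizer (B : Set G) : Subgroup G) := Nat.mul_le_mul_left _ h3
      _ ≤ Nat.card A * Nat.card (D ⊓ centralizer (A : Set G) : Subgroup G) := h2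
      _ ≤ (Nat.card B * Nat.card ((N ⊓ D) ⊓ centralizer (A : Set G) : Subgroup G)) *
          Nat.card (D ⊓ centralizer (A : Set G) : Subgroup G) := Nat.mul_le_mul_right _ h1
      _ = _ := by ring
  exact lt_of_le_of_lt (Nat.le_of_mul_le_mul_right h5 (Nat.mul_pos hBpos hCpos)) h4

/-- **the size lemma** -/
theorem size_lemma [Finite G] {r : ℕ} [Fact r.Prime] {S V X₁ X₂ A B D N₁ N₂ : Subgroup G}
    (hV : MinInv S V) (hEA : IsEA r V) (hS1 : S ≤ normalizer (X₁ : Set G)) (hS2 : S ≤ normalizer (X₂ : Set G))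
    (hX1 : X₁ ≤ S) (hX2 : X₂ ≤ S) (hcomm : ⁅X₁, X₂⁆ ≤ centralizer (V : Set G)) (hAB : A ≤ B) (hBX : B ≤ X₁)
    (hA : IsPGroup r A) (hD : D = V ∨ D = ⁅V, B⁆) (hbest : BestOff A D) (hnc : ¬ D ≤ centralizer (A : Set G))
    (hN1 : MinInv X₁ N₁) (hN1V : N₁ ≤ V) (hN2 : MinInv X₂ N₂) (hN2V : N₂ ≤ V) : Nat.card N₂ < Nat.card N₁ := by
  have hBV : B ≤ normalizer (V : Set G) := (hBX.trans hX1).trans hV.2.1
  have hDV : D ≤ V := by
    rcases hD with rfl | rfl
    · exact le_rfl
    · exact comm_le_l hBV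
  have hDB : B ≤ normalizer (D : Set G) := by
    rcases hD with rfl | rfl
    · exact hBV
    · exact norm_comm_off hBV le_normalizer
  have hD2 : X₂ ≤ normalizer (D : Set G) := by
    rcases hD with rfl | rfl
    · exact hX2.trans hV.2.1
    · refine le_normalizer_of_map_le fun x hx => ?_
      rw [Subgroup.map_commutator, map_conj_of_mem_normalizer (hV.2.1 (hX2 hx)), commutator_le]
      rintro v hv _ ⟨b, hb, rfl⟩
      show ⁅v, x * b * x⁻¹⁆ ∈ _
      have h2 : ⁅b⁻¹, x⁆ ∈ centralizer (V : Set G) :=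
        hcomm (commutator_mem_commutator (hBX (inv_mem hb)) hx)
      have h3 : v * ⁅b⁻¹, x⁆ = ⁅b⁻¹, x⁆ * v := mem_centralizer_iff.1 h2 v hv
      have e : ⁅v, x * b * x⁻¹⁆ = ⁅v, b⁆ := by
        have e1 : x * b * x⁻¹ = b * ⁅b⁻¹, x⁆ := by rw [commutatorElement_def]; group
        have e2 : ⁅v, b * ⁅b⁻¹, x⁆⁆ = ⁅v, b⁆ * (b * (v * ⁅b⁻¹, x⁆ * v⁻¹ * ⁅b⁻¹, x⁆⁻¹) * b⁻¹) := by
          rw [commutatorElement_def, commutatorElement_def v b]; group
        rw [e1, e2, h3]; group
      rw [e]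
      exact commutator_mem_commutator hv hb
  -- a constituent not centralized
  have key : ∃ s ∈ S, ¬ (N₁.map (MulAut.conj s).toMonoidHom) ⊓ D ≤ centralizer (A : Set G) := by
    by_contra hcon
    push Not at hcon
    apply hnc
    rcases hD with rfl | rfl
    · refine hV.le_of_conj_le hN1V hN1.1 fun s hs => ?_
      have h1 : N₁.map (MulAut.conj s).toMonoidHom ≤ D := by
        have := map_mono (f := (MulAut.conj s).toMonoidHom) hN1V
        rwa [map_conj_of_mem_normalizer (hV.2.1 hs)] at this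
      exact (le_inf le_rfl h1).trans (hcon s hs)
    · -- the subgroup of all `v` with `[v, B] ≤ C(A)`
      let W : Subgroup G :=
        { carrier := {v | v ∈ V ∧ ∀ b ∈ B, ⁅v, b⁆ ∈ centralizer (A : Set G)}
          one_mem' := ⟨one_mem _, fun b _ => by rw [commutatorElement_one_left]; exact one_mem _⟩
          mul_mem' := by
            rintro v w ⟨hv, hv'⟩ ⟨hw, hw'⟩
            refine ⟨mul_mem hv hw, fun b hb => ?_⟩
            have h1 : ⁅w, b⁆ ∈ V := comm_le_l hBV (commutator_mem_commutator hw hb)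
            have h2 : v * ⁅w, b⁆ = ⁅w, b⁆ * v := hEA.1 _ hv _ h1
            have e : ⁅v * w, b⁆ = v * ⁅w, b⁆ * v⁻¹ * ⁅v, b⁆ := by
              simp only [commutatorElement_def]; group
            rw [e, h2, mul_inv_cancel_right]
            exact mul_mem (hw' b hb) (hv' b hb)
          inv_mem' := by
            rintro v ⟨hv, hv'⟩
            refine ⟨inv_mem hv, fun b hb => ?_⟩
            have h1 : ⁅v, b⁆⁻¹ ∈ V := inv_mem (comm_le_l hBV (commutator_mem_commutator hv hb))
            have h2 : v⁻¹ * ⁅v, b⁆⁻¹ = ⁅v, b⁆⁻¹ * v⁻¹ := hEA.1 _ (inv_mem hv) _ h1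
            have e : ⁅v⁻¹, b⁆ = v⁻¹ * ⁅v, b⁆⁻¹ * v := by
              simp only [commutatorElement_def]; group
            rw [e, h2, inv_mul_cancel_right]
            exact inv_mem (hv' b hb) }
      have hW : V ≤ W := by
        refine hV.le_of_conj_le hN1V hN1.1 fun s hs => ?_
        have h1 : N₁.map (MulAut.conj s).toMonoidHom ≤ V := by
          have := map_mono (f := (MulAut.conj s).toMonoidHom) hN1V
          rwa [map_conj_of_mem_normalizer (hV.2.1 hs)] at this
        have h2 : X₁ ≤ normalizer ((N₁.map (MulAut.conj s).toMonoidHom : Subgroup G) : Set G) :=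
          norm_map_conj hN1.2.1 (hS1 hs)
        intro v hv
        refine ⟨h1 hv, fun b hb => hcon s hs ⟨?_, commutator_mem_commutator (h1 hv) hb⟩⟩
        exact comm_le_l (hBX.trans h2) (commutator_mem_commutator hv hb)
      rw [commutator_le]
      exact fun v hv b hb => (hW hv).2 b hb
  obtain ⟨s, hs, hs'⟩ := key
  have h1 := size_aux hV hEA hS2 hX2 hcomm (hAB.trans hBX) hA hDV (hAB.trans hDB) hD2 hbest
    (hN1.conj (hS1 hs)) hs' hN2 hN2V
  rwa [card_map_of_injective (MulAut.conj s).injective] at h1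

end Cfsg.Agent.R2.T3544
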