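import Cfsg.Agent.R2.T3544.OffB
import Cfsg.Agent.Lib.ProductSet

/-!
# S3544, local case: elementary abelian subgroups of maximal order are best offenders; restriction
-/

set_option autoImplicit false

namespace Cfsg.Agent.R2.T3544

open Subgroup Pointwise

variable {G : Type*} [Group G]

/-- a maximal elementary abelian subgroup is a best offender on every elementary abelian subgroup -/
theorem bestOff_of_maxEA [Finite G] {r : ℕ} {Q A V : Subgroup G} (hA : MaxEA r Q A) (hVQ : V ≤ Q)
    (hV : IsEA r V) : BestOff A V := by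
  intro B hBA
  set W : Subgroup G := V ⊓ centralizer (B : Set G) with hWdef
  have hBEA : IsEA r B := hA.2.1.mono hBA
  have hWEA : IsEA r W := hV.mono inf_le_left
  have hc : ∀ b ∈ B, ∀ w ∈ W, b * w = w * b := by
    intro b hb w hw
    exact Subgroup.mem_centralizer_iff.mp hw.2 b hb
  have hE : IsEA r (B ⊔ W) := hBEA.sup hWEA hc
  have hEQ : B ⊔ W ≤ Q := sup_le (hBA.trans hA.1) (inf_le_left.trans hVQ)
  have h1 : Nat.card (B ⊔ W : Subgroup G) ≤ Nat.card A := hA.2.2 _ hEQ hE
  have h2 := Cfsg.Agent.Lib.ProductSet.card_mul_card_inf B W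
  have h3 : Nat.card ((B : Set G) * (W : Set G) : Set G) ≤ Nat.card (B ⊔ W : Subgroup G) := by
    have hsub : ((B : Set G) * (W : Set G) : Set G) ⊆ ((B ⊔ W : Subgroup G) : Set G) := by
      rintro x ⟨b, hb, w, hw, rfl⟩
      exact mul_mem (le_sup_left (a := B) (b := W) hb) (le_sup_right (a := B) (b := W) hw)
    exact Nat.card_mono (Set.toFinite _) hsub
  have h4 : Nat.card (B ⊓ W : Subgroup G) ≤ Nat.card (V ⊓ centralizer (A : Set G) : Subgroup G) := by
    apply Subgroup.card_le_of_le
    rintro x ⟨hxB, hxW⟩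
    have hx : x ∈ centralizer (A : Set G) := by
      rw [Subgroup.mem_centralizer_iff]
      intro y hy
      exact hA.2.1.1 y hy x (hBA hxB)
    exact ⟨hxW.1, hx⟩
  calc Nat.card B * Nat.card W
      = Nat.card ((B : Set G) * (W : Set G) : Set G) * Nat.card (B ⊓ W : Subgroup G) := h2.symm
    _ ≤ Nat.card A * Nat.card (V ⊓ centralizer (A : Set G) : Subgroup G) :=
        Nat.mul_le_mul (h3.trans h1) h4

/-- best offenders restrict to smaller elementary abelian subgroups -/
theorem BestOff.restrict [Finite G] {A V U : Subgroup G} (h : BestOff A V) (hUV : U ≤ V) : BestOff A U := by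
  intro B hBA
  have hb := h B hBA
  -- `C_V(B) ≥ C_V(A) C_U(B)`, intersection `C_U(A)`
  set CVA : Subgroup G := V ⊓ centralizer (A : Set G)
  set CUB : Subgroup G := U ⊓ centralizer (B : Set G)
  set CUA : Subgroup G := U ⊓ centralizer (A : Set G)
  set CVB : Subgroup G := V ⊓ centralizer (B : Set G)
  have hcen : centralizer (A : Set G) ≤ centralizer (B : Set G) := Subgroup.centralizer_le hBA
  have h2 := Cfsg.Agent.Lib.ProductSet.card_mul_card_inf CVA CUB
  have h3 : Nat.card ((CVA : Set G) * (CUB : Set G) : Set G) ≤ Nat.card CVB := by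
    have hsub : ((CVA : Set G) * (CUB : Set G) : Set G) ⊆ (CVB : Set G) := by
      rintro x ⟨b, hb, w, hw, rfl⟩
      exact mul_mem (⟨hb.1, hcen hb.2⟩ : b ∈ CVB) (⟨hUV hw.1, hw.2⟩ : w ∈ CVB)
    exact Nat.card_mono (Set.toFinite _) hsub
  have h4 : (CVA ⊓ CUB : Subgroup G) = CUA := by
    ext x
    constructor
    · rintro ⟨hx1, hx2⟩
      exact ⟨hx2.1, hx1.2⟩
    · rintro ⟨hx1, hx2⟩
      exact ⟨⟨hUV hx1, hx2⟩, ⟨hx1, hcen hx2⟩⟩
  rw [h4] at h2
  have hpos : 0 < Nat.card CVA := Nat.card_pos
  have h5 : Nat.card CVA * Nat.card CUB ≤ Nat.card CVB * Nat.card CUA := by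
    rw [← h2]
    exact Nat.mul_le_mul_right _ h3
  have h6 : Nat.card CVA * (Nat.card B * Nat.card CUB) ≤ Nat.card CVA * (Nat.card A * Nat.card CUA) := by
    calc Nat.card CVA * (Nat.card B * Nat.card CUB) = Nat.card B * (Nat.card CVA * Nat.card CUB) := by ring
      _ ≤ Nat.card B * (Nat.card CVB * Nat.card CUA) := Nat.mul_le_mul_left _ h5
      _ = (Nat.card B * Nat.card CVB) * Nat.card CUA := by ring
      _ ≤ (Nat.card A * Nat.card CVA) * Nat.card CUA := Nat.mul_le_mul_right _ hb
      _ = Nat.card CVA * (Nat.card A * Nat.card CUA) := by ring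
  exact Nat.le_of_mul_le_mul_left h6 hpos

/-- a best offender which does not centralise `D` has `|A : B| = |[v, A]|`-type bounds; the form used in the
size lemma: for `B ≤ A`, `|C_D(B)| * |B| ≤ |A| * |C_D(A)|` -/
theorem BestOff.card_le {A D B : Subgroup G} (h : BestOff A D) (hB : B ≤ A) :
    Nat.card B * Nat.card (D ⊓ centralizer (B : Set G) : Subgroup G) ≤
      Nat.card A * Nat.card (D ⊓ centralizer (A : Set G) : Subgroup G) := h B hB

/-- the Thompson group centralises `D` as soon as no maximal elementary abelian subgroup is a non-trivial best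
offender on `D` -/
theorem JE_le_centralizer_of_no_off [Finite G] {r : ℕ} {Q D : Subgroup G} (hD : D ≤ Q) (hDE : IsEA r D)
    (hno : ∀ A, MaxEA r Q A → BestOff A D → A ≤ centralizer (D : Set G)) :
    JE r Q ≤ centralizer (D : Set G) := by
  unfold JE
  exact iSup_le fun A => iSup_le fun hA => hno A hA (bestOff_of_maxEA hA hD hDE)

/-- if no maximal elementary abelian subgroup of `Q` is a non-trivial best offender on `D ≤ Q` then `D ≤ Ω₁ Z(J(Q))` -/
theorem le_YE_of_no_off [Finite G] {r : ℕ} {Q D : Subgroup G} (hD : D ≤ Q) (hDE : IsEA r D)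
    (hno : ∀ A, MaxEA r Q A → BestOff A D → A ≤ centralizer (D : Set G)) :
    D ≤ YE r Q :=
  le_YE hD hDE (JE_le_centralizer_of_no_off hD hDE hno)

end Cfsg.Agent.R2.T3544
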