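import Cfsg.Agent.R2.T3544.OffB

/-!
# S3544, local case: Sylow subgroups inside an ambient group, Frattini argument for `J(R)`
-/

set_option autoImplicit false
set_option linter.unusedSectionVars false

namespace Cfsg.Agent.R2.T3544

open Subgroup MulAction

variable {G : Type*} [Group G] {r : ℕ} {R R' S K T : Subgroup G}

theorem SylIn.isPGroup (h : SylIn r S R) : IsPGroup r R := IsPGroup.of_card h.2

section

variable [Finite G] [Fact r.Prime]

theorem exists_sylIn_ge (hT : IsPGroup r T) (hTS : T ≤ S) : ∃ R, SylIn r S R ∧ T ≤ R := by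
  have h1 : IsPGroup r (T.subgroupOf S) := hT.comap_of_injective S.subtype S.subtype_injective
  obtain ⟨P, hP⟩ := h1.exists_le_sylow
  refine ⟨(P : Subgroup S).map S.subtype, ⟨map_subtype_le _, ?_⟩, ?_⟩
  · rw [card_map_of_injective S.subtype_injective, P.card_eq_multiplicity]
  · rw [← map_subgroupOf_eq_of_le hTS]
    exact map_mono hP

theorem exists_sylIn (r : ℕ) [Fact r.Prime] (S : Subgroup G) : ∃ R, SylIn r S R := by
  obtain ⟨R, hR, _⟩ := exists_sylIn_ge (r := r) (T := (⊥ : Subgroup G)) (S := S) (IsPGroup.of_bot) bot_le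
  exact ⟨R, hR⟩

theorem SylIn.map_conj (h : SylIn r S R) (g : G) :
    SylIn r (S.map (MulAut.conj g).toMonoidHom) (R.map (MulAut.conj g).toMonoidHom) :=
  ⟨map_mono h.1, by
    rw [card_map_of_injective (MulAut.conj g).injective, card_map_of_injective (MulAut.conj g).injective, h.2]⟩

theorem SylIn.conj (h : SylIn r S R) (h' : SylIn r S R') :
    ∃ s ∈ S, R.map (MulAut.conj s).toMonoidHom = R' := by
  let S1 : Sylow r S := Sylow.ofCard (R'.subgroupOf S)
    (by rw [Nat.card_congr (subgroupOfEquivOfLe h'.1).toEquiv, h'.2])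
  let S2 : Sylow r S := Sylow.ofCard (R.subgroupOf S)
    (by rw [Nat.card_congr (subgroupOfEquivOfLe h.1).toEquiv, h.2])
  obtain ⟨s, hs⟩ := MulAction.exists_smul_eq S S2 S1
  have hs' : (S2 : Subgroup S).map (MulAut.conj s).toMonoidHom = (S1 : Subgroup S) := by
    rw [← hs]; rfl
  refine ⟨s, s.2, ?_⟩
  apply eq_of_le_of_card_ge
  · rintro _ ⟨x, hx, rfl⟩
    have h2 : s * ⟨x, h.1 hx⟩ * s⁻¹ ∈ (S1 : Subgroup S) := by
      rw [← hs']
      exact ⟨⟨x, h.1 hx⟩, hx, rfl⟩
    exact h2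
  · rw [card_map_of_injective (MulAut.conj (s : G)).injective, h.2, h'.2]

theorem SylIn.of_mem (h : SylIn r S R) {s : G} (hs : s ∈ S) : SylIn r S (R.map (MulAut.conj s).toMonoidHom) := by
  have h1 := h.map_conj s
  rwa [map_conj_eq_of_mem (le_normalizer hs)] at h1

/-- a Sylow subgroup meets a normal subgroup in a Sylow subgroup -/
theorem SylIn.inf_normal (h : SylIn r S R) (hK : K ≤ S) (hn : S ≤ normalizer (K : Set G)) : SylIn r K (K ⊓ R) := by
  have h1 : IsPGroup r (K ⊓ R : Subgroup G) := h.isPGroup.to_le inf_le_right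
  obtain ⟨T, hT, hT'⟩ := exists_sylIn_ge h1 (inf_le_left : K ⊓ R ≤ K)
  obtain ⟨R', hR', hTR'⟩ := exists_sylIn_ge hT.isPGroup (hT.1.trans hK)
  obtain ⟨s, hs, rfl⟩ := h.conj hR'
  have h2 : T ≤ (K ⊓ R).map (MulAut.conj s).toMonoidHom := by
    rw [map_inf_eq _ _ _ (MulAut.conj s).injective, map_conj_eq_of_mem (hn hs)]
    exact le_inf hT.1 hTR'
  have h3 : K ⊓ R = T := by
    apply eq_of_le_of_card_ge hT'
    have h4 := card_le_of_le h2
    rwa [card_map_of_injective (MulAut.conj s).injective] at h4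
  rw [h3]
  exact hT

/-- **Frattini argument** for `J(R)` -/
theorem frattini_JE (hR : SylIn r S R) (hK : K ≤ S) (hn : S ≤ normalizer (K : Set G)) (hJ : JE r R ≤ K) :
    ∀ s ∈ S, ∃ w ∈ normalizer (JE r R : Set G), w ∈ S ∧ ∃ k ∈ K, s = w * k := by
  intro s hs
  have hT := hR.inf_normal hK hn
  have hJT : JE r (K ⊓ R) = JE r R := JE_eq inf_le_right (le_inf hJ (JE_le r R))
  have hT' : SylIn r K ((K ⊓ R).map (MulAut.conj s).toMonoidHom) := by
    have h1 := hT.map_conj s
    rwa [map_conj_eq_of_mem (hn hs)] at h1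
  obtain ⟨k, hk, hk'⟩ := hT.conj hT'
  have hw : k⁻¹ * s ∈ normalizer ((K ⊓ R : Subgroup G) : Set G) := by
    have h1 : ((K ⊓ R).map (MulAut.conj s).toMonoidHom).map (MulAut.conj k⁻¹).toMonoidHom = K ⊓ R := by
      rw [← hk']
      exact map_map_conj_inv _ k
    have h2 : (K ⊓ R).map (MulAut.conj (k⁻¹ * s)).toMonoidHom = K ⊓ R := by
      rw [map_map] at h1
      rw [← h1]
      congr 1
      ext x
      simp [mul_assoc]
    rw [mem_normalizer_iff]
    intro x
    constructor
    · intro hx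
      have h3 : k⁻¹ * s * x * (k⁻¹ * s)⁻¹ ∈ (K ⊓ R).map (MulAut.conj (k⁻¹ * s)).toMonoidHom := ⟨x, hx, rfl⟩
      rwa [h2] at h3
    · intro hx
      rw [← h2] at hx
      obtain ⟨y, hy, hyx⟩ := hx
      have : y = x := (MulAut.conj (k⁻¹ * s)).injective hyx
      rwa [← this]
  have hw' : k⁻¹ * s ∈ normalizer (JE r R : Set G) := by
    rw [← hJT]
    exact normalizer_le_JE r _ hw
  have hwS : k⁻¹ * s ∈ S := mul_mem (inv_mem (hK hk)) hs
  refine ⟨k⁻¹ * s, hw', hwS, (k⁻¹ * s)⁻¹ * k * (k⁻¹ * s), ?_, by group⟩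
  have h1 := (mem_normalizer_iff.1 (hn (inv_mem hwS)) k).1 hk
  rwa [inv_inv] at h1

section

variable {Ω : Type*} [MulAction G Ω]

/-- a common Sylow subgroup of `G_x` and `G_y` gives an element of `N(R)` moving `x` to `y` -/
theorem exists_normalizer_move (P : PP G Ω) {x y : Ω} (hx : SylIn r (stabilizer G x) R)
    (hy : SylIn r (stabilizer G y) R) : ∃ n ∈ normalizer (R : Set G), n • x = y := by
  obtain ⟨g, rfl⟩ := P.trans x y
  have h1 := hx.map_conj g
  rw [← stab_smul] at h1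
  obtain ⟨h, hh, hh'⟩ := h1.conj hy
  refine ⟨h * g, ?_, by rw [mul_smul]; exact hh⟩
  have h2 : R.map (MulAut.conj (h * g)).toMonoidHom = R := by
    rw [map_map] at hh'
    rw [← hh']
    congr 1
    ext x
    simp [mul_assoc]
  rw [mem_normalizer_iff]
  intro x
  constructor
  · intro hx
    have h3 : h * g * x * (h * g)⁻¹ ∈ R.map (MulAut.conj (h * g)).toMonoidHom := ⟨x, hx, rfl⟩
    rwa [h2] at h3
  · intro hx
    rw [← h2] at hx
    obtain ⟨y, hy, hyx⟩ := hx
    have : y = x := (MulAut.conj (h * g)).injective hyx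
    rwa [← this]

/-- a Sylow subgroup of `G_xy` is a Sylow subgroup of `G_x` -/
theorem SylIn.of_inf {ra : Ω → Ω → Prop} {da : ℕ} (A : Dir G ra da) (hr : ¬ r ∣ da) {x y : Ω} (hxy : ra x y)
    (h : SylIn r (stabilizer G x ⊓ stabilizer G y) R) : SylIn r (stabilizer G x) R := by
  refine ⟨h.1.trans inf_le_left, ?_⟩
  rw [h.2]
  congr 1
  have h1 : (stabilizer G y).relIndex (stabilizer G x) = da := A.idx hxy
  have h2 : Nat.card (stabilizer G x ⊓ stabilizer G y : Subgroup G) * da = Nat.card (stabilizer G x) := by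
    have h3 := card_mul_index ((stabilizer G y).subgroupOf (stabilizer G x))
    have h4 : Nat.card ((stabilizer G y).subgroupOf (stabilizer G x)) =
        Nat.card (stabilizer G x ⊓ stabilizer G y : Subgroup G) := by
      rw [inf_comm, ← subgroupOf_map_subtype, card_map_of_injective (stabilizer G x).subtype_injective]
    rw [h4] at h3
    rw [← h1]
    exact h3
  rw [← h2, Nat.factorization_mul Nat.card_pos.ne' (by have := A.one_lt; omega), Finsupp.add_apply,
    Nat.factorization_eq_zero_of_not_dvd hr, add_zero]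

/-- `r ∤ d`: a common Sylow subgroup of `G_x` and `G_y` -/
theorem exists_sylIn_both {ra : Ω → Ω → Prop} {da : ℕ} (A : Dir G ra da) (hr : ¬ r ∣ da) {x y : Ω} (hxy : ra x y) :
    ∃ R, SylIn r (stabilizer G x) R ∧ SylIn r (stabilizer G y) R := by
  obtain ⟨R, hR⟩ := exists_sylIn r (stabilizer G x ⊓ stabilizer G y)
  refine ⟨R, hR.of_inf A hr hxy, ?_⟩
  rw [inf_comm] at hR
  exact hR.of_inf A hr (A.symm hxy)

end

end

end Cfsg.Agent.R2.T3544
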