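import Cfsg.Agent.R2.T3544.OffC4
import Cfsg.Agent.R2.T3544.OffV
import Cfsg.Agent.R2.T3544.OffB

/-!
# S3544, LOC: helper24's theorem, one weak direction
-/

set_option autoImplicit false

namespace Cfsg.Agent.R2.T3544

open Subgroup MulAction Cfsg
open scoped commutatorElement

section

variable {G : Type*} [Group G] {r : ℕ}

theorem SylIn.of_relIndex [Finite G] [Fact r.Prime] {S T R : Subgroup G} (h : SylIn r T R) (hTS : T ≤ S)
    (hr : ¬ r ∣ T.relIndex S) : SylIn r S R := by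
  refine ⟨h.1.trans hTS, ?_⟩
  rw [h.2]
  congr 1
  have h1 : Nat.card T * T.relIndex S = Nat.card S := by
    rw [← Subgroup.relIndex_bot_left, ← Subgroup.relIndex_bot_left, Subgroup.relIndex_mul_relIndex _ _ _ bot_le hTS]
  have h2 : T.relIndex S ≠ 0 := fun h0 => hr (h0 ▸ dvd_zero r)
  rw [← h1, Nat.factorization_mul Nat.card_pos.ne' h2, Finsupp.add_apply,
    Nat.factorization_eq_zero_of_not_dvd hr, add_zero]

theorem SylIn.of_dir [Finite G] [Fact r.Prime] {Ω : Type*} [MulAction G Ω] {rc : Ω → Ω → Prop} {dc : ℕ}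
    (C : Dir G rc dc) (hr : ¬ r ∣ dc) {x y : Ω} (hxy : rc x y) {R : Subgroup G}
    (h : SylIn r (stabilizer G x ⊓ stabilizer G y) R) :
    SylIn r (stabilizer G x) R ∧ SylIn r (stabilizer G y) R := by
  constructor
  · refine h.of_relIndex inf_le_left ?_
    rw [inf_relIndex_left, C.idx hxy]
    exact hr
  · refine h.of_relIndex inf_le_right ?_
    rw [inf_relIndex_right, C.idx (C.symm hxy)]
    exact hr

end

section

variable {G : Type*} [Group G] {Ω : Type*} [MulAction G Ω] {Q V : Ω → Subgroup G} {r : ℕ}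

theorem MinFun.isEA (hV : MinFun G r Q V) (x : Ω) : IsEA r (V x) :=
  ⟨fun a ha b hb => ((mem_centralizer_iff.1 (hV.cent x ha)) b (hV.le x hb)).symm, hV.pow x⟩

theorem MinFun.le_YE [Finite G] (hV : MinFun G r Q V) (x : Ω) : V x ≤ YE r (Q x) := by
  refine T3544.le_YE (hV.le x) (hV.isEA x) ?_
  refine (JE_le r (Q x)).trans ?_
  intro q hq
  rw [mem_centralizer_iff]
  intro v hv
  exact ((mem_centralizer_iff.1 (hV.cent x hv)) q hq).symm

/-- helper24's theorem for a weak direction -/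
theorem false_of_weak [Finite G] [Fact r.Prime] (h : RCore G r Q) {rc : Ω → Ω → Prop} {dc : ℕ}
    (C : Dir G rc dc) (hr : ¬ r ∣ dc) (hcen : ∀ x, centralizer (Q x : Set G) ⊓ stabilizer G x ≤ Q x)
    (hV : MinFun G r Q V)
    (HJ : ∀ (x : Ω) (R : Subgroup G), SylIn r (stabilizer G x) R → JE r R ≤ centralizer (YE r (Q x) : Set G))
    (hge : ∀ {S K : Subgroup G}, K ≤ S → IsPGroup r K → ∃ R, SylIn r S R ∧ K ≤ R)
    (hbo : ∀ {R A D : Subgroup G}, MaxEA r R A → D ≤ R → IsEA r D → BestOff A D)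
    (case3 : ∀ {x y : Ω}, rc x y → V x ≤ YE r (Q y) →
      (∀ R, SylIn r (stabilizer G y) R → JE r R ≤ centralizer (YE r (Q y) : Set G)) → False)
    (hno : ∀ x y : Ω, rc x y → ∀ D A : Subgroup G, (D = V x ∨ D = ⁅V x, Q y⁆) → D ≤ Q y → A ≤ Q y →
      IsEA r A → BestOff A D → A ≤ centralizer (D : Set G)) (x : Ω) : False := by
  obtain ⟨y, hxy⟩ := C.ex x
  have key : ∀ D : Subgroup G, (D = V x ∨ D = ⁅V x, Q y⁆) → D ≤ Q y → D ≤ V x → D ≤ YE r (Q y) := by
    intro D hD hDQ hDV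
    have hE : IsEA r D := (hV.isEA x).mono hDV
    exact le_YE' hDQ hE fun A hA => hno x y hxy D A hD hDQ hA.1 hA.2.1 (hbo hA hDQ hE)
  by_cases hle : V x ≤ Q y
  · exact case3 hxy (key _ (Or.inl rfl) hle le_rfl) (HJ y)
  · apply hle
    have hQx : Q y ≤ stabilizer G x := h.nbr_le C hr hxy
    have hQy : Q x ≤ stabilizer G y := h.nbr_le C hr (C.symm hxy)
    have h1 : ⁅V x, Q y⁆ ≤ V x := by
      rw [← le_normalizer_iff_commutator_le_left]
      exact hQx.trans (hV.fn.norm x)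
    have h2 : ⁅V x, Q y⁆ ≤ Q y := by
      rw [commutator_comm, ← le_normalizer_iff_commutator_le_left]
      exact ((hV.le x).trans hQy).trans (h.fn.norm y)
    have h3 : ⁅V x, Q y⁆ ≤ YE r (Q y) := key _ (Or.inr rfl) h2 h1
    refine h.le_of_chain C hr (h.fn.YE r) (fun z => YE_le r (Q z)) hcen hV.le hxy h3 ?_
    obtain ⟨R, hR, hVR⟩ := hge (S := stabilizer G x ⊓ stabilizer G y) (K := V x)
      (le_inf (hV.fn.le x) ((hV.le x).trans hQy)) (hV.isEA x).isPGroup
    obtain ⟨hRx, hRy⟩ := SylIn.of_dir C hr hxy hR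
    have h4 : JE r R ≤ centralizer (V x : Set G) :=
      (HJ x R hRx).trans (centralizer_le (hV.le_YE x))
    have h5 : V x ≤ YE r R := T3544.le_YE hVR (hV.isEA x) h4
    exact h5.trans ((YE_le_JE r R).trans (HJ y R hRy))

end

end Cfsg.Agent.R2.T3544
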