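import Cfsg.Agent.R2.T3544.Sys

/-!
# S3544: the reduction to a faithful action with (P) and three directions (helper3)
-/

set_option autoImplicit false

namespace Cfsg.Agent.R2.T3544

open Subgroup MulAction

universe u v

section

variable {P : Type*} [Group P] {Ω : Type*} [MulAction P Ω]

/-- the index of a two-point stabilizer is the length of a suborbit -/
theorem relIndex_stab (a b : Ω) :
    (stabilizer P b).relIndex (stabilizer P a) = Nat.card (orbit (stabilizer P a) b) := by
  have h1 : (stabilizer P b).subgroupOf (stabilizer P a) = stabilizer ↥(stabilizer P a) b := by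
    ext g
    rw [Subgroup.mem_subgroupOf, mem_stabilizer_iff, mem_stabilizer_iff]
    rfl
  rw [Subgroup.relIndex, h1, MulAction.index_stabilizer]
  rfl

theorem relIndex_smul [Finite P] (g : P) (a b : Ω) :
    (stabilizer P (g • b)).relIndex (stabilizer P (g • a)) = (stabilizer P b).relIndex (stabilizer P a) := by
  rw [relIndex_stab, relIndex_stab]
  have h1 : orbit ↥(stabilizer P (g • a)) (g • b) = (fun x => g • x) '' orbit ↥(stabilizer P a) b := by
    ext x
    constructor
    · rintro ⟨⟨k, hk⟩, rfl⟩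
      refine ⟨(g⁻¹ * k * g) • b, ⟨⟨g⁻¹ * k * g, ?_⟩, rfl⟩, ?_⟩
      · rw [mem_stabilizer_iff] at hk ⊢
        rw [mul_smul, mul_smul, hk, inv_smul_smul]
      · show g • (g⁻¹ * k * g) • b = k • (g • b)
        rw [← mul_smul, ← mul_smul]
        congr 1
        group
    · rintro ⟨_, ⟨⟨k, hk⟩, rfl⟩, rfl⟩
      refine ⟨⟨g * k * g⁻¹, ?_⟩, ?_⟩
      · rw [mem_stabilizer_iff] at hk ⊢
        rw [mul_smul, mul_smul, inv_smul_smul, hk]
      · show (g * k * g⁻¹) • (g • b) = g • (k • b)
        rw [← mul_smul, ← mul_smul]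
        congr 1
        group
  rw [h1]
  exact Nat.card_image_of_injective (MulAction.injective g) _

theorem card_stab [Finite P] (ht : ∀ x y : Ω, ∃ g : P, g • x = y) (a b : Ω) :
    Nat.card (stabilizer P a) = Nat.card (stabilizer P b) := by
  obtain ⟨g, rfl⟩ := ht a b
  rw [MulAction.stabilizer_smul_eq_stabilizer_map_conj]
  exact (Nat.card_congr ((stabilizer P a).equivMapOfInjective _ (MulAut.conj g).injective).toEquiv)

/-- paired suborbits have the same length -/
theorem relIndex_comm [Finite P] (ht : ∀ x y : Ω, ∃ g : P, g • x = y) (a b : Ω) :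
    (stabilizer P a).relIndex (stabilizer P b) = (stabilizer P b).relIndex (stabilizer P a) := by
  have h1 := Subgroup.card_mul_index ((stabilizer P a).subgroupOf (stabilizer P b))
  have h2 := Subgroup.card_mul_index ((stabilizer P b).subgroupOf (stabilizer P a))
  have h3 : Nat.card ((stabilizer P a).subgroupOf (stabilizer P b)) =
      Nat.card ((stabilizer P b).subgroupOf (stabilizer P a)) := by
    have e1 : Nat.card ((stabilizer P a).subgroupOf (stabilizer P b)) =
        Nat.card (stabilizer P a ⊓ stabilizer P b : Subgroup P) := by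
      rw [← Subgroup.inf_subgroupOf_right]
      exact Nat.card_congr (Subgroup.subgroupOfEquivOfLe inf_le_right).toEquiv
    have e2 : Nat.card ((stabilizer P b).subgroupOf (stabilizer P a)) =
        Nat.card (stabilizer P b ⊓ stabilizer P a : Subgroup P) := by
      rw [← Subgroup.inf_subgroupOf_right]
      exact Nat.card_congr (Subgroup.subgroupOfEquivOfLe inf_le_right).toEquiv
    rw [e1, e2, inf_comm]
  have h4 := card_stab ht a b
  have h5 : 0 < Nat.card ((stabilizer P b).subgroupOf (stabilizer P a)) := Nat.card_pos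
  rw [h3, ← h4, ← h2] at h1
  exact Nat.eq_of_mul_eq_mul_left h5 h1

/-- the direction given by a pair of points -/
def dirRel (P : Type*) [Group P] {Ω : Type*} [MulAction P Ω] (a b : Ω) (x y : Ω) : Prop :=
  ∃ g : P, (g • a = x ∧ g • b = y) ∨ (g • a = y ∧ g • b = x)

theorem dirRel_dir [Finite P] (ht : ∀ x y : Ω, ∃ g : P, g • x = y) (a b : Ω)
    (hb : 1 < Nat.card (orbit (stabilizer P a) b)) :
    Dir P (dirRel P a b) (Nat.card (orbit (stabilizer P a) b)) where
  symm := by
    rintro x y ⟨g, h | h⟩
    · exact ⟨g, Or.inr h⟩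
    · exact ⟨g, Or.inl h⟩
  smul := by
    rintro g x y ⟨k, ⟨rfl, rfl⟩ | ⟨rfl, rfl⟩⟩
    · exact ⟨g * k, Or.inl ⟨mul_smul _ _ _, mul_smul _ _ _⟩⟩
    · exact ⟨g * k, Or.inr ⟨mul_smul _ _ _, mul_smul _ _ _⟩⟩
  idx := by
    rintro x y ⟨k, ⟨rfl, rfl⟩ | ⟨rfl, rfl⟩⟩
    · rw [relIndex_smul, relIndex_stab]
    · rw [relIndex_smul, relIndex_comm ht, relIndex_stab]
  ex := by
    intro x
    obtain ⟨g, rfl⟩ := ht a x
    exact ⟨g • b, g, Or.inl ⟨rfl, rfl⟩⟩
  one_lt := hb

/-- primitivity and faithfulness give property (P) -/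
theorem pp_of_prim [Finite P] [FaithfulSMul P Ω] [Nontrivial Ω] (hp : IsPreprimitive P Ω) : PP P Ω where
  trans := fun x y => MulAction.exists_smul_eq P x y
  norm := by
    intro x X hX hne hn
    have hco : IsCoatom (stabilizer P x) := (MulAction.isCoatom_stabilizer_iff_preprimitive P x).2 hp
    by_contra hcon
    have htop : normalizer (X : Set P) = ⊤ := by
      apply hco.2
      refine lt_of_le_of_ne hn ?_
      intro h
      exact hcon (le_of_eq h.symm)
    apply hne
    rw [Subgroup.eq_bot_iff_forall]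
    intro k hk
    apply FaithfulSMul.eq_of_smul_eq_smul (α := Ω)
    intro y
    rw [one_smul]
    obtain ⟨g, rfl⟩ := MulAction.exists_smul_eq P x y
    have hg : g⁻¹ ∈ normalizer (X : Set P) := by rw [htop]; trivial
    have h1 : g⁻¹ * k * g⁻¹⁻¹ ∈ X := (Subgroup.mem_normalizer_iff.1 hg k).1 hk
    have h2 := hX h1
    rw [mem_stabilizer_iff, inv_inv, mul_smul, mul_smul] at h2
    exact inv_smul_eq_iff.1 h2

end

/-- the orbits of a point stabilizer only depend on the permutation group -/
theorem card_orbit_range {G : Type u} {Ω : Type v} [Group G] [MulAction G Ω] (a b : Ω) :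
    Nat.card (orbit (stabilizer (MulAction.toPermHom G Ω).range a) b) = Nat.card (orbit (stabilizer G a) b) := by
  have h : orbit (stabilizer (MulAction.toPermHom G Ω).range a) b = orbit (stabilizer G a) b := by
    ext y
    constructor
    · rintro ⟨⟨⟨_, g, rfl⟩, hk⟩, rfl⟩
      exact ⟨⟨g, hk⟩, rfl⟩
    · rintro ⟨⟨g, hk⟩, rfl⟩
      exact ⟨⟨⟨_, g, rfl⟩, hk⟩, rfl⟩
  rw [h]

theorem isPreprimitive_range {G : Type u} {Ω : Type v} [Group G] [MulAction G Ω]
    (hprim : IsPreprimitive G Ω) : IsPreprimitive (MulAction.toPermHom G Ω).range Ω := by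
  let f : Ω →ₑ[(MulAction.toPermHom G Ω).rangeRestrict] Ω :=
    { toFun := id
      map_smul' := fun _ _ => rfl }
  exact IsPreprimitive.of_surjective (f := f) Function.surjective_id

/-- **Reduction of S3544** to a faithful action with (P) and three pairwise coprime directions. -/
theorem red
    (H : ∀ (P Ω : Type v) [Group P] [Finite P] [MulAction P Ω] [Finite Ω] [FaithfulSMul P Ω],
      PP P Ω → ∀ (r₁ r₂ r₃ : Ω → Ω → Prop) (d₁ d₂ d₃ : ℕ), Dir P r₁ d₁ → Dir P r₂ d₂ → Dir P r₃ d₃ →
        d₁.Coprime d₂ → d₁.Coprime d₃ → d₂.Coprime d₃ → False)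
    {G : Type u} {Ω : Type v} [Group G] [Finite G] [MulAction G Ω] [Finite Ω]
    (hprim : MulAction.IsPreprimitive G Ω) (a b c d : Ω)
    (hb : 2 ≤ Nat.card (MulAction.orbit (MulAction.stabilizer G a) b))
    (hc : 2 ≤ Nat.card (MulAction.orbit (MulAction.stabilizer G a) c))
    (hd : 2 ≤ Nat.card (MulAction.orbit (MulAction.stabilizer G a) d)) :
    ¬ ((Nat.card (MulAction.orbit (MulAction.stabilizer G a) b)).Coprime
          (Nat.card (MulAction.orbit (MulAction.stabilizer G a) c)) ∧
       (Nat.card (MulAction.orbit (MulAction.stabilizer G a) b)).Coprime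
          (Nat.card (MulAction.orbit (MulAction.stabilizer G a) d)) ∧
       (Nat.card (MulAction.orbit (MulAction.stabilizer G a) c)).Coprime
          (Nat.card (MulAction.orbit (MulAction.stabilizer G a) d))) := by
  rintro ⟨h1, h2, h3⟩
  have hnt : Nontrivial Ω := by
    by_contra hcon
    rw [not_nontrivial_iff_subsingleton] at hcon
    have : Nat.card (orbit (stabilizer G a) b) ≤ 1 := Finite.card_le_one_iff_subsingleton.2 inferInstance
    omega
  have hpr := isPreprimitive_range hprim
  have hpp : PP (MulAction.toPermHom G Ω).range Ω := pp_of_prim hpr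
  refine H (MulAction.toPermHom G Ω).range Ω hpp _ _ _ _ _ _
    (dirRel_dir hpp.trans a b (by rw [card_orbit_range]; omega))
    (dirRel_dir hpp.trans a c (by rw [card_orbit_range]; omega))
    (dirRel_dir hpp.trans a d (by rw [card_orbit_range]; omega)) ?_ ?_ ?_
  · rw [card_orbit_range, card_orbit_range]; exact h1
  · rw [card_orbit_range, card_orbit_range]; exact h2
  · rw [card_orbit_range, card_orbit_range]; exact h3

end Cfsg.Agent.R2.T3544
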